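/-
The product of two outer automorphisms of `F₄(2)` is inner (the proof of `AutRGD.outSign_of_types`, with the statement
before passing to signs).
-/
import Cfsg.Agent.OddHalf.Table.OutChevTwo
import Cfsg.Agent.H898.SqInner

set_option autoImplicit false
set_option linter.unusedSectionVars false

namespace Cfsg.Agent.H898.F4Aut

open CoxeterSystem Cfsg.Agent.ChevalleyStructure.CoxeterGeom Cfsg.Agent.Tits.Roots Cfsg.Agent.Tits.Core
  Cfsg.Agent.Tits.RootComb Cfsg.Agent.Nodes.Comb Cfsg.Agent.Nodes.Reps Cfsg.Agent.Nodes.BNOf Cfsg.Agent.Nodes.BNOf.RGD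
  Cfsg.Agent.FixBN Cfsg.Agent.Tits.OfBN Cfsg.Agent.Tits.OppRes Cfsg.Agent.LieExceptional.BNPairCore
  Cfsg.Agent.OddHalf.Table.AutBldg Cfsg.Agent.OddHalf.Table.AutRGD Cfsg.Agent.Nodes.RGDChev
open Cfsg.Lie Cfsg.Agent.ChevalleyStructure Cfsg.Agent.ChevalleyStructure.Elts
  Cfsg.Agent.ChevalleyStructure.RootVec Cfsg.Agent.ChevalleyStructure.RootVecTab
  Cfsg.Agent.ChevalleyStructure.NPerm Cfsg.Agent.ChevalleyStructure.CoxeterGeomTypes
  Cfsg.Agent.OddHalf.Table.OutChevTwo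

universe u

section

variable {I W Y : Type*} [Fintype I] [DecidableEq I] [Group W] [Group Y] {M : CoxeterMatrix I}
  {cs : CoxeterSystem M W} {A : I → I → ℤ} {h : IsCartan M A} {p : ℕ} {T : Subgroup Y} {n : I → Y}
  {X : (I → ℤ) → Subgroup Y} [Finite W]

variable (R : RGD cs h p T n X) (hgen : B cs h T X ⊔ NN cs R.nsys = ⊤)

include R hgen in
/-- the automorphisms of a group with root groups of order two are determined, up to inner ones, by the diagram
automorphism. -/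
theorem mul_inner_of_types [Finite Y] [Fact p.Prime] (hcore : (B cs h T X).normalCore = ⊥)
    (hX : ∀ i, ∃ r, ∀ x ∈ X (sr i), x = 1 ∨ x = r)
    (hM : ∀ σ τ : I → I, Function.Injective σ → Function.Injective τ → (∀ i j, M (σ i) (σ j) = M i j) →
      (∀ i j, M (τ i) (τ j) = M i j) → (∃ i, σ i ≠ i) → (∃ i, τ i ≠ i) → ∀ i, σ (τ i) = i)
    (α β : MulAut Y) (hα : ∀ x, α ≠ MulAut.conj x) (hβ : ∀ x, β ≠ MulAut.conj x) :
    ∃ x, α * β = MulAut.conj x := by
  obtain ⟨hN, cs', hcs, hW, S⟩ := exists_setup R hgen hcore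
  have hC : Cox cs' := inferInstance
  have h3 : ∀ i, ∀ x y z,
      (bldg (R.bnPair hgen) (eS R hgen) cs' hcs).δ (QuotientGroup.mk 1) x = cs'.simple i →
      (bldg (R.bnPair hgen) (eS R hgen) cs' hcs).δ (QuotientGroup.mk 1) y = cs'.simple i →
      (bldg (R.bnPair hgen) (eS R hgen) cs' hcs).δ (QuotientGroup.mk 1) z = cs'.simple i →
      x = y ∨ x = z ∨ y = z := by
    intro i x y z hx hy hz
    obtain ⟨a, ha, rfl⟩ := pan_eq R hgen cs' hcs i hx
    obtain ⟨b, hb, rfl⟩ := pan_eq R hgen cs' hcs i hy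
    obtain ⟨c, hc, rfl⟩ := pan_eq R hgen cs' hcs i hz
    obtain ⟨r, hr⟩ := hX i
    rcases hr a ha with rfl | rfl <;> rcases hr b hb with rfl | rfl <;> rcases hr c hc with rfl | rfl <;> simp
  -- the type of an automorphism
  have key : ∀ α : MulAut Y, (∀ x, α ≠ MulAut.conj x) → ∃ (g : Y) (hα : Keep (R.bnPair hgen) (MulAut.conj g * α)),
      ∃ i, sg (eS R hgen) cs' hcs hα i ≠ i := by
    intro α hout
    obtain ⟨g, hg⟩ := exists_conj_keep S α
    refine ⟨g, hg, ?_⟩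
    by_contra hcon
    push Not at hcon
    obtain ⟨u, -, hu⟩ := Cfsg.Agent.OddHalf.Table.AutBldg.exists_eq_conj (eS R hgen) cs' hcs S h3 hg hcon
    apply hout (g⁻¹ * u)
    rw [map_mul, ← hu, map_inv]
    group
  obtain ⟨g, hg, i, hi⟩ := key α hα
  obtain ⟨k, hk, j, hj⟩ := key β hβ
  obtain ⟨u, -, hu⟩ := Cfsg.Agent.OddHalf.Table.AutBldg.exists_eq_conj (eS R hgen) cs' hcs S h3 (hg.mul hk) (fun l => by
    rw [sg_mul]
    exact hM _ _ (sg_injective _ _ _ hg) (sg_injective _ _ _ hk) (sg_M _ _ _ hg) (sg_M _ _ _ hk) ⟨i, hi⟩ ⟨j, hj⟩ l)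
  refine ⟨(α k)⁻¹ * g⁻¹ * u, ?_⟩
  apply MulEquiv.ext
  intro x
  have h5 : g * (α (k * β x * k⁻¹)) * g⁻¹ = u * x * u⁻¹ := DFunLike.congr_fun hu x
  rw [map_mul, map_mul, map_inv] at h5
  show α (β x) = (α k)⁻¹ * g⁻¹ * u * x * ((α k)⁻¹ * g⁻¹ * u)⁻¹
  calc α (β x) = (α k)⁻¹ * g⁻¹ * (g * (α k * α (β x) * (α k)⁻¹) * g⁻¹) * g * α k := by group
    _ = (α k)⁻¹ * g⁻¹ * u * x * ((α k)⁻¹ * g⁻¹ * u)⁻¹ := by rw [h5]; group

end

/-- the product of two outer automorphisms of `D.group F`, `|F| = 2`, is inner, when the diagram has at most one nontrivial automorphism. -/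
theorem mul_inner_group {D : ChevalleyDatum} {l : ℕ} [Nonempty (Fin l)] {M : CoxeterMatrix (Fin l)} (hp : IsType D l M)
    (F : Type u) [Field F] (hF : Nat.card F = 2) [IsSimpleGroup ↥(D.group F)]
    (hM : ∀ σ τ : Fin l → Fin l, Function.Injective σ → Function.Injective τ →
      (∀ i j, M (σ i) (σ j) = M i j) →
      (∀ i j, M (τ i) (τ j) = M i j) → (∃ i, σ i ≠ i) → (∃ i, τ i ≠ i) → ∀ i, σ (τ i) = i)
    (α β : MulAut ↥(D.group F)) (hα : ∀ x, α ≠ MulAut.conj x) (hβ : ∀ x, β ≠ MulAut.conj x) :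
    ∃ x, α * β = MulAut.conj x := by
  have hfin : Finite F := Nat.finite_of_card_ne_zero (by rw [hF]; norm_num)
  have hc := charP_two hF
  have hprime : Fact (Nat.Prime 2) := ⟨Nat.prime_two⟩
  have hW := finite_W hp M.toCoxeterSystem
  have R := rgd (K := F) hp M.toCoxeterSystem 2
  have hgen := gen (K := F) hp M.toCoxeterSystem 2
  obtain ⟨i₀⟩ := (inferInstance : Nonempty (Fin l))
  have hcore := Cfsg.Agent.Tits.OfBN.normalCore_eq_bot (R.bnPair hgen) ⟨_, i₀, rfl⟩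
  refine mul_inner_of_types R hgen hcore ?_ hM α β hα hβ
  intro i
  refine ⟨⟨xG hp.inList (D.simple i) (1 : F), xG_mem_group hp.inList _ _⟩, ?_⟩
  rintro ⟨x, hx⟩ hxX
  rw [Subgroup.mem_subgroupOf, XV_sr hp i, mem_rootSubgroup_iff hp.inList] at hxX
  obtain ⟨t, ht⟩ := hxX
  have ht' : x = xG hp.inList (D.simple i) t := ht
  rcases eq_zero_or_one hF t with rfl | rfl
  · left
    apply Subtype.ext
    rw [xG_zero] at ht'
    exact ht'
  · right
    exact Subtype.ext ht'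

/-- all squares of automorphisms of `F₄(2)` are inner -/
theorem autSq_F4 (F : Type u) [Field F] (hF : Nat.card F = 2) :
    Cfsg.Agent.H898.SqInner.AutSq ↥(chevF4.group F) := by
  have hs : IsSimpleGroup ↥(chevF4.group F) := (Cfsg.Agent.S1054.result chevF4 (by simp)).1
  refine Cfsg.Agent.H898.SqInner.of_mul_outer fun α β hα hβ => ?_
  refine mul_inner_group (l := 4) (M := CoxeterMatrix.F₄) (by simp [IsType, typeList]) F hF ?_ α β hα hβ
  intro σ τ _ _ hσ hτ hσ1 hτ1 i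
  rw [diag_F4 σ hσ hσ1, diag_F4 τ hτ hτ1]
  revert i
  decide

end Cfsg.Agent.H898.F4Aut
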