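/-
The homomorphism from the Steinberg group of type `F₄` over the field with two elements to the group `Gam`.
-/
import Cfsg.Agent.H898.F4ChkA
import Cfsg.Agent.H898.F4ChkB
import Cfsg.Agent.TwoESix.CentLin
set_option autoImplicit false

namespace Cfsg.Agent.H898.F4Emb

open Cfsg.Lie Cfsg.Agent.Lib Cfsg.Agent.Lib.F2Mat Cfsg.Agent.Lib.F2MatGroup
open Cfsg.Agent.TwoESix.Data Cfsg.Agent.TwoESix.Gens Cfsg.Agent.TwoESix.Iso
open Cfsg.Agent.H898.F4Data

theorem all_range' {q : ℕ → Bool} {a n : ℕ} (h : (List.range' a n).all q = true) {r : ℕ} (h1 : a ≤ r)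
    (h2 : r < a + n) : q r = true :=
  List.all_eq_true.1 h r (List.mem_range'_1.2 ⟨h1, h2⟩)

theorem chk_all {r : ℕ} (hr : r < 48) : chkR r = true := by
  rcases Nat.lt_or_ge r 12 with h | h
  · exact all_range' chk0 (by omega) (by omega)
  rcases Nat.lt_or_ge r 24 with h | h
  · exact all_range' chk1 (by omega) (by omega)
  rcases Nat.lt_or_ge r 36 with h | h
  · exact all_range' chk2 (by omega) (by omega)
  · exact all_range' chk3 (by omega) (by omega)

theorem sq_check : ((List.range 48).all fun r =>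
    Nat.beq (F2Mat.mul 78 (xs.getD r 0) (xs.getD r 0)) (F2Mat.one 78)) = true := by decide +kernel

theorem X_sq {r : ℕ} (hr : r < 48) : X r * X r = 1 :=
  ((codes_X hr).mul (codes_X hr)).eq_one (List.all_eq_true.1 sq_check r (List.mem_range.2 hr))

theorem X_inv {r : ℕ} (hr : r < 48) : (X r)⁻¹ = X r := inv_eq_of_mul_eq_one_left (X_sq hr)

theorem X_ge {r : ℕ} (hr : 48 ≤ r) : X r = 1 := by
  have h1 : xw.getD r [] = [] := by
    rw [List.getD_eq_default]
    have : xw.length = 48 := by decide +kernel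
    omega
  rw [X, h1, evG_nil]

theorem getG_ofFn {n : ℕ} (f : Fin n → GL (Fin 78) (ZMod 2)) (i : Fin n) : getG (List.ofFn f) i = f i := by
  unfold getG
  rw [List.getD_eq_getElem _ _ (by simp), List.getElem_ofFn]

/-- list of the root elements -/
def LX : List (GL (Fin 78) (ZMod 2)) := List.ofFn fun i : Fin 48 => X i

theorem codes_LX : List.Forall₂ (Codes 78) LX xs := by
  have h1 : xs = List.ofFn fun i : Fin 48 => xs.getD i 0 := by
    apply List.ext_getElem
    · rw [List.length_ofFn]; decide +kernel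
    · intro i h2 h3
      rw [List.getElem_ofFn, List.getD_eq_getElem _ _ h2]
  rw [h1]
  unfold LX
  rw [List.forall₂_iff_get]
  refine ⟨by simp, fun i h2 h3 => ?_⟩
  simp only [List.get_eq_getElem, List.getElem_ofFn]
  exact codes_X (by simpa using h2)

theorem evG_LX (l : List ℕ) (hl : l.all (fun k => Nat.blt k 48) = true) : evG LX l = (l.map X).prod := by
  induction l with
  | nil => rfl
  | cons k l ih =>
    rw [List.all_cons, Bool.and_eq_true, Nat.blt_eq] at hl
    rw [evG_cons, ih hl.2, List.map_cons, List.prod_cons]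
    congr 1
    exact getG_ofFn (fun i : Fin 48 => X i) ⟨k, hl.1⟩

/-- the commutator formula -/
theorem comm_X {r s : ℕ} (hr : r < 48) (hs : s < 48) (h1 : s ≠ r) (h2 : s ≠ chevF4.neg r) :
    (X s)⁻¹ * (X r)⁻¹ * X s * X r = ((odd (chevF4.commTerms r s)).map X).prod := by
  have h3 := List.all_eq_true.1 (chk_all hr) s (List.mem_range.2 hs)
  have e1 : Nat.beq s r = false := by
    rw [← Bool.not_eq_true]; intro h; exact h1 (Nat.eq_of_beq_eq_true h)
  have e2 : Nat.beq s (chevF4.neg r) = false := by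
    rw [← Bool.not_eq_true]; intro h; exact h2 (Nat.eq_of_beq_eq_true h)
  rw [e1, e2, Bool.false_or, Bool.false_or, Bool.and_eq_true] at h3
  rw [← evG_LX _ h3.2, X_inv hr, X_inv hs]
  have h4 := (((codes_X hs).mul (codes_X hr)).mul ((codes_X hs).mul (codes_X hr))).eq (codes_evW codes_LX _) h3.1
  rw [← h4]
  simp only [mul_assoc]

/-- values on the generators of the Steinberg group -/
def XX (r : ℕ) (t : ZMod 2) : GL (Fin 78) (ZMod 2) := if t = 0 then 1 else X r

theorem XX_zero (r : ℕ) : XX r 0 = 1 := if_pos rfl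
theorem XX_one (r : ℕ) : XX r 1 = X r := if_neg (by decide)

def fg (p : Fin chevF4.nroots × ZMod 2) : GL (Fin 78) (ZMod 2) := XX p.1 p.2

theorem lift_stX (r : ℕ) (t : ZMod 2) : FreeGroup.lift fg (chevF4.stX r t) = XX r t := by
  unfold ChevalleyDatum.stX
  split_ifs with h
  · rw [FreeGroup.lift_apply_of]; rfl
  · rw [map_one, XX, X_ge (by have : chevF4.nroots = 48 := rfl; omega)]
    split_ifs <;> rfl

theorem lift_stWord (w : List (ℕ × ZMod 2)) :
    FreeGroup.lift fg (chevF4.stWord w) = (w.map fun p => XX p.1 p.2).prod := by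
  unfold ChevalleyDatum.stWord
  rw [map_list_prod, List.map_map]
  congr 1
  apply List.map_congr_left
  intro p _
  exact lift_stX p.1 p.2

theorem commTerms_pos {D : ChevalleyDatum} {r s : ℕ} {c : ℕ × ℤ × ℕ × ℕ} (h : c ∈ D.commTerms r s) :
    c.2.2.1 ≠ 0 ∧ c.2.2.2 ≠ 0 := by
  unfold ChevalleyDatum.commTerms at h
  rw [List.mem_filterMap] at h
  obtain ⟨a, ha, hac⟩ := h
  rw [Option.map_eq_some_iff] at hac
  obtain ⟨k, -, rfl⟩ := hac
  simp only [List.mem_cons, List.mem_nil_iff, or_false] at ha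
  rcases ha with rfl | rfl | rfl | rfl | rfl | rfl | rfl <;> simp

theorem commWord_zero_left' {G : Type*} [Group G] {Y : ℕ → ZMod 2 → G} (hY : ∀ r, Y r 0 = 1) {D : ChevalleyDatum}
    (r s : ℕ) (u : ZMod 2) : ((D.commWord (ZMod 2) r s 0 u).map fun p => Y p.1 p.2).prod = 1 := by
  apply List.prod_eq_one
  intro x hx
  unfold ChevalleyDatum.commWord at hx
  obtain ⟨p, hp, rfl⟩ := List.mem_map.1 hx
  obtain ⟨c, hc, rfl⟩ := List.mem_map.1 hp
  dsimp only
  rw [neg_zero, zero_pow (commTerms_pos hc).1, mul_zero, zero_mul, hY]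

theorem commWord_zero_right' {G : Type*} [Group G] {Y : ℕ → ZMod 2 → G} (hY : ∀ r, Y r 0 = 1) {D : ChevalleyDatum}
    (r s : ℕ) (t : ZMod 2) : ((D.commWord (ZMod 2) r s t 0).map fun p => Y p.1 p.2).prod = 1 := by
  apply List.prod_eq_one
  intro x hx
  unfold ChevalleyDatum.commWord at hx
  obtain ⟨p, hp, rfl⟩ := List.mem_map.1 hx
  obtain ⟨c, hc, rfl⟩ := List.mem_map.1 hp
  dsimp only
  rw [zero_pow (commTerms_pos hc).2, mul_zero, hY]

theorem commWord_zero_left {D : ChevalleyDatum} (r s : ℕ) (u : ZMod 2) :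
    ((D.commWord (ZMod 2) r s 0 u).map fun p => XX p.1 p.2).prod = 1 :=
  commWord_zero_left' XX_zero r s u

theorem commWord_zero_right {D : ChevalleyDatum} (r s : ℕ) (t : ZMod 2) :
    ((D.commWord (ZMod 2) r s t 0).map fun p => XX p.1 p.2).prod = 1 :=
  commWord_zero_right' XX_zero r s t

theorem intCast_two (z : ℤ) : (z : ZMod 2) = if z % 2 = 0 then 0 else 1 := by
  rcases Int.emod_two_eq_zero_or_one z with h | h
  · rw [if_pos h]
    exact (ZMod.intCast_zmod_eq_zero_iff_dvd z 2).2 (Int.dvd_of_emod_eq_zero h)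
  · rw [if_neg (by omega)]
    obtain ⟨y, rfl⟩ : ∃ y, z = 2 * y + 1 := ⟨z / 2, by omega⟩
    push_cast
    have : (2 : ZMod 2) = 0 := by decide
    rw [this, zero_mul, zero_add]

theorem commWord_one {D : ChevalleyDatum} (r s : ℕ) :
    ((D.commWord (ZMod 2) r s 1 1).map fun p => XX p.1 p.2).prod = ((odd (D.commTerms r s)).map X).prod := by
  unfold ChevalleyDatum.commWord
  induction D.commTerms r s with
  | nil => rfl
  | cons c l ih =>
    rw [List.map_cons, List.map_cons, List.prod_cons, ih]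
    have h1 : ((c.2.1 : ZMod 2) * (-1) ^ c.2.2.1 * 1 ^ c.2.2.2) = if c.2.1 % 2 = 0 then 0 else 1 := by
      have : (-1 : ZMod 2) = 1 := by decide
      rw [this, one_pow, one_pow, mul_one, mul_one, intCast_two]
    dsimp only
    rw [h1]
    by_cases h2 : c.2.1 % 2 = 0
    · rw [if_pos h2, XX_zero, one_mul]
      have : odd (c :: l) = odd l := by unfold odd; rw [List.filterMap_cons, if_pos h2]
      rw [this]
    · rw [if_neg h2, XX_one]
      have : odd (c :: l) = c.1 :: odd l := by unfold odd; rw [List.filterMap_cons, if_neg h2]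
      rw [this, List.map_cons, List.prod_cons]

theorem zmod_two (t : ZMod 2) : t = 0 ∨ t = 1 := by revert t; decide

theorem lift_hWord (r : ℕ) (hr : r < 48) : FreeGroup.lift fg (chevF4.stH r (1 : ZMod 2)) = 1 := by
  unfold ChevalleyDatum.stH
  rw [lift_stWord]
  unfold ChevalleyDatum.hWord ChevalleyDatum.nWord
  have e1 : (-(1 : ZMod 2)⁻¹) = 1 := by rw [inv_one]; decide
  have e2 : (-1 : ZMod 2) = 1 := by decide
  have hn : chevF4.neg r < 48 := by
    have h : ((List.range 48).all fun r => Nat.blt (chevF4.neg r) 48) = true := by decide +kernel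
    have := List.all_eq_true.1 h r (List.mem_range.2 hr)
    rwa [Nat.blt_eq] at this
  rw [e2, e1]
  simp only [List.map_append, List.map_cons, List.map_nil, List.prod_append, List.prod_cons, List.prod_nil,
    XX_one, mul_one]
  calc X r * (X (chevF4.neg r) * X r) * (X r * (X (chevF4.neg r) * X r))
      = X r * (X (chevF4.neg r) * ((X r * X r) * (X (chevF4.neg r) * X r))) := by simp only [mul_assoc]
    _ = X r * ((X (chevF4.neg r) * X (chevF4.neg r)) * X r) := by rw [X_sq hr, one_mul]; simp only [mul_assoc]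
    _ = 1 := by rw [X_sq hn, one_mul, X_sq hr]

/-- Steinberg's relations -/
theorem rels : ∀ g ∈ chevF4.steinbergRels (ZMod 2), FreeGroup.lift fg g = 1 := by
  rintro g ((⟨r, t, u, hr, rfl⟩ | ⟨r, s, t, u, hr, hs, h1, h2, rfl⟩) | ⟨r, t, u, hr, ht, hu, rfl⟩)
  · rw [map_mul, map_mul, map_inv, lift_stX, lift_stX, lift_stX]
    rcases zmod_two t with rfl | rfl
    · rw [XX_zero, one_mul, zero_add, mul_inv_cancel]
    · rcases zmod_two u with rfl | rfl
      · rw [XX_zero, mul_one, add_zero, mul_inv_cancel]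
      · have : (1 + 1 : ZMod 2) = 0 := by decide
        rw [this, XX_zero, XX_one, X_sq hr, inv_one, mul_one]
  · simp only [map_mul, map_inv, lift_stX, lift_stWord]
    rcases zmod_two t with rfl | rfl
    · rw [commWord_zero_left, XX_zero]; simp
    · rcases zmod_two u with rfl | rfl
      · rw [commWord_zero_right, XX_zero]; simp
      · rw [commWord_one, XX_one, XX_one, comm_X hr hs h1 h2, mul_inv_cancel]
  · have ht1 : t = 1 := (zmod_two t).resolve_left ht
    have hu1 : u = 1 := (zmod_two u).resolve_left hu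
    subst ht1 hu1
    simp only [map_mul, map_inv, mul_one, lift_hWord r hr, inv_one]

/-- the homomorphism from the Steinberg group -/
noncomputable def stHom : chevF4.SteinbergGroup (ZMod 2) →* GL (Fin 78) (ZMod 2) := PresentedGroup.toGroup rels

theorem stHom_stGen (r : ℕ) : stHom (chevF4.stGen (ZMod 2) r 1) = X r := by
  show FreeGroup.lift fg (chevF4.stX r 1) = X r
  rw [lift_stX, XX_one]

theorem getG_LG_mem (i : ℕ) : getG LG i ∈ Gam := by
  rcases Nat.lt_or_ge i 10 with h | h
  · have h1 := getG_T ⟨i, h⟩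
    rw [show getG LG i = T ⟨i, h⟩ from h1]
    exact T_mem _
  · rcases Nat.lt_or_ge i 26 with h2 | h2
    · have h1 := getG_gM ⟨i - 10, by omega⟩
      have h3 : 10 + ((⟨i - 10, by omega⟩ : Fin 16) : ℕ) = i := by
        show 10 + (i - 10) = i
        omega
      rw [h3] at h1
      rw [h1]
      exact Subgroup.subset_closure ⟨_, rfl⟩
    · have h1 : getG LG i = 1 := by
        unfold getG
        rw [List.getD_eq_default]
        have : LG.length = 26 := by simp [LG]
        omega
      rw [h1]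
      exact Gam.one_mem

theorem X_mem (r : ℕ) : X r ∈ Gam := evG_mem' Gam _ fun i _ => getG_LG_mem i

theorem stHom_mem (g : chevF4.SteinbergGroup (ZMod 2)) : stHom g ∈ Gam := by
  have h1 : (⊤ : Subgroup (chevF4.SteinbergGroup (ZMod 2))) ≤ Gam.comap stHom := by
    rw [← PresentedGroup.closure_range_of, Subgroup.closure_le]
    rintro _ ⟨⟨r, t⟩, rfl⟩
    show FreeGroup.lift fg (FreeGroup.of (r, t)) ∈ Gam
    rw [FreeGroup.lift_apply_of]
    show XX r t ∈ Gam
    rcases zmod_two t with rfl | rfl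
    · rw [XX_zero]; exact Gam.one_mem
    · rw [XX_one]; exact X_mem r
  exact h1 (Subgroup.mem_top g)

/-- the 25 elements of `CentLin` are root elements -/
theorem um_check : ((List.range 25).all fun i => Nat.blt (um.getD i 48) 48 &&
    Nat.beq (xs.getD (um.getD i 48) 0) (Cfsg.Agent.TwoESix.CentData.tm.getD i 0)) = true := by decide +kernel

theorem U0_eq {i : ℕ} (hi : i < 25) : Cfsg.Agent.TwoESix.CentLin.U0 i = X (um.getD i 48) := by
  have h1 := List.all_eq_true.1 um_check i (List.mem_range.2 hi)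
  rw [Bool.and_eq_true, Nat.blt_eq] at h1
  exact ((codes_X h1.1).eq (Cfsg.Agent.TwoESix.CentLin.codes_U0 hi) h1.2).symm

/-- the centralizer of the image has exponent two -/
theorem cent_sq {c : GL (Fin 78) (ZMod 2)} (hc : ∀ h ∈ stHom.range, c * h = h * c) : c * c = 1 := by
  have h1 : ∀ i < 25, c * Cfsg.Agent.TwoESix.CentLin.U0 i = Cfsg.Agent.TwoESix.CentLin.U0 i * c := by
    intro i hi
    rw [U0_eq hi]
    exact hc _ ⟨_, stHom_stGen _⟩
  rcases Cfsg.Agent.TwoESix.CentLin.step2 h1 with rfl | rfl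
  · rw [one_mul]
  · exact Cfsg.Agent.TwoESix.Phi.Phi_sq

end Cfsg.Agent.H898.F4Emb
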