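/-
Three pairwise non-conjugate copies of a subgroup permuted by an outer element of order three.
-/
import Mathlib
set_option autoImplicit false

namespace Cfsg.Agent.H898.Three

/-- `H ≤ E`, all squares of automorphisms of `H` inner, centralizer of `H` of exponent two; `D` of order three normalizes
`E` and is not in `E`: then the conjugates of `H` under the powers of `D` are not conjugate in `E` (element form). -/
theorem core {G : Type*} [Group G] (E H : Subgroup G) (D : G) (hD3 : D ^ 3 = 1)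
    (hDE1 : ∀ e ∈ E, D * e * D⁻¹ ∈ E) (hDE : D ∉ E) (hHE : H ≤ E)
    (ha : ∀ α : MulAut H, ∃ h : H, α * α = MulAut.conj h)
    (hb : ∀ c : G, (∀ h ∈ H, c * h = h * c) → c * c = 1)
    (k : ℕ) (hk : ¬ 3 ∣ k) (g : G) (hg : g ∈ E)
    (hn : ∀ h : G, (g * D ^ k) * h * (g * D ^ k)⁻¹ ∈ H ↔ h ∈ H) : False := by
  -- the cosets `E D^m`
  have hconj : ∀ m : ℕ, ∀ e ∈ E, D ^ m * e * (D ^ m)⁻¹ ∈ E := by
    intro m
    induction m with
    | zero => intro e he; simpa using he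
    | succ m ih =>
      intro e he
      have h1 := hDE1 _ (ih e he)
      have h2 : D * (D ^ m * e * (D ^ m)⁻¹) * D⁻¹ = D ^ (m + 1) * e * (D ^ (m + 1))⁻¹ := by
        rw [pow_succ']; group
      rwa [h2] at h1
  set n : G := g * D ^ k with hndef
  -- the automorphism induced by `n`
  let α : MulAut H :=
    { toFun := fun h => ⟨n * h * n⁻¹, (hn h).2 h.2⟩
      invFun := fun h => ⟨n⁻¹ * h * n, (hn _).1 (by
        have : n * (n⁻¹ * (h : G) * n) * n⁻¹ = h := by group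
        rw [this]; exact h.2)⟩
      left_inv := fun h => Subtype.ext (by simp only; group)
      right_inv := fun h => Subtype.ext (by simp only; group)
      map_mul' := fun a b => Subtype.ext (by simp only [Subgroup.coe_mul]; group) }
  obtain ⟨h, hh⟩ := ha α
  have hc : ∀ x ∈ H, ((h : G)⁻¹ * (n * n)) * x = x * ((h : G)⁻¹ * (n * n)) := by
    intro x hx
    have h1 : ((α * α) ⟨x, hx⟩ : H) = MulAut.conj h ⟨x, hx⟩ := by rw [hh]
    have h2 : n * (n * x * n⁻¹) * n⁻¹ = (h : G) * x * (h : G)⁻¹ := by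
      have := congrArg (fun y : H => (y : G)) h1
      simpa [α] using this
    have h3 : (n * n) * x = (h : G) * x * (h : G)⁻¹ * (n * n) := by
      rw [← h2]; group
    rw [mul_assoc, h3]; group
  have h1 := hb _ hc
  -- coset computation
  have hcos : ∀ a b : G, ∀ s t : ℕ, a * (D ^ s)⁻¹ ∈ E → b * (D ^ t)⁻¹ ∈ E → (a * b) * (D ^ (s + t))⁻¹ ∈ E := by
    intro a b s t h1 h2
    have h3 := E.mul_mem h1 (hconj s _ h2)
    have h4 : a * (D ^ s)⁻¹ * (D ^ s * (b * (D ^ t)⁻¹) * (D ^ s)⁻¹) = (a * b) * (D ^ (s + t))⁻¹ := by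
      rw [Nat.add_comm s t, pow_add]; group
    rwa [h4] at h3
  have hnE : n * (D ^ k)⁻¹ ∈ E := by rw [hndef]; simpa using hg
  have hhE : (h : G)⁻¹ * (D ^ 0)⁻¹ ∈ E := by simpa using hHE h.2
  have h2 := hcos _ _ _ _ hnE hnE
  have h3 := hcos _ _ _ _ hhE h2
  have h4 := hcos _ _ _ _ h3 h3
  rw [h1, one_mul] at h4
  have h5 : D ^ (0 + (k + k) + (0 + (k + k))) ∈ E := by simpa using E.inv_mem h4
  have h6 : D ^ (4 * k) ∈ E := by
    have : 0 + (k + k) + (0 + (k + k)) = 4 * k := by ring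
    rwa [this] at h5
  have h7 : D ^ k ∈ E := by
    have : D ^ (4 * k) = D ^ k := by
      have : 4 * k = 3 * k + k := by ring
      rw [this, pow_add, pow_mul, hD3, one_pow, one_mul]
    rwa [this] at h6
  apply hDE
  have h8 : k % 3 = 1 ∨ k % 3 = 2 := by omega
  have h9 : D ^ k = D ^ (k % 3) := by
    conv_lhs => rw [← Nat.div_add_mod k 3, pow_add, pow_mul, hD3, one_pow, one_mul]
  rw [h9] at h7
  rcases h8 with h | h
  · rw [h, pow_one] at h7; exact h7
  · rw [h] at h7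
    have h10 := E.mul_mem h7 h7
    have h11 : D ^ 2 * D ^ 2 = D := by
      rw [← pow_add]
      calc D ^ (2 + 2) = D ^ 3 * D := by rw [← pow_succ]
        _ = D := by rw [hD3, one_mul]
    rwa [h11] at h10

/-- conjugates of `H` by the powers of `D` -/
def cj {G : Type*} [Group G] (H : Subgroup G) (D : G) (i : Fin 3) : Subgroup G :=
  H.map (MulAut.conj (D ^ (i : ℕ))).toMonoidHom

theorem mem_cj {G : Type*} [Group G] {H : Subgroup G} {D : G} {i : Fin 3} {x : G} :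
    x ∈ cj H D i ↔ (D ^ (i : ℕ))⁻¹ * x * D ^ (i : ℕ) ∈ H := by
  unfold cj
  rw [Subgroup.mem_map]
  constructor
  · rintro ⟨y, hy, rfl⟩
    have : (D ^ (i : ℕ))⁻¹ * (MulAut.conj (D ^ (i : ℕ))).toMonoidHom y * D ^ (i : ℕ) = y := by
      change (D ^ (i : ℕ))⁻¹ * (D ^ (i : ℕ) * y * (D ^ (i : ℕ))⁻¹) * D ^ (i : ℕ) = y
      group
    rwa [this]
  · intro h
    refine ⟨_, h, ?_⟩
    change D ^ (i : ℕ) * ((D ^ (i : ℕ))⁻¹ * x * D ^ (i : ℕ)) * (D ^ (i : ℕ))⁻¹ = x
    group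

theorem cj_le {G : Type*} [Group G] {E H : Subgroup G} {D : G}
    (hDE1 : ∀ e ∈ E, D * e * D⁻¹ ∈ E) (hHE : H ≤ E) (i : Fin 3) : cj H D i ≤ E := by
  have hconj : ∀ m : ℕ, ∀ e ∈ E, D ^ m * e * (D ^ m)⁻¹ ∈ E := by
    intro m
    induction m with
    | zero => intro e he; simpa using he
    | succ m ih =>
      intro e he
      have h1 := hDE1 _ (ih e he)
      have h2 : D * (D ^ m * e * (D ^ m)⁻¹) * D⁻¹ = D ^ (m + 1) * e * (D ^ (m + 1))⁻¹ := by
        rw [pow_succ']; group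
      rwa [h2] at h1
  rintro _ ⟨x, hx, rfl⟩
  exact hconj i x (hHE hx)

/-- the three conjugates are not conjugate under `E` -/
theorem not_conj {G : Type*} [Group G] (E H : Subgroup G) (D : G) (hD3 : D ^ 3 = 1)
    (hDE1 : ∀ e ∈ E, D * e * D⁻¹ ∈ E) (hDE : D ∉ E) (hHE : H ≤ E)
    (ha : ∀ α : MulAut H, ∃ h : H, α * α = MulAut.conj h)
    (hb : ∀ c : G, (∀ h ∈ H, c * h = h * c) → c * c = 1)
    {i j : Fin 3} (hij : i ≠ j) {g : G} (hg : g ∈ E) :
    ¬ ∀ x : G, x ∈ cj H D i ↔ g * x * g⁻¹ ∈ cj H D j := by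
  intro h
  -- `n = D^{-j} g D^i = D^{3-j} g D^i` normalizes `H`
  have hconj : ∀ m : ℕ, ∀ e ∈ E, D ^ m * e * (D ^ m)⁻¹ ∈ E := by
    intro m
    induction m with
    | zero => intro e he; simpa using he
    | succ m ih =>
      intro e he
      have h1 := hDE1 _ (ih e he)
      have h2 : D * (D ^ m * e * (D ^ m)⁻¹) * D⁻¹ = D ^ (m + 1) * e * (D ^ (m + 1))⁻¹ := by
        rw [pow_succ']; group
      rwa [h2] at h1
  have hj : (D ^ (j : ℕ))⁻¹ = D ^ (3 - (j : ℕ)) := by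
    have h1 : D ^ (3 - (j : ℕ)) * D ^ (j : ℕ) = 1 := by
      rw [← pow_add, Nat.sub_add_cancel (by omega), hD3]
    exact (eq_inv_of_mul_eq_one_left h1).symm
  have hk : ¬ 3 ∣ (3 - (j : ℕ)) + (i : ℕ) := by
    have h1 : (i : ℕ) ≠ (j : ℕ) := fun h => hij (Fin.ext h)
    omega
  refine core E H D hD3 hDE1 hDE hHE ha hb ((3 - (j : ℕ)) + (i : ℕ)) hk
    (D ^ (3 - (j : ℕ)) * g * (D ^ (3 - (j : ℕ)))⁻¹) (hconj _ _ hg) ?_
  intro x
  have h1 := h (D ^ (i : ℕ) * x * (D ^ (i : ℕ))⁻¹)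
  rw [mem_cj, mem_cj] at h1
  have e1 : (D ^ (i : ℕ))⁻¹ * (D ^ (i : ℕ) * x * (D ^ (i : ℕ))⁻¹) * D ^ (i : ℕ) = x := by group
  rw [e1] at h1
  rw [h1]
  have e2 : D ^ (3 - (j : ℕ)) * g * (D ^ (3 - (j : ℕ)))⁻¹ * D ^ (3 - (j : ℕ) + (i : ℕ)) * x *
      (D ^ (3 - (j : ℕ)) * g * (D ^ (3 - (j : ℕ)))⁻¹ * D ^ (3 - (j : ℕ) + (i : ℕ)))⁻¹ =
      (D ^ (j : ℕ))⁻¹ * (g * (D ^ (i : ℕ) * x * (D ^ (i : ℕ))⁻¹) * g⁻¹) * D ^ (j : ℕ) := by
    rw [← hj, pow_add, ← hj]
    group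
  rw [e2]

/-- transported to an isomorphic copy `f (E) = T` of `E`: three subgroups of `T` isomorphic to `H`, pairwise non-conjugate -/
theorem exists_three {G G' : Type*} [Group G] [Group G'] (E H : Subgroup G) (D : G) (hD3 : D ^ 3 = 1)
    (hDE1 : ∀ e ∈ E, D * e * D⁻¹ ∈ E) (hDE : D ∉ E) (hHE : H ≤ E)
    (ha : ∀ α : MulAut H, ∃ h : H, α * α = MulAut.conj h)
    (hb : ∀ c : G, (∀ h ∈ H, c * h = h * c) → c * c = 1)
    (f : G →* G') (hf : Function.Injective f) (T : Subgroup G') (hT : E.map f = T) :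
    ∃ S : Fin 3 → Subgroup T, (∀ i, Nonempty (S i ≃* H)) ∧
      ∀ i j, i ≠ j → ∀ g : T, (S i).map (MulAut.conj g).toMonoidHom ≠ S j := by
  subst hT
  refine ⟨fun i => ((cj H D i).map f).subgroupOf (E.map f), fun i => ⟨?_⟩, ?_⟩
  · have h1 : (cj H D i).map f ≤ E.map f := Subgroup.map_mono (cj_le hDE1 hHE i)
    refine (Subgroup.subgroupOfEquivOfLe h1).trans ?_
    refine ((cj H D i).equivMapOfInjective f hf).symm.trans ?_
    exact (H.equivMapOfInjective _ (MulAut.conj (D ^ (i : ℕ))).injective).symm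
  · rintro i j hij ⟨_, ⟨g, hg, rfl⟩⟩ h
    refine not_conj E H D hD3 hDE1 hDE hHE ha hb hij hg fun x => ?_
    constructor
    · intro hx
      have hxE : x ∈ E := cj_le hDE1 hHE i hx
      have hm : f (g * x * g⁻¹) ∈ E.map f :=
        Subgroup.mem_map_of_mem f (E.mul_mem (E.mul_mem hg hxE) (E.inv_mem hg))
      have h2 : (⟨f (g * x * g⁻¹), hm⟩ : E.map f) ∈ ((cj H D j).map f).subgroupOf (E.map f) := by
        have h3 := h.le
        refine h3 ⟨⟨f x, Subgroup.mem_map_of_mem f hxE⟩, ?_, ?_⟩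
        · exact ⟨x, hx, rfl⟩
        · apply Subtype.ext
          change f g * f x * (f g)⁻¹ = f (g * x * g⁻¹)
          rw [map_mul, map_mul, map_inv]
      obtain ⟨y, hy, hy2⟩ := h2
      rw [← hf hy2]
      exact hy
    · intro hx
      have hxE : g * x * g⁻¹ ∈ E := cj_le hDE1 hHE j hx
      have h2 : (⟨f (g * x * g⁻¹), Subgroup.mem_map_of_mem f hxE⟩ : E.map f) ∈
          ((cj H D j).map f).subgroupOf (E.map f) := ⟨_, hx, rfl⟩
      obtain ⟨⟨_, ⟨z, hz, rfl⟩⟩, hy, hy2⟩ := h.ge h2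
      obtain ⟨y, hy3, hy4⟩ := hy
      have h3 : f (g * z * g⁻¹) = f (g * x * g⁻¹) := by
        have := congrArg (fun y : E.map f => (y : G')) hy2
        change f g * f z * (f g)⁻¹ = f (g * x * g⁻¹) at this
        rw [← this, map_mul, map_mul, map_inv]
      have h4 : z = x := by
        have h5 := hf h3
        simpa using h5
      have h5 : y = z := hf hy4
      rw [← h4, ← h5]
      exact hy3

end Cfsg.Agent.H898.Three
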