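/-
Three pairwise non-conjugate images of an injective homomorphism into `E`.
-/
import Cfsg.Agent.H898.Three
import Cfsg.Agent.H898.SqInner
set_option autoImplicit false

namespace Cfsg.Agent.H898.Main

open Cfsg.Agent.H898.Three Cfsg.Agent.H898.SqInner

theorem three_of_hom {G G' Y : Type*} [Group G] [Group G'] [Group Y] (E : Subgroup G) (D : G) (hD3 : D ^ 3 = 1)
    (hDE1 : ∀ e ∈ E, D * e * D⁻¹ ∈ E) (hDE : D ∉ E) (φ : Y →* G) (hφ : Function.Injective φ) (hle : ∀ y, φ y ∈ E)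
    (hY : AutSq Y) (hb : ∀ c : G, (∀ y, c * φ y = φ y * c) → c * c = 1)
    (f : G →* G') (hf : Function.Injective f) (T : Subgroup G') (hT : E.map f = T) :
    ∃ S : Fin 3 → Subgroup T, (∀ i, Nonempty (S i ≃* Y)) ∧
      ∀ i j, i ≠ j → ∀ g : T, (S i).map (MulAut.conj g).toMonoidHom ≠ S j := by
  have hle' : φ.range ≤ E := by
    rintro _ ⟨g, rfl⟩
    exact hle g
  have ha : AutSq φ.range := congr (MonoidHom.ofInjective hφ).symm hY
  obtain ⟨S, hS1, hS2⟩ := exists_three E φ.range D hD3 hDE1 hDE hle' ha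
    (fun c hc => hb c fun y => hc _ ⟨y, rfl⟩) f hf T hT
  exact ⟨S, fun i => ⟨(hS1 i).some.trans (MonoidHom.ofInjective hφ).symm⟩, hS2⟩

end Cfsg.Agent.H898.Main
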