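/-
The diagonal automorphism of order three of `twistedE6 K 2`, `|K| = 4`, as a matrix over the field with two elements.
-/
import Cfsg.Agent.TwoESix.Iso
import Cfsg.Agent.ChevalleyStructure.TorusConj
set_option autoImplicit false

namespace Cfsg.Agent.H898.Diag

open Cfsg.Lie Cfsg.Agent.ChevalleyStructure.SparseEng Cfsg.Agent.TwoESix.Coded Cfsg.Agent.TwoESix.Data
open Cfsg.Agent.TwoESix.Base Cfsg.Agent.TwoESix.Iso Cfsg.Agent.Lib.F2MatGroup
open Cfsg.Agent.ChevalleyStructure.TorusConj
open Cfsg.Agent.Lib

/-- the packed matrix of the diagonal automorphism -/
def mD : ℕ := 0x80000000000000000001000000000000000000010000000000000000000c000000000000000000040000000000000000003000000000000000000010000000000000000000c0000000000000000000400000000000000000030000000000000000000200000000000000000004000000000000000000040000000000000000003000000000000000000010000000000000000000c000000000000000000080000000000000000001000000000000000000010000000000000000000c000000000000000000080000000000000000001000000000000000000010000000000000000000c0000000000000000000800000000000000000010000000000000000000200000000000000000004000000000000000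000080000000000000000001000000000000000000010000000000000000000c000000000000000000040000000000000000003000000000000000000010000000000000000000c000000000000000000040000000000000000003000000000000000000010000000000000000000c000000000000000000040000000000000000003000000000000000000010000000000000000000c00000000000000000004000000000000000000300000000000000000002000000000000000000040000000000000000000800000000000000000010000000000000000000200000000000000000004000000000000000000080000000000000000001000000000000000000020000000000000000000400000000000000000008000000000000000000100000000000000000002000000000000000000040000000000000000000800000000000000000010000000000000000000200000000000000000004000000000000000000080000000000000000001000000000000000000020000000000000000000400000000000000000008000000000000000000100000000000000000002000000000000000000040000000000000000000800000000000000000010000000000000000000200000000000000000004000000000000000000080000000000000000001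

/-- the packed matrix of its inverse -/
def mDi : ℕ := 0x8000000000000000000100000000000000000003000000000000000000080000000000000000000c000000000000000000200000000000000000003000000000000000000080000000000000000000c000000000000000000200000000000000000002000000000000000000040000000000000000000c0000000000000000002000000000000000000030000000000000000000800000000000000000008000000000000000000100000000000000000003000000000000000000080000000000000000000800000000000000000010000000000000000000300000000000000000008000000000000000000080000000000000000001000000000000000000020000000000000000000400000000000000000008000000000000000000100000000000000000003000000000000000000080000000000000000000c000000000000000000200000000000000000003000000000000000000080000000000000000000c000000000000000000200000000000000000003000000000000000000080000000000000000000c000000000000000000200000000000000000003000000000000000000080000000000000000000c000000000000000000200000000000000000002000000000000000000040000000000000000000800000000000000000010000000000000000000200000000000000000004000000000000000000080000000000000000001000000000000000000020000000000000000000400000000000000000008000000000000000000100000000000000000002000000000000000000040000000000000000000800000000000000000010000000000000000000200000000000000000004000000000000000000080000000000000000001000000000000000000020000000000000000000400000000000000000008000000000000000000100000000000000000002000000000000000000040000000000000000000800000000000000000010000000000000000000200000000000000000004000000000000000000080000000000000000001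

theorem chk1 : Nat.beq (F2Mat.mul 78 mD mDi) (F2Mat.one 78) = true := by decide +kernel
theorem chk2 : Nat.beq (F2Mat.mul 78 mDi mD) (F2Mat.one 78) = true := by decide +kernel
theorem chk3 : Nat.beq (F2Mat.mul 78 mD mD) mDi = true := by decide +kernel

/-- the diagonal automorphism -/
def Dg : GL (Fin 78) (ZMod 2) := F2MatGroup.unit 78 mD mDi chk1 chk2

theorem codes_Dg : Codes 78 Dg mD := rfl

theorem codes_Dg_inv : Codes 78 Dg⁻¹ mDi := codes_Dg.inv chk1

theorem Dg_sq : Dg * Dg = Dg⁻¹ := (codes_Dg.mul codes_Dg).eq codes_Dg_inv chk3

theorem Dg_pow : Dg ^ 3 = 1 := by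
  rw [pow_succ, pow_two, Dg_sq, inv_mul_cancel]

/-- the permutation of the sixteen generators -/
def pp : Fin 16 → Fin 16 := ![0, 1, 2, 3, 5, 6, 4, 9, 7, 8, 10, 11, 12, 13, 14, 15]

theorem pp_check : ((List.finRange 16).all fun k =>
    Nat.beq (F2Mat.mul 78 mD (Ms.getD k 0)) (F2Mat.mul 78 (Ms.getD (pp k) 0) mD)) = true := by decide +kernel

theorem Dg_gM (k : Fin 16) : Dg * gM k * Dg⁻¹ = gM (pp k) := by
  have h1 := List.all_eq_true.1 pp_check k (List.mem_finRange k)
  have h2 : Dg * gM k = gM (pp k) * Dg := (codes_Dg.mul (codes_gM k)).eq ((codes_gM (pp k)).mul codes_Dg) h1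
  rw [h2, mul_inv_cancel_right]

theorem conj_mem_closure {G : Type*} [Group G] {S : Set G} {D : G} (h : ∀ s ∈ S, D * s * D⁻¹ ∈ Subgroup.closure S)
    {e : G} (he : e ∈ Subgroup.closure S) : D * e * D⁻¹ ∈ Subgroup.closure S := by
  have h1 : Subgroup.closure S ≤ (Subgroup.closure S).comap (MulAut.conj D).toMonoidHom := by
    rw [Subgroup.closure_le]
    intro s hs
    exact h s hs
  exact h1 he

theorem Dg_conj_mem {e : GL (Fin 78) (ZMod 2)} (he : e ∈ Gam) : Dg * e * Dg⁻¹ ∈ Gam := by
  refine conj_mem_closure ?_ he
  rintro _ ⟨k, rfl⟩
  rw [Dg_gM]
  exact Subgroup.subset_closure ⟨_, rfl⟩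

/-! ### The image over the field with four elements -/

/-- exponents of `w` on the basis vectors of the adjoint module -/
def el : List ℕ := [0, 0, 0, 0, 0, 0, 0, 0, 0, 0, 2, 0, 0, 2, 0, 2, 2, 0, 2, 2, 2, 2, 1, 1, 0, 1, 0, 0, 1, 0, 0, 0, 1, 0, 0, 0, 1, 0, 0, 1, 0, 1, 2, 0, 2, 0, 0, 2, 0, 0, 0, 2, 0, 0, 0, 2, 0, 0, 2, 0, 2, 2, 1, 1, 1, 1, 0, 1, 1, 0, 1, 0, 0, 1, 0, 0, 0, 0]

/-- the additive function on the roots -/
def mm (s : ℕ) : ℤ := Cfsg.Agent.ChevalleyStructure.RootVec.rt chevE6 s 0 +
  2 * Cfsg.Agent.ChevalleyStructure.RootVec.rt chevE6 s 5

theorem mm_additive : IsAdditive chevE6 mm := by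
  refine ⟨fun j => if j = 0 then 1 else if j = 5 then 2 else 0, fun s _ => ?_⟩
  unfold mm
  simp [chevE6, Finset.sum_range_succ]

theorem el_check : ((List.range 72).all fun s => decide ((mm s - (el.getD (6 + s) 0 : ℤ)) % 3 = 0)) = true := by
  decide +kernel

theorem el_zero : ((List.range 6).all fun s => Nat.beq (el.getD s 0) 0) = true := by decide +kernel

theorem dig_check : ((List.range 78).all fun i => (List.range 78).all fun k =>
    Nat.beq (dig (colX mD bs i) k) (mul4 (pow4 2 (el.getD k 0)) (dig (bs.getD i 0) k))) = true := by
  decide +kernel

section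

variable {K : Type*} [Field K] (h2 : (2 : K) = 0) (w : K) (hw : w * w = w + 1)

theorem dec_inl (D : ChevalleyDatum) (v : ℕ) (i : Fin D.rank) : dec D w v (Sum.inl i) = cv w (dig v i) := by
  unfold dec
  rw [Finset.sum_apply, Finset.sum_eq_single (i : ℕ)]
  · simp [bvec]
  · intro k _ hk
    have : ¬ (i : ℕ) = k := fun h => hk h.symm
    simp [bvec, this]
  · intro h
    exact absurd (Finset.mem_range.2 (by have := i.2; omega)) h

theorem dec_inr (D : ChevalleyDatum) (v : ℕ) (s : Fin D.nroots) :
    dec D w v (Sum.inr s) = cv w (dig v (D.rank + s)) := by
  unfold dec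
  rw [Finset.sum_apply, Finset.sum_eq_single (D.rank + s : ℕ)]
  · simp [bvec]
  · intro k _ hk
    have : ¬ D.rank + (s : ℕ) = k := fun h => hk h.symm
    simp [bvec, this]
  · intro h
    exact absurd (Finset.mem_range.2 (by have := s.2; omega)) h

include h2 hw in
theorem w_cube : w ^ 3 = 1 := by
  linear_combination (w + 1) * hw + w * h2

include h2 hw in
theorem w_ne : w ≠ 0 := by
  rintro rfl
  have := w_cube h2 0 hw
  simp at this

include h2 hw in
theorem w_ne_one : w ≠ 1 := by
  rintro rfl
  have h3 : (1 : K) = 0 := by linear_combination -hw - 0 * h2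
  exact one_ne_zero h3

include h2 hw in
theorem torus_mul_P : torus chevE6 K mm w * P w = P w * (F2Mat.toMat 78 mD).map (cst h2) := by
  ext row i
  have h3 := congrFun (P_mul h2 w mD i) row
  rw [h3, torus_def, Matrix.diagonal_mul]
  have h4 := List.all_eq_true.1 dig_check i (List.mem_range.2 i.2)
  rcases row with j | s
  · rw [dec_inl, P, dec_inl]
    have hj : (j : ℕ) < 6 := j.2
    have h5 := Nat.eq_of_beq_eq_true (List.all_eq_true.1 h4 j (List.mem_range.2 (by omega)))
    have h6 := Nat.eq_of_beq_eq_true (List.all_eq_true.1 el_zero j (List.mem_range.2 hj))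
    rw [h5, h6, cv_mul4 h2 w hw (pow4_lt (by norm_num) _) (dig_lt _ _), cv_pow4 h2 w hw (by norm_num)]
    simp
  · rw [dec_inr, P, dec_inr]
    have hs : (s : ℕ) < 72 := s.2
    have h5 := Nat.eq_of_beq_eq_true (List.all_eq_true.1 h4 (chevE6.rank + s) (List.mem_range.2 (by
      have : chevE6.rank = 6 := rfl
      omega)))
    have h6 := of_decide_eq_true (List.all_eq_true.1 el_check s (List.mem_range.2 hs))
    rw [h5, cv_mul4 h2 w hw (pow4_lt (by norm_num) _) (dig_lt _ _), cv_pow4 h2 w hw (by norm_num), cv_two,
      Sum.elim_inr]
    congr 1
    obtain ⟨y, hy⟩ : ∃ y : ℤ, mm s = (el.getD (6 + s) 0 : ℤ) + 3 * y := ⟨(mm s - (el.getD (6 + s) 0 : ℤ)) / 3, by omega⟩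
    have hw3 : w ^ (3 : ℤ) = 1 := by exact_mod_cast w_cube h2 w hw
    rw [hy, zpow_add₀ (w_ne h2 w hw), zpow_mul, hw3, one_zpow, mul_one, zpow_natCast]
    rfl

include hw in
theorem phi_Dg (Q : Matrix (Fin 78) chevE6.Idx K) (hPQ : P w * Q = 1) (hQP : Q * P w = 1) :
    ((phi h2 w Q hPQ hQP Dg : GL chevE6.Idx K) : Matrix chevE6.Idx chevE6.Idx K) = torus chevE6 K mm w := by
  have h3 : ((phi h2 w Q hPQ hQP Dg : GL chevE6.Idx K) : Matrix chevE6.Idx chevE6.Idx K) =
      P w * (F2Mat.toMat 78 mD).map (cst h2) * Q := rfl
  rw [h3, ← torus_mul_P h2 w hw, Matrix.mul_assoc, hPQ, Matrix.mul_one]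

end

end Cfsg.Agent.H898.Diag
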