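import Cfsg.Agent.H898.J3Three
import Cfsg.Agent.KFacts.J3
import Cfsg.Agent.H836.Sylow

/-!
# `J₃`: the elements of order 17 and 19 are self-centralizing (helper898)
-/

set_option autoImplicit false
set_option linter.unusedSectionVars false

namespace Cfsg.Agent.H898.J3Cent

open Cfsg Cfsg.Spor Cfsg.Agent.J3.Core Cfsg.Agent.J3.Elts Cfsg.Agent.J3.Simple
open Cfsg.Agent.J3.Nineteen (exists_scalar center_eq card_center)
open Cfsg.Agent.H898.J3Three Matrix

section lin
variable {F : Type*} [Field F] {ω : F}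

/-- an element of order 3 of `3·J₃` commuting with an element of order 19 is a scalar -/
theorem center_of_three [Fintype F] (hF : Fintype.card F = 4) (H : Good ω) (G : Gens F ω)
    {y h : threeJ3 F ω} (hy : orderOf y = 19) (hh : h ^ 3 = 1) (hc : y * h = h * y) :
    h ∈ Subgroup.center (threeJ3 F ω) := by
  classical
  obtain ⟨s0, hs0⟩ := exists_scalar H G
  have hVcard : Nat.card (F9 → F) = 262144 := by
    rw [Nat.card_eq_fintype_card, Fintype.card_fun, hF]
    have : Fintype.card F9 = 9 := by decide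
    rw [this]; norm_num
  have hs0c : s0 ∈ Subgroup.center (threeJ3 F ω) := by
    rw [Subgroup.mem_center_iff]
    intro g
    exact (s0_comm hs0 g).symm
  -- an element commuting with `y` and with a nonzero fixed vector is trivial
  have key : ∀ x : threeJ3 F ω, y * x = x * y → ∀ v : F9 → F, v ≠ 0 → mat ω x *ᵥ v = v → x = 1 := by
    intro x hx v0 hv0 hxv0
    have h2 : Nat.card (fixV ω x) ∣ 2 ^ 18 := by
      have h3 := AddSubgroup.card_addSubgroup_dvd_card (fixV ω x)
      rw [hVcard] at h3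
      rw [show (2 : ℕ) ^ 18 = 262144 by norm_num]
      exact h3
    obtain ⟨i, hi, he⟩ := (Nat.dvd_prime_pow Nat.prime_two).mp h2
    have hmem : ∀ v ∈ fixV ω x, mat ω y *ᵥ v ∈ fixV ω x := by
      intro v hv
      rw [mem_fixV] at hv ⊢
      rw [Matrix.mulVec_mulVec, ← map_mul, ← hx, map_mul, ← Matrix.mulVec_mulVec, hv]
    let f : fixV ω x → fixV ω x := fun v => ⟨mat ω y *ᵥ v, hmem v v.2⟩
    have hf : ∀ (n : ℕ) (v : fixV ω x), ((f^[n] v : fixV ω x) : F9 → F) = mat ω (y ^ n) *ᵥ v := by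
      intro n
      induction n with
      | zero => intro v; rw [pow_zero, map_one, Matrix.one_mulVec]; rfl
      | succ n ih =>
        intro v
        rw [Function.iterate_succ_apply']
        show mat ω y *ᵥ ((f^[n] v : fixV ω x) : F9 → F) = _
        rw [ih, pow_succ', map_mul, Matrix.mulVec_mulVec]
    have h4 := Cfsg.Agent.J3.Fix.card_modEq (p := 19) (by norm_num) f (by
      funext v
      apply Subtype.ext
      rw [hf, ← hy, pow_orderOf_eq_one, map_one, Matrix.one_mulVec]; rfl)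
    have h5 : Nat.card {v : fixV ω x // f v = v} = 1 := by
      rw [Nat.card_eq_one_iff_unique]
      refine ⟨⟨?_⟩, ⟨⟨0, ?_⟩⟩⟩
      · intro a b
        have ha : (a.1 : F9 → F) = 0 := fix_nineteen hF H G hy (congrArg Subtype.val a.2)
        have hb : (b.1 : F9 → F) = 0 := fix_nineteen hF H G hy (congrArg Subtype.val b.2)
        apply Subtype.ext
        apply Subtype.ext
        rw [ha, hb]
      · apply Subtype.ext
        show mat ω y *ᵥ 0 = 0
        exact Matrix.mulVec_zero _
    rw [h5, he] at h4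
    have h6 : 2 ^ i % 19 = 1 := by
      have := h4
      unfold Nat.ModEq at this
      simpa using this
    rcases pow_mod_19 i hi h6 with h0 | h18
    · exfalso
      rw [h0, pow_zero, Nat.card_eq_one_iff_unique] at he
      obtain ⟨hs, -⟩ := he
      have h7 := congrArg Subtype.val (hs.elim (⟨v0, hxv0⟩ : fixV ω x) 0)
      exact hv0 h7
    · have h7 : fixV ω x = ⊤ := by
        apply AddSubgroup.eq_top_of_card_eq
        rw [he, h18, hVcard]; norm_num
      have hall : ∀ v : F9 → F, mat ω x *ᵥ v = v := by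
        intro v
        have : v ∈ fixV ω x := by rw [h7]; trivial
        exact this
      apply mat_injective
      rw [map_one]
      apply Matrix.ext_of_mulVec_single
      intro j
      rw [hall, Matrix.one_mulVec]
  have hmul : ∀ (i : ℕ), y * (s0 ^ i * h) = (s0 ^ i * h) * y := by
    intro i
    have h1 : Commute y (s0 ^ i) := (show Commute s0 y from s0_comm hs0 y).symm.pow_right i
    exact (h1.mul_right (show Commute y h from hc)).eq
  have hmat : ∀ (i : ℕ) (v : F9 → F), mat ω (s0 ^ i * h) *ᵥ v = ω ^ i • (mat ω h *ᵥ v) := by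
    intro i v
    rw [map_mul, mat_s0_pow H hs0, smul_mul_assoc, one_mul, Matrix.smul_mulVec]
  -- reduce to a nonzero eigenvector
  have hfin : ∀ i : ℕ, s0 ^ i * h = 1 → h ∈ Subgroup.center (threeJ3 F ω) := by
    intro i hi
    have : h = (s0 ^ i)⁻¹ := by rw [← mul_right_inj (s0 ^ i), hi, mul_inv_cancel]
    rw [this]
    exact inv_mem (pow_mem hs0c i)
  -- `u0`
  let u0 : F9 → F := dec ω 1
  have hu0 : u0 ≠ 0 := Cfsg.Agent.J3.Nineteen.dec_one_ne ω
  have h3 : mat ω h *ᵥ (mat ω h *ᵥ (mat ω h *ᵥ u0)) = u0 := by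
    rw [Matrix.mulVec_mulVec, Matrix.mulVec_mulVec, ← map_mul, ← map_mul]
    have : h * (h * h) = 1 := by rw [← hh, pow_succ', pow_two]
    rw [← mul_assoc] at this
    rw [this, map_one, Matrix.one_mulVec]
  set A := mat ω h with hA
  by_cases e0 : A *ᵥ u0 - u0 = 0
  · apply hfin 0
    apply key _ (hmul 0) u0 hu0
    rw [hmat, pow_zero, one_smul]
    exact sub_eq_zero.1 e0
  · set u1 := A *ᵥ u0 - u0 with hu1
    by_cases e1 : ω • (A *ᵥ u1) - u1 = 0
    · apply hfin 1
      apply key _ (hmul 1) u1 e0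
      rw [hmat, pow_one]
      exact sub_eq_zero.1 e1
    · set u2 := ω • (A *ᵥ u1) - u1 with hu2
      apply hfin 2
      apply key _ (hmul 2) u2 e1
      rw [hmat]
      have hw : ω ^ 2 = 1 + ω := H.sq
      have hw3 : ω ^ 3 = 1 := H.cube
      have e2 : A *ᵥ u2 = ω • (A *ᵥ (A *ᵥ u1)) - A *ᵥ u1 := by
        rw [hu2, Matrix.mulVec_sub, Matrix.mulVec_smul]
      have e3 : A *ᵥ (A *ᵥ u1) = A *ᵥ (A *ᵥ (A *ᵥ u0)) - A *ᵥ (A *ᵥ u0) := by
        rw [hu1, Matrix.mulVec_sub, Matrix.mulVec_sub]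
      have e4 : A *ᵥ u1 = A *ᵥ (A *ᵥ u0) - A *ᵥ u0 := by
        rw [hu1, Matrix.mulVec_sub]
      rw [e2, hu2, e3, h3, e4, hu1]
      ext z
      simp only [Pi.smul_apply, Pi.sub_apply, smul_eq_mul]
      have h2 : (2 : F) = 0 := by
        have := H.add_self 1
        rw [← two_mul, mul_one] at this
        exact this
      generalize (A *ᵥ (A *ᵥ u0)) z = c
      generalize (A *ᵥ u0) z = b
      generalize u0 z = a
      have h4 : ω ^ 2 * (ω * (a - c) - (c - b)) - (ω * (c - b) - (b - a)) = 0 := by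
        have h5 : ω ^ 2 * (ω * (a - c) - (c - b)) - (ω * (c - b) - (b - a)) =
            ω ^ 3 * (a - c) - (ω ^ 2 + ω) * (c - b) + (b - a) := by ring
        rw [h5, hw3, hw]
        have h6 : (1 + ω + ω : F) = 1 := by
          rw [add_assoc, H.add_self, add_zero]
        rw [h6]
        linear_combination (b - c) * h2
      exact sub_eq_zero.1 h4

end lin

/-! ### lifts -/

section lift
variable {F : Type*} [Field F] [Fintype F] {ω : F}

/-- commuting lifts of commuting elements, one of order 19 -/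
theorem lift_comm (hF : Fintype.card F = 4) (H : Good ω) {x y : threeJ3 F ω} (hy : orderOf y = 19)
    (h : ((x * y : threeJ3 F ω) : J3 F ω) = ((y * x : threeJ3 F ω) : J3 F ω)) : y * x = x * y := by
  have hZ : ∀ t : threeJ3 F ω, t ∈ Subgroup.center (threeJ3 F ω) → t ^ 3 = 1 := by
    intro t ht
    have h1 : Nat.card (Subgroup.center (threeJ3 F ω)) = 3 := card_center hF H
    have h2 : (⟨t, ht⟩ : Subgroup.center (threeJ3 F ω)) ^
        Nat.card (Subgroup.center (threeJ3 F ω)) = 1 := pow_card_eq_one'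
    have h3 := congrArg Subtype.val h2
    have h4 : t ^ Nat.card (Subgroup.center (threeJ3 F ω)) = 1 := h3
    rwa [h1] at h4
  have hcen : x * y * (y * x)⁻¹ ∈ Subgroup.center (threeJ3 F ω) := by
    rw [← QuotientGroup.eq_one_iff, QuotientGroup.mk_mul, QuotientGroup.mk_inv, h, mul_inv_cancel]
  set ζ := x * y * (y * x)⁻¹ with hζ
  have hζc := Subgroup.mem_center_iff.mp hcen
  have hconj : x * y * x⁻¹ = ζ * y := by
    rw [hζ]; group
  have h19 : (ζ * y) ^ 19 = 1 := by
    rw [← hconj, conj_pow, ← hy, pow_orderOf_eq_one]; group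
  have hcomm : Commute ζ y := (hζc y).symm
  rw [hcomm.mul_pow, ← hy, pow_orderOf_eq_one, mul_one, hy] at h19
  have h3 := hZ ζ hcen
  have hζ1 : ζ = 1 := by
    have : ζ ^ 19 = (ζ ^ 3) ^ 6 * ζ := by rw [← pow_mul, ← pow_succ]
    rw [this, h3, one_pow, one_mul] at h19
    exact h19
  rw [hζ1, one_mul] at hconj
  calc y * x = x * y * x⁻¹ * x := by rw [hconj]
    _ = x * y := by group

/-- lift of an element of order 19 -/
theorem lift_nineteen (hF : Fintype.card F = 4) (H : Good ω) {b : J3 F ω} (hb : orderOf b = 19) :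
    ∃ y : threeJ3 F ω, orderOf y = 19 ∧ (y : J3 F ω) = b := by
  obtain ⟨y, rfl⟩ := QuotientGroup.mk_surjective b
  have hZ : ∀ t : threeJ3 F ω, t ∈ Subgroup.center (threeJ3 F ω) → t ^ 3 = 1 := by
    intro t ht
    have h1 : Nat.card (Subgroup.center (threeJ3 F ω)) = 3 := card_center hF H
    have h2 : (⟨t, ht⟩ : Subgroup.center (threeJ3 F ω)) ^
        Nat.card (Subgroup.center (threeJ3 F ω)) = 1 := pow_card_eq_one'
    have h3 := congrArg Subtype.val h2
    have h4 : t ^ Nat.card (Subgroup.center (threeJ3 F ω)) = 1 := h3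
    rwa [h1] at h4
  have hy19 : y ^ 19 ∈ Subgroup.center (threeJ3 F ω) := by
    rw [← QuotientGroup.eq_one_iff, QuotientGroup.mk_pow, ← hb, pow_orderOf_eq_one]
  have h1 : (y ^ 39) ^ 19 = 1 := by
    rw [← pow_mul, mul_comm, pow_mul, show 39 = 3 * 13 by norm_num, pow_mul, hZ _ hy19, one_pow]
  have h2 : ((y ^ 39 : threeJ3 F ω) : J3 F ω) = (y : J3 F ω) := by
    rw [QuotientGroup.mk_pow, show 39 = 19 * 2 + 1 by norm_num, pow_add, pow_mul, pow_one, ← hb,
      pow_orderOf_eq_one, one_pow, one_mul]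
  refine ⟨y ^ 39, ?_, h2⟩
  have : Fact (Nat.Prime 19) := ⟨by norm_num⟩
  refine orderOf_eq_prime h1 fun h3 => ?_
  rw [h3] at h2
  have h4 : (1 : J3 F ω) = (y : J3 F ω) := h2
  rw [← h4, orderOf_one] at hb
  norm_num at hb

/-- an element of prime order `p ≠ 19` of `J₃` does not commute with an element of order 19 -/
theorem not_comm (hF : Fintype.card F = 4) (H : Good ω) {p : ℕ} (hp : p = 2 ∨ p = 3 ∨ p = 5 ∨ p = 17)
    {a b : J3 F ω} (ha : orderOf a = p) (hb : orderOf b = 19) : a * b ≠ b * a := by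
  intro hab
  obtain ⟨G⟩ := exists_gens hF H
  obtain ⟨y, hy, rfl⟩ := lift_nineteen hF H hb
  have hZ : ∀ t : threeJ3 F ω, t ∈ Subgroup.center (threeJ3 F ω) → t ^ 3 = 1 := by
    intro t ht
    have h1 : Nat.card (Subgroup.center (threeJ3 F ω)) = 3 := card_center hF H
    have h2 : (⟨t, ht⟩ : Subgroup.center (threeJ3 F ω)) ^
        Nat.card (Subgroup.center (threeJ3 F ω)) = 1 := pow_card_eq_one'
    have h3 := congrArg Subtype.val h2
    have h4 : t ^ Nat.card (Subgroup.center (threeJ3 F ω)) = 1 := h3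
    rwa [h1] at h4
  obtain ⟨x, rfl⟩ := QuotientGroup.mk_surjective a
  have hxp : x ^ p ∈ Subgroup.center (threeJ3 F ω) := by
    rw [← QuotientGroup.eq_one_iff, QuotientGroup.mk_pow, ← ha, pow_orderOf_eq_one]
  have hp1 : p ≠ 1 := by rcases hp with rfl | rfl | rfl | rfl <;> norm_num
  rcases eq_or_ne p 3 with h3 | h3
  · subst h3
    have h1 := cube_eq_one hF H hxp
    have h2 := lift_comm hF H hy (x := x) (by
      rw [QuotientGroup.mk_mul, QuotientGroup.mk_mul]; exact hab)
    have h4 := center_of_three hF H G hy h1 h2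
    rw [← QuotientGroup.eq_one_iff] at h4
    have h5 : ((x : threeJ3 F ω) : J3 F ω) = 1 := h4
    have h6 : orderOf ((x : threeJ3 F ω) : J3 F ω) = 1 := by rw [h5, orderOf_one]
    exact hp1 (ha.symm.trans h6)
  · have hnd : ¬ p ∣ 262143 := by
      rcases hp with rfl | rfl | rfl | rfl
      · norm_num
      · exact absurd rfl h3
      · norm_num
      · norm_num
    obtain ⟨q, hq⟩ : ∃ q, p + 1 = 3 * q := by
      rcases hp with rfl | rfl | rfl | rfl
      · exact ⟨1, by norm_num⟩
      · exact absurd rfl h3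
      · exact ⟨2, by norm_num⟩
      · exact ⟨6, by norm_num⟩
    have hpp : p.Prime := by rcases hp with rfl | rfl | rfl | rfl <;> norm_num
    have h1 : (x ^ (p + 1)) ^ p = 1 := by
      rw [← pow_mul, mul_comm, pow_mul, hq, pow_mul, hZ _ hxp, one_pow]
    have h2 : ((x ^ (p + 1) : threeJ3 F ω) : J3 F ω) = (x : J3 F ω) := by
      rw [QuotientGroup.mk_pow, pow_succ, ← ha, pow_orderOf_eq_one, one_mul]
    have h4 := lift_comm hF H hy (x := x ^ (p + 1)) (by
      rw [QuotientGroup.mk_mul, QuotientGroup.mk_mul, h2]; exact hab)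
    have h5 := eq_one_of_commute hF H G hy hpp hnd h1 h4
    rw [h5] at h2
    have h6 : (1 : J3 F ω) = (x : J3 F ω) := h2
    have h7 : orderOf ((x : threeJ3 F ω) : J3 F ω) = 1 := by rw [← h6, orderOf_one]
    exact hp1 (ha.symm.trans h7)

end lift

/-! ### The group `J₃` -/

section grp

open Subgroup Cfsg.Agent.J2Type.Model Cfsg.Agent.J3Type.OneClass Cfsg.Agent.J2Type.CStruct

variable {K : Type*} [Group K]

theorem not_comm_K (h : IsoJ3 K) {p : ℕ} (hp : p = 2 ∨ p = 3 ∨ p = 5 ∨ p = 17)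
    {a b : K} (ha : orderOf a = p) (hb : orderOf b = 19) : a * b ≠ b * a := by
  obtain ⟨F, _, _, ω, hF, hω, ⟨e⟩⟩ := h
  have H := good_of_card hF hω
  intro hab
  refine not_comm hF H (a := e a) (b := e b) hp ?_ ?_ ?_
  · rw [← ha]; exact orderOf_injective e.toMonoidHom e.injective a
  · rw [← hb]; exact orderOf_injective e.toMonoidHom e.injective b
  · rw [← map_mul, hab, map_mul]

/-- basic facts -/
theorem base (h : IsoJ3 K) : IsSimpleGroup K ∧ Nat.card K = 50232960 ∧ ∀ t : K, orderOf t = 2 → HasModel t := by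
  obtain ⟨hs, z, Q, v, ρ, n, u, F⟩ := KFacts.J3.exists_facts h
  have hcK := F.card_K
  have hfin : Finite K := Nat.finite_of_card_ne_zero (by rw [hcK]; norm_num)
  have hzz : z * z = 1 := congrArg Subtype.val F.model.z_sq
  have hz1 : z ≠ 1 := fun h1 => F.model.z_ne (Subtype.ext h1)
  have hz2 : orderOf z = 2 := orderOf_eq_prime (by rw [pow_two, hzz]) hz1
  have hMz : HasModel z := ⟨hz2, F.card_C, Q, v, ρ, F.model⟩
  refine ⟨hs, hcK, fun t ht => ?_⟩
  obtain ⟨g, hg⟩ := F.one t (fun h1 => by rw [h1, orderOf_one] at ht; omega) (by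
    rw [← pow_two, ← ht, pow_orderOf_eq_one])
  exact hMz.conj g hg

theorem prime_dvd_card {p : ℕ} (hp : p.Prime) (h : p ∣ 50232960) :
    p = 2 ∨ p = 3 ∨ p = 5 ∨ p = 17 ∨ p = 19 := by
  have h1 : (50232960 : ℕ) = 2 ^ 7 * (3 ^ 5 * (5 * (17 * 19))) := by norm_num
  rw [h1] at h
  rcases (Nat.Prime.dvd_mul hp).1 h with h | h
  · exact Or.inl ((Nat.prime_dvd_prime_iff_eq hp Nat.prime_two).1 (hp.dvd_of_dvd_pow h))
  rcases (Nat.Prime.dvd_mul hp).1 h with h | h
  · exact Or.inr (Or.inl ((Nat.prime_dvd_prime_iff_eq hp Nat.prime_three).1 (hp.dvd_of_dvd_pow h)))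
  rcases (Nat.Prime.dvd_mul hp).1 h with h | h
  · exact Or.inr (Or.inr (Or.inl ((Nat.prime_dvd_prime_iff_eq hp (by norm_num)).1 h)))
  rcases (Nat.Prime.dvd_mul hp).1 h with h | h
  · exact Or.inr (Or.inr (Or.inr (Or.inl ((Nat.prime_dvd_prime_iff_eq hp (by norm_num)).1 h))))
  · exact Or.inr (Or.inr (Or.inr (Or.inr ((Nat.prime_dvd_prime_iff_eq hp (by norm_num)).1 h))))

theorem perm_aux : ∀ σ : Equiv.Perm (Fin 5), Equiv.Perm.sign σ = 1 → σ ^ 16 = 1 → σ * σ = 1 := by decide +kernel

/-- no element of order 16 -/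
theorem no_sixteen (h : IsoJ3 K) (g : K) : orderOf g ≠ 16 := by
  intro hg
  obtain ⟨-, hcK, hM⟩ := base h
  have hfin : Finite K := Nat.finite_of_card_ne_zero (by rw [hcK]; norm_num)
  obtain ⟨t, htd⟩ : ∃ t, t = g ^ 8 := ⟨_, rfl⟩
  have ht : orderOf t = 2 := by
    rw [htd, orderOf_pow, hg]; norm_num
  obtain ⟨-, -, Q, v, ρ, M⟩ := hM _ ht
  have hgc : g ∈ centralizer ({t} : Set K) := by
    rw [mem_centralizer_singleton_iff, htd, ← pow_succ, ← pow_succ']
  let c : centralizer ({t} : Set K) := ⟨g, hgc⟩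
  have hc : c ^ 16 = 1 := Subtype.ext (by
    show g ^ 16 = 1
    rw [← hg, pow_orderOf_eq_one])
  have h1 : (ρ c).σ ^ 16 = 1 := by
    have h2 : ∀ n : ℕ, (ρ (c ^ n)).σ = (ρ c).σ ^ n := by
      intro n
      induction n with
      | zero => rw [pow_zero, pow_zero, map_one]; rfl
      | succ n ih =>
        have e1 : ρ (c ^ (n + 1)) = ρ (c ^ n) * ρ c := by rw [← map_mul, ← pow_succ]
        rw [e1]
        show (ρ (c ^ n)).σ * (ρ c).σ = _
        rw [ih, ← pow_succ]
    rw [← h2, hc, map_one]; rfl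
  have h2 := perm_aux _ ((M.range (ρ c)).1 ⟨c, rfl⟩).1 h1
  have h3 : c * c ∈ Q := by
    rw [M.mem_Q, map_mul]
    exact h2
  -- squares of elements of `Q` are in `⟨z⟩`
  have h4 : ρ ((c * c) * (c * c)) = 1 := by
    rw [map_mul]
    have h5 : (ρ (c * c)).σ = 1 := (M.mem_Q _).1 h3
    have h6 : ∀ s : SP, s.σ = 1 → s * s = 1 := by
      intro s hs
      ext i
      · show ((s.σ * s.σ) i : Fin 5).val = i.val
        rw [hs]; rfl
      · show s.s i + s.s (s.σ i) = 0
        rw [hs]
        show s.s i + s.s i = 0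
        exact CharTwo.add_self_eq_zero _
    exact h6 _ h5
  have h5 : ((c * c) * (c * c)) * ((c * c) * (c * c)) = 1 := by
    rcases (M.ker _).1 h4 with h6 | h6
    · rw [h6, one_mul]
    · rw [h6, M.z_sq]
  have h6 : g ^ 8 = 1 := by
    have h7 := congrArg Subtype.val h5
    have h8 : ((g * g) * (g * g)) * ((g * g) * (g * g)) = 1 := h7
    rw [← h8]
    simp only [pow_succ, pow_zero, one_mul, mul_assoc]
  rw [htd, h6, orderOf_one] at ht
  norm_num at ht

/-- **an element of order 19 is self-centralizing** -/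
theorem card_nineteen (h : IsoJ3 K) {y : K} (hy : orderOf y = 19) : Nat.card ↥(centralizer ({y} : Set K)) = 19 := by
  obtain ⟨-, hcK, -⟩ := base h
  have hfin : Finite K := Nat.finite_of_card_ne_zero (by rw [hcK]; norm_num)
  have hd : Nat.card ↥(centralizer ({y} : Set K)) ∣ 50232960 := by
    rw [← hcK]; exact card_subgroup_dvd_card _
  have h19 : 19 ∣ Nat.card ↥(centralizer ({y} : Set K)) := by
    have h1 : orderOf (⟨y, mem_centralizer_singleton_iff.2 rfl⟩ : ↥(centralizer ({y} : Set K))) = 19 := by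
      rw [Subgroup.orderOf_mk, hy]
    rw [← h1]; exact orderOf_dvd_natCard _
  have h0 : Nat.card ↥(centralizer ({y} : Set K)) ≠ 0 := Nat.card_pos.ne'
  have hu : ∀ {d : ℕ}, d.Prime → d ∣ Nat.card ↥(centralizer ({y} : Set K)) → d = 19 := by
    intro d hdp hdd
    have := Fact.mk hdp
    obtain ⟨x, hx⟩ := exists_prime_orderOf_dvd_card' d hdd
    have hx' : orderOf (x : K) = d := by rw [← hx]; exact (Subgroup.orderOf_coe x)
    have hxy : (x : K) * y = y * x := mem_centralizer_singleton_iff.1 x.2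
    rcases prime_dvd_card hdp (hdd.trans hd) with h1 | h1 | h1 | h1 | h1
    · exact absurd hxy (not_comm_K h (Or.inl h1) hx' hy)
    · exact absurd hxy (not_comm_K h (Or.inr (Or.inl h1)) hx' hy)
    · exact absurd hxy (not_comm_K h (Or.inr (Or.inr (Or.inl h1))) hx' hy)
    · exact absurd hxy (not_comm_K h (Or.inr (Or.inr (Or.inr h1))) hx' hy)
    · exact h1
  obtain ⟨n, hn⟩ : ∃ n, Nat.card ↥(centralizer ({y} : Set K)) = 19 ^ n :=
    ⟨_, Nat.eq_prime_pow_of_unique_prime_dvd h0 hu⟩
  rw [hn] at hd h19 ⊢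
  have h1 : n ≠ 0 := by
    rintro rfl
    norm_num at h19
  have h2 : n < 2 := by
    by_contra h3
    have h4 : 19 ^ 2 ∣ 50232960 := (pow_dvd_pow 19 (by omega)).trans hd
    norm_num at h4
  have h3 : n = 1 := by omega
  rw [h3, pow_one]

/-- the arithmetic of the normalizer of a subgroup of order 17 -/
theorem arith17 : ∀ h ∈ Nat.divisors 1215, ∀ k ∈ Nat.divisors 16, 2954880 / (h * k) % 17 = 1 →
    (h = 1 ∧ k = 8) ∨ (h = 9 ∧ k = 16) ∨ (h = 1215 ∧ k = 1) := by decide +kernel

theorem arith19 : ∀ k ∈ Nat.divisors 18, 2643840 / k % 19 = 1 → k = 9 := by decide +kernel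

theorem centralizer_zpowers (y : K) : centralizer ((zpowers y : Subgroup K) : Set K) = centralizer ({y} : Set K) := by
  rw [zpowers_eq_closure, centralizer_closure]

theorem card_normalizer_nineteen (h : IsoJ3 K) {y : K} (hy : orderOf y = 19) :
    Nat.card ↥(normalizer ((zpowers y : Subgroup K) : Set K)) = 19 * 9 := by
  obtain ⟨-, hcK, -⟩ := base h
  have hfin : Finite K := Nat.finite_of_card_ne_zero (by rw [hcK]; norm_num)
  obtain ⟨n, k, hn, hk, h1, h2⟩ := Cfsg.Agent.H836.Sylow.card_normalizer (G := K) (p := 19) (X := zpowers y) (by norm_num)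
    (by rw [hcK]; norm_num) (by rw [Nat.card_zpowers, hy])
  rw [centralizer_zpowers, card_nineteen h hy] at h1 h2
  rw [hcK] at h1
  have hk0 : 0 < k := Nat.pos_of_dvd_of_pos hk (by norm_num)
  have h3 : k * n = 2643840 := by
    have h4 : 19 * (k * n) = 19 * 2643840 := by rw [← mul_assoc, ← h1]
    omega
  have h4 : 2643840 / k = n := by
    rw [← h3]; exact Nat.mul_div_cancel_left n hk0
  have h5 := arith19 k (Nat.mem_divisors.2 ⟨hk, by norm_num⟩) (by rw [h4, hn])
  rw [h2, h5]

/-- **an element of order 17 is self-centralizing, with normalizer of order 17·8** -/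
theorem seventeen (h : IsoJ3 K) {y : K} (hy : orderOf y = 17) : Nat.card ↥(centralizer ({y} : Set K)) = 17 ∧
    Nat.card ↥(normalizer ((zpowers y : Subgroup K) : Set K)) = 17 * 8 := by
  obtain ⟨hs, hcK, hM⟩ := base h
  have hfin : Finite K := Nat.finite_of_card_ne_zero (by rw [hcK]; norm_num)
  have h17 : Fact (Nat.Prime 17) := ⟨by norm_num⟩
  obtain ⟨n, k, hn, hk, h1, h2⟩ := Cfsg.Agent.H836.Sylow.card_normalizer (G := K) (p := 17) (X := zpowers y) (by norm_num)
    (by rw [hcK]; norm_num) (by rw [Nat.card_zpowers, hy])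
  rw [centralizer_zpowers] at h1 h2
  obtain ⟨c, hc⟩ : ∃ c, c = Nat.card ↥(centralizer ({y} : Set K)) := ⟨_, rfl⟩
  -- `17 ∣ c`
  have h17c : 17 ∣ c := by
    have h3 : orderOf (⟨y, mem_centralizer_singleton_iff.2 rfl⟩ : ↥(centralizer ({y} : Set K))) = 17 := by
      rw [Subgroup.orderOf_mk, hy]
    rw [hc, ← h3]; exact orderOf_dvd_natCard _
  have hcd : c ∣ 50232960 := by
    rw [hc, ← hcK]; exact card_subgroup_dvd_card _
  obtain ⟨m, hm⟩ := h17c
  have hex : ∀ p : ℕ, p.Prime → p ∣ m → ∃ x : K, orderOf x = p ∧ x * y = y * x := by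
    intro p hp hpm
    have := Fact.mk hp
    obtain ⟨x, hx⟩ := exists_prime_orderOf_dvd_card' (G := ↥(centralizer ({y} : Set K))) p
      (by rw [← hc, hm]; exact hpm.mul_left 17)
    exact ⟨x, by rw [← hx]; exact (Subgroup.orderOf_coe x), mem_centralizer_singleton_iff.1 x.2⟩
  have hm2 : ¬ 2 ∣ m := by
    intro h3
    obtain ⟨x, hx, hxy⟩ := hex 2 Nat.prime_two h3
    have h4 := (hM x hx).2.1
    have h5 : orderOf (⟨y, mem_centralizer_singleton_iff.2 hxy.symm⟩ : ↥(centralizer ({x} : Set K))) = 17 := by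
      rw [Subgroup.orderOf_mk, hy]
    have h6 := orderOf_dvd_natCard (⟨y, mem_centralizer_singleton_iff.2 hxy.symm⟩ : ↥(centralizer ({x} : Set K)))
    rw [h5, h4] at h6
    norm_num at h6
  have hm19 : ¬ 19 ∣ m := by
    intro h3
    obtain ⟨x, hx, hxy⟩ := hex 19 (by norm_num) h3
    exact not_comm_K h (Or.inr (Or.inr (Or.inr rfl))) hy hx hxy.symm
  have hmd : m ∣ 1215 := by
    have h3 : m ∣ 2954880 := by
      rw [hm] at hcd
      rw [show (50232960 : ℕ) = 17 * 2954880 by norm_num] at hcd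
      exact Nat.dvd_of_mul_dvd_mul_left (by norm_num) hcd
    rw [show (2954880 : ℕ) = 2 ^ 7 * (19 * 1215) by norm_num] at h3
    have h4 : Nat.Coprime m (2 ^ 7) := Nat.Coprime.pow_right 7 ((Nat.Prime.coprime_iff_not_dvd Nat.prime_two).2 hm2).symm
    have h5 : Nat.Coprime m 19 := ((Nat.Prime.coprime_iff_not_dvd (by norm_num)).2 hm19).symm
    exact h5.dvd_of_dvd_mul_left (h4.dvd_of_dvd_mul_left h3)
  have hm0 : 0 < m := Nat.pos_of_dvd_of_pos hmd (by norm_num)
  have hk0 : 0 < k := Nat.pos_of_dvd_of_pos hk (by norm_num)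
  rw [← hc] at h1 h2 ⊢
  rw [hcK, hm] at h1
  have h3 : (m * k) * n = 2954880 := by
    have h4 : 17 * ((m * k) * n) = 17 * 2954880 := by
      rw [show 17 * (m * k * n) = 17 * m * k * n by ring, ← h1]
    omega
  have h4 : 2954880 / (m * k) = n := by
    rw [← h3]; exact Nat.mul_div_cancel_left n (Nat.mul_pos hm0 hk0)
  rcases arith17 m (Nat.mem_divisors.2 ⟨hmd, by norm_num⟩) k (Nat.mem_divisors.2 ⟨hk, by norm_num⟩) (by rw [h4, hn])
    with ⟨e1, e2⟩ | ⟨e1, e2⟩ | ⟨e1, e2⟩
  · rw [h2, hm, e1, e2]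
    exact ⟨by norm_num, by norm_num⟩
  · -- an element of order 16
    exfalso
    have hcyc : IsCyclic (MulAut ↥(zpowers y)) := by
      have hX : Nat.card ↥(zpowers y) = 17 := by rw [Nat.card_zpowers, hy]
      have : IsCyclic (ZMod (Nat.card ↥(zpowers y)))ˣ := by
        rw [hX]; infer_instance
      exact isCyclic_of_surjective (IsCyclic.mulAutMulEquiv ↥(zpowers y)).symm.toMonoidHom
        (IsCyclic.mulAutMulEquiv ↥(zpowers y)).symm.surjective
    have hr : IsCyclic ↥((zpowers y).normalizerMonoidHom).range := inferInstance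
    have hcr : Nat.card ↥((zpowers y).normalizerMonoidHom).range = 16 := by
      have h5 := card_eq_card_quotient_mul_card_subgroup ((zpowers y).normalizerMonoidHom).ker
      have h6 : Nat.card ↥((zpowers y).normalizerMonoidHom).ker = c := by
        rw [normalizerMonoidHom_ker, hc, ← centralizer_zpowers]
        exact Nat.card_congr (subgroupOfEquivOfLe (centralizer_le_normalizer _)).toEquiv
      rw [h6, h2, mul_comm, Nat.card_congr (QuotientGroup.quotientKerEquivRange _).toEquiv] at h5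
      have hc0 : 0 < c := by rw [hm]; omega
      have h7 := Nat.eq_of_mul_eq_mul_right hc0 h5
      rw [← h7, e2]
    obtain ⟨r, hg⟩ := hr.exists_generator
    have h5 : orderOf r = 16 := by
      rw [← hcr]; exact orderOf_eq_card_of_forall_mem_zpowers hg
    obtain ⟨g, hgr⟩ := MonoidHom.mem_range.1 r.2
    rw [← Subgroup.orderOf_coe r, ← hgr] at h5
    have h6 : 16 ∣ orderOf g := by rw [← h5]; exact orderOf_map_dvd _ g
    have h7 : orderOf ((g : K) ^ (orderOf g / 16)) = 16 := by
      have h8 : orderOf (g : K) = orderOf g := Subgroup.orderOf_coe g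
      have h9 : 0 < orderOf g := orderOf_pos g
      obtain ⟨q, hq⟩ := h6
      have hq0 : 0 < q := by
        rcases Nat.eq_zero_or_pos q with h10 | h10
        · rw [h10] at hq; omega
        · exact h10
      rw [orderOf_pow, h8, hq, Nat.mul_div_cancel_left _ (by norm_num), Nat.gcd_eq_right (Dvd.intro_left 16 rfl),
        Nat.mul_div_cancel _ hq0]
    exact no_sixteen h _ h7
  · -- Burnside
    exfalso
    have hX : Nat.card ↥(zpowers y) = 17 := by rw [Nat.card_zpowers, hy]
    have hcf : Nat.card ↥(zpowers y) = 17 ^ (Nat.card K).factorization 17 :=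
      Cfsg.Agent.H836.Sylow.card_pow_fact (by norm_num) (by rw [hcK]; norm_num) hX
    let P : Sylow 17 K := Sylow.ofCard (zpowers y) hcf
    have hNC : normalizer ((P : Subgroup K) : Set K) ≤ centralizer ((P : Subgroup K) : Set K) := by
      have h5 : centralizer ((zpowers y : Subgroup K) : Set K) = normalizer ((zpowers y : Subgroup K) : Set K) := by
        apply eq_of_le_of_card_ge (centralizer_le_normalizer _)
        rw [centralizer_zpowers, ← hc, h2, e2, mul_one]
      exact h5.ge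
    have hcomp := MonoidHom.ker_transferSylow_isComplement' P hNC
    have hcard := hcomp.card_mul_card
    have hP : Nat.card ↥(P : Subgroup K) = 17 := hX
    rw [hP, hcK] at hcard
    rcases IsSimpleGroup.eq_bot_or_eq_top_of_normal (MonoidHom.transferSylow P hNC).ker inferInstance with h5 | h5
    · rw [h5, card_bot] at hcard
      norm_num at hcard
    · rw [h5, card_top, hcK] at hcard
      norm_num at hcard

end grp

end Cfsg.Agent.H898.J3Cent
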