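import Cfsg.Agent.H898.AltEight

/-!
# An element of order five whose centralizer is `5 × A₈` (helper898)

`D` is a class of involutions such that products of two members have order at most four, the square of a product
of order four lying in `D`. `y` has order five and commutes with a group `φ(A₈)` whose fixed point free involutions
lie in `D`; the centralizer of `y` and of one of these has order at most `960`. Then `C(y) ≅ 5 × A₈`.
-/

set_option autoImplicit false
set_option linter.unusedSectionVars false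

namespace Cfsg.Agent.H898.TE6Abs

open Subgroup Cfsg.Agent.H898.AltEight

variable {G : Type*} [Group G]

structure Hyp (D : Set G) (y : G) (φ : A8 →* G) : Prop where
  conj : ∀ d ∈ D, ∀ g, g * d * g⁻¹ ∈ D
  sq : ∀ d ∈ D, d * d = 1
  one : (1 : G) ∉ D
  pair : ∀ d ∈ D, ∀ e ∈ D, d * e = e * d ∨ (d * e) ^ 2 ∈ D ∨ (d * e) ^ 3 = 1
  five : y ^ 5 = 1
  ne : y ≠ 1
  inj : Function.Injective φ
  comm : ∀ a, φ a * y = y * φ a
  mem : φ T0 ∈ D
  card : Nat.card ↥(centralizer ({φ T0} : Set G) ⊓ centralizer ({y} : Set G)) ≤ 960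

namespace Hyp

variable {D : Set G} {y : G} {φ : A8 →* G}

theorem fpf_mem (h : Hyp D y φ) {a : A8} (ha : Fpf a) : φ a ∈ D := by
  obtain ⟨g, rfl⟩ := conj_T0 ha
  rw [map_mul, map_mul, map_inv]
  exact h.conj _ h.mem _

theorem not_S0 (h : Hyp D y φ) : φ S0 ∉ D := by
  intro hS
  rcases h.pair _ hS _ (h.fpf_mem fpf_C0) with h1 | h1 | h1
  · rw [← map_mul, ← map_mul] at h1
    apply S0_C0_pow_four
    have h2 := h.inj h1
    rw [show (4 : ℕ) = 2 * 2 from rfl, pow_mul]
    have h3 : (S0 * C0) ^ 2 = 1 := by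
      rw [pow_two]
      calc S0 * C0 * (S0 * C0) = S0 * (C0 * S0) * C0 := by group
        _ = (S0 * S0) * (C0 * C0) := by rw [← h2]; group
        _ = 1 := by rw [S0_sq, fpf_C0.1, one_mul]
    rw [h3, one_pow]
  · apply S0_C0_pow_four
    apply h.inj
    have h2 := h.sq _ h1
    rw [← map_mul, ← map_pow, ← map_mul] at h2
    rw [map_one, ← h2, ← pow_add]
  · apply S0_C0_pow_three
    apply h.inj
    rw [map_one, map_pow, map_mul, h1]

/-- an involution of `φ(A₈)` in `D` comes from a fixed point free one -/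
theorem of_mem (h : Hyp D y φ) {a : A8} (ha : φ a ∈ D) : Fpf a := by
  have h1 : a * a = 1 := h.inj (by rw [map_mul, h.sq _ ha, map_one])
  have h2 : a ≠ 1 := by
    rintro rfl
    rw [map_one] at ha
    exact h.one ha
  by_contra hn
  obtain ⟨g, rfl⟩ := conj_fix h1 h2 hn
  apply h.not_S0
  have h3 := h.conj _ ha (φ g)⁻¹
  rw [map_mul, map_mul, map_inv] at h3
  have h4 : (φ g)⁻¹ * (φ g * φ S0 * (φ g)⁻¹) * (φ g)⁻¹⁻¹ = φ S0 := by group
  rwa [h4] at h3

end Hyp

theorem exists_zeta {y : G} (h5 : y ^ 5 = 1) (h1 : y ≠ 1) :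
    ∃ ζ : Multiplicative (ZMod 5) →* G, Function.Injective ζ ∧ ∀ g, g ∈ zpowers y ↔ ∃ i, ζ i = g := by
  have : Fact (Nat.Prime 5) := ⟨by norm_num⟩
  have ho : orderOf y = 5 := orderOf_eq_prime h5 h1
  have hc : Nat.card (zpowers y) = 5 := by rw [Nat.card_zpowers, ho]
  let e : Multiplicative (ZMod 5) ≃* zpowers y :=
    zmodMulEquivOfGenerator (g := (⟨y, mem_zpowers y⟩ : zpowers y)) (by
      rintro ⟨_, k, rfl⟩
      exact ⟨k, Subtype.ext rfl⟩) hc
  refine ⟨(zpowers y).subtype.comp e.toMonoidHom, ?_, ?_⟩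
  · exact (zpowers y).subtype_injective.comp e.injective
  · intro g
    constructor
    · intro hg
      exact ⟨e.symm ⟨g, hg⟩, by simp⟩
    · rintro ⟨i, rfl⟩
      exact (e i).2

theorem last {a b e : G} (k1 : e * a * e = a * e * a) (k2 : e * b * e = b * e * b)
    (k3 : e * (a * b) * e = a * b * e * (a * b)) (sa : a * a = 1) (sb : b * b = 1) (se : e * e = 1)
    (cab : a * b = b * a) : e = b := by
  have h1 : e * (a * b) * e = a * e * a * (b * e * b) := by
    rw [← k1, ← k2]
    calc e * (a * b) * e = e * a * (1 : G) * b * e := by group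
      _ = e * a * (e * e) * b * e := by rw [se]
      _ = e * a * e * (e * b * e) := by group
  have h2 : b * e * a = e * a * b * e := by
    have h3 : a * b * e * (a * b) = a * e * a * (b * e * b) := by rw [← k3, h1]
    have h4 : a * (b * e * a) * b = a * (e * a * b * e) * b := by
      calc a * (b * e * a) * b = a * b * e * (a * b) := by group
        _ = a * e * a * (b * e * b) := h3
        _ = a * (e * a * b * e) * b := by group
    exact mul_left_cancel (mul_right_cancel h4)
  have h3 : b * e * a = a * b * e * (a * b) := by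
    rw [h2, ← k3]; group
  have h4 : e * a = a * e * b * a := by
    calc e * a = (b * b) * e * a := by rw [sb, one_mul]
      _ = b * (b * e * a) := by group
      _ = b * (a * b * e * (a * b)) := by rw [h3]
      _ = (b * a) * b * e * (a * b) := by group
      _ = a * (b * b) * e * (b * a) := by rw [← cab]; group
      _ = a * e * b * a := by rw [sb]; group
  have h5 : e = a * e * b := mul_right_cancel h4
  have h6 : a * e = e * b := by
    calc a * e = a * (a * e * b) := by rw [← h5]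
      _ = (a * a) * e * b := by group
      _ = e * b := by rw [sa, one_mul]
  calc e = (a * a) * e * (a * a) := by rw [sa]; group
    _ = a * (a * e * a) * a := by group
    _ = a * (e * (a * e)) * a := by rw [← k1]; group
    _ = a * ((e * e) * b) * a := by rw [h6]; group
    _ = (a * b) * a := by rw [se]; group
    _ = b * (a * a) := by rw [cab]; group
    _ = b := by rw [sa, mul_one]

section

variable {D : Set G} {y : G} {φ : A8 →* G} (h : Hyp D y φ) {ζ : Multiplicative (ZMod 5) →* G}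
  (hζ : Function.Injective ζ) (hy : ∀ g, g ∈ zpowers y ↔ ∃ i, ζ i = g)
include h hζ hy

theorem zeta_comm (i : Multiplicative (ZMod 5)) (a : A8) : Commute (ζ i) (φ a) := by
  obtain ⟨k, hk⟩ := mem_zpowers_iff.1 ((hy _).2 ⟨i, rfl⟩)
  rw [← hk]
  exact (Commute.zpow_left (h.comm a).symm k)

theorem zeta_five (i : Multiplicative (ZMod 5)) : i ^ 5 = 1 := by
  revert i
  decide

theorem inj_psi {i : Multiplicative (ZMod 5)} {a : A8} (hi : ζ i * φ a = 1) : i = 1 ∧ a = 1 := by
  have h1 : φ a = (ζ i)⁻¹ := (inv_eq_of_mul_eq_one_right hi).symm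
  have ha : a = 1 := by
    have h2 : a ∈ Subgroup.center A8 := by
      rw [mem_center_iff]
      intro b
      apply h.inj
      rw [map_mul, map_mul, h1]
      exact ((zeta_comm h hζ hy i b).inv_left.eq).symm
    rw [AltEight.center] at h2
    exact mem_bot.1 h2
  refine ⟨?_, ha⟩
  rw [ha, map_one, mul_one] at hi
  exact hζ (hi.trans (map_one ζ).symm)

/-- the homomorphism from `5 × A₈` -/
noncomputable def psi : Multiplicative (ZMod 5) × A8 →* G :=
  MonoidHom.noncommCoprod ζ φ (zeta_comm h hζ hy)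

theorem psi_apply (i : Multiplicative (ZMod 5)) (a : A8) : psi h hζ hy (i, a) = ζ i * φ a := rfl

theorem psi_injective : Function.Injective (psi h hζ hy) := by
  rw [injective_iff_map_eq_one]
  rintro ⟨i, a⟩ hi
  rw [psi_apply] at hi
  obtain ⟨rfl, rfl⟩ := inj_psi h hζ hy hi
  rfl

theorem zeta_comm_y (i : Multiplicative (ZMod 5)) : ζ i * y = y * ζ i := by
  obtain ⟨k, hk⟩ := mem_zpowers_iff.1 ((hy _).2 ⟨i, rfl⟩)
  rw [← hk]
  exact ((Commute.refl y).zpow_left k).eq

theorem psi_comm_y (p : Multiplicative (ZMod 5) × A8) : psi h hζ hy p * y = y * psi h hζ hy p := by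
  obtain ⟨i, a⟩ := p
  rw [psi_apply, mul_assoc, h.comm, ← mul_assoc, zeta_comm_y h hζ hy, mul_assoc]

variable [Finite G]

/-- the centralizer of `φ T0` in `C(y)` -/
theorem cent_T0 {g : G} (hgy : g * y = y * g) (hg : g * φ T0 = φ T0 * g) :
    ∃ p, psi h hζ hy p = g := by
  let C : Subgroup (Multiplicative (ZMod 5) × A8) := (⊤ : Subgroup (Multiplicative (ZMod 5))).prod (centralizer ({T0} : Set A8))
  have hC : 960 ≤ Nat.card C := by
    have h1 : Nat.card C = 5 * Nat.card (centralizer ({T0} : Set A8)) := by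
      rw [Nat.card_congr (prodEquiv _ _).toEquiv, Nat.card_prod]
      congr 1
      rw [card_top]
      simp
    rw [h1]
    have := card_cent_T0
    omega
  have hle : C.map (psi h hζ hy) ≤ centralizer ({φ T0} : Set G) ⊓ centralizer ({y} : Set G) := by
    rintro _ ⟨⟨i, a⟩, ha, rfl⟩
    refine mem_inf.2 ⟨mem_centralizer_singleton_iff.2 ?_, mem_centralizer_singleton_iff.2 (psi_comm_y h hζ hy _)⟩
    have h2 : a * T0 = T0 * a := mem_centralizer_singleton_iff.1 (mem_prod.1 ha).2
    rw [psi_apply, mul_assoc, ← map_mul, h2, map_mul, ← mul_assoc, (zeta_comm h hζ hy i T0).eq, mul_assoc]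
  have heq : C.map (psi h hζ hy) = centralizer ({φ T0} : Set G) ⊓ centralizer ({y} : Set G) := by
    apply eq_of_le_of_card_ge hle
    rw [card_map_of_injective (psi_injective h hζ hy)]
    exact h.card.trans hC
  have hg' : g ∈ centralizer ({φ T0} : Set G) ⊓ centralizer ({y} : Set G) :=
    mem_inf.2 ⟨mem_centralizer_singleton_iff.2 hg, mem_centralizer_singleton_iff.2 hgy⟩
  rw [← heq] at hg'
  obtain ⟨p, -, hp⟩ := hg'
  exact ⟨p, hp⟩

/-- the centralizer in `C(y)` of the image of a fixed point free involution -/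
theorem cent_fpf {a : A8} (ha : Fpf a) {g : G} (hgy : g * y = y * g) (hg : g * φ a = φ a * g) :
    ∃ p, psi h hζ hy p = g := by
  obtain ⟨b, rfl⟩ := conj_T0 ha
  have hb : psi h hζ hy (1, b) = φ b := by rw [psi_apply, map_one, one_mul]
  have h1 : (φ b)⁻¹ * g * φ b * y = y * ((φ b)⁻¹ * g * φ b) := by
    have e1 := h.comm b
    have e2 : (φ b)⁻¹ * y = y * (φ b)⁻¹ := by
      rw [inv_mul_eq_iff_eq_mul, ← mul_assoc, e1, mul_inv_cancel_right]
    calc (φ b)⁻¹ * g * φ b * y = (φ b)⁻¹ * g * (φ b * y) := by group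
      _ = (φ b)⁻¹ * (g * y) * φ b := by rw [e1]; group
      _ = ((φ b)⁻¹ * y) * g * φ b := by rw [hgy]; group
      _ = y * ((φ b)⁻¹ * g * φ b) := by rw [e2]; group
  have h2 : (φ b)⁻¹ * g * φ b * φ T0 = φ T0 * ((φ b)⁻¹ * g * φ b) := by
    rw [map_mul, map_mul, map_inv] at hg
    calc (φ b)⁻¹ * g * φ b * φ T0 = (φ b)⁻¹ * (g * (φ b * φ T0 * (φ b)⁻¹)) * φ b := by group
      _ = φ T0 * ((φ b)⁻¹ * g * φ b) := by rw [hg]; group
  obtain ⟨p, hp⟩ := cent_T0 h hζ hy h1 h2
  refine ⟨(1, b) * p * (1, b)⁻¹, ?_⟩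
  rw [map_mul, map_mul, map_inv, hb, hp]
  group

theorem pow_two_five {i : Multiplicative (ZMod 5)} (hi : i * i = 1) : i = 1 := by
  revert i
  decide

/-- a member of `D` in `5 × A₈` -/
theorem mem_D_psi {p : Multiplicative (ZMod 5) × A8} (hp : psi h hζ hy p ∈ D) :
    ∃ a, Fpf a ∧ psi h hζ hy p = φ a := by
  have h1 := h.sq _ hp
  rw [← map_mul] at h1
  have h2 := psi_injective h hζ hy (h1.trans (map_one _).symm)
  obtain ⟨i, a⟩ := p
  have hi : i = 1 := pow_two_five h hζ hy (congrArg Prod.fst h2)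
  subst hi
  rw [psi_apply, map_one, one_mul] at hp ⊢
  exact ⟨a, h.of_mem hp, rfl⟩

/-- a member of `D ∩ C(y)` commuting with the image of a fixed point free involution -/
theorem near {a : A8} (ha : Fpf a) {e : G} (he : e ∈ D) (hey : e * y = y * e) (hea : e * φ a = φ a * e) :
    ∃ b, Fpf b ∧ e = φ b := by
  obtain ⟨p, rfl⟩ := cent_fpf h hζ hy ha hey hea
  exact mem_D_psi h hζ hy he

/-- the same if the product does not have order three -/
theorem near' {a : A8} (ha : Fpf a) {e : G} (he : e ∈ D) (hey : e * y = y * e) (h3 : (φ a * e) ^ 3 ≠ 1) :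
    ∃ b, Fpf b ∧ e = φ b := by
  rcases h.pair _ (h.fpf_mem ha) _ he with h1 | h1 | h1
  · exact near h hζ hy ha he hey h1.symm
  · have sa := h.sq _ (h.fpf_mem ha)
    have se := h.sq _ he
    have hi : (φ a * e) ^ 2 * (φ a * e) ^ 2 = 1 := h.sq _ h1
    -- `(φ a * e)^2` commutes with `φ a` and `e`
    have c1 : (φ a * e) ^ 2 * φ a = φ a * (φ a * e) ^ 2 := by
      have e1 : (φ a * e) ^ 2 * φ a = φ a * (e * φ a) ^ 2 := by rw [pow_two, pow_two]; group
      have e2 : (e * φ a) ^ 2 = ((φ a * e) ^ 2)⁻¹ := by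
        rw [← inv_pow]
        congr 1
        rw [mul_inv_rev, inv_eq_of_mul_eq_one_left sa, inv_eq_of_mul_eq_one_left se]
      rw [e1, e2, inv_eq_of_mul_eq_one_left hi]
    have c2 : (φ a * e) ^ 2 * e = e * (φ a * e) ^ 2 := by
      have e1 : e * (φ a * e) ^ 2 = (e * φ a) ^ 2 * e := by rw [pow_two, pow_two]; group
      have e2 : (e * φ a) ^ 2 = ((φ a * e) ^ 2)⁻¹ := by
        rw [← inv_pow]
        congr 1
        rw [mul_inv_rev, inv_eq_of_mul_eq_one_left sa, inv_eq_of_mul_eq_one_left se]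
      rw [e1, e2, inv_eq_of_mul_eq_one_left hi]
    have cy : (φ a * e) ^ 2 * y = y * (φ a * e) ^ 2 := by
      have : Commute (φ a * e) y := Commute.mul_left (h.comm a) hey
      exact (this.pow_left 2).eq
    obtain ⟨b, hb, hb'⟩ := near h hζ hy ha h1 cy c1
    exact near h hζ hy hb he hey (by rw [← hb']; exact c2.symm)
  · exact absurd h1 h3

/-- **the members of `D` in `C(y)`** -/
theorem mem_D {e : G} (he : e ∈ D) (hey : e * y = y * e) : ∃ b, Fpf b ∧ e = φ b := by
  by_contra hn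
  have key : ∀ a, Fpf a → (φ a * e) ^ 3 = 1 := by
    intro a ha
    by_contra h3
    exact hn (near' h hζ hy ha he hey h3)
  have se := h.sq _ he
  have braid : ∀ a, Fpf a → e * φ a * e = φ a * e * φ a := by
    intro a ha
    have h1 := key a ha
    have sa := h.sq _ (h.fpf_mem ha)
    have h2 : φ a * e * (φ a * e) * (φ a * e) = 1 := by rw [← h1, pow_succ, pow_two]
    have h3 : φ a * e * φ a * (e * φ a * e) = 1 := by rw [← h2]; group
    have h4 : (φ a * e * φ a)⁻¹ = φ a * e * φ a := by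
      rw [mul_inv_rev, mul_inv_rev, inv_eq_of_mul_eq_one_left sa, inv_eq_of_mul_eq_one_left se]; group
    rw [← inv_eq_of_mul_eq_one_right h3, h4]
  have k1 := braid T0 fpf_T0
  have k2 := braid B0 fpf_B0
  have k3 := braid (T0 * B0) fpf_T0_B0
  rw [map_mul] at k3
  have sT := h.sq _ (h.fpf_mem fpf_T0)
  have sB := h.sq _ (h.fpf_mem fpf_B0)
  have sTB := h.sq _ (h.fpf_mem fpf_T0_B0)
  rw [map_mul] at sTB
  have cTB : φ T0 * φ B0 = φ B0 * φ T0 := by
    have : (φ T0 * φ B0)⁻¹ = φ T0 * φ B0 := inv_eq_of_mul_eq_one_left sTB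
    rw [mul_inv_rev, inv_eq_of_mul_eq_one_left sT, inv_eq_of_mul_eq_one_left sB] at this
    exact this.symm
  apply hn
  refine ⟨B0, fpf_B0, ?_⟩
  exact last k1 k2 k3 sT sB se cTB

/-- the group order of the centralizer -/
theorem cent_all {g : G} (hg : g * y = y * g) : ∃ p, psi h hζ hy p = g := by
  have h1 := h.conj _ h.mem g
  have h2 : g * φ T0 * g⁻¹ * y = y * (g * φ T0 * g⁻¹) := by
    have e2 : g⁻¹ * y = y * g⁻¹ := by
      rw [inv_mul_eq_iff_eq_mul, ← mul_assoc, hg, mul_inv_cancel_right]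
    calc g * φ T0 * g⁻¹ * y = g * φ T0 * (g⁻¹ * y) := by group
      _ = g * (φ T0 * y) * g⁻¹ := by rw [e2]; group
      _ = g * y * φ T0 * g⁻¹ := by rw [h.comm]; group
      _ = _ := by rw [hg]; group
  obtain ⟨b, hb, hb'⟩ := mem_D h hζ hy h1 h2
  obtain ⟨c, rfl⟩ := conj_T0 hb
  have h3 : (φ c)⁻¹ * g * φ T0 = φ T0 * ((φ c)⁻¹ * g) := by
    rw [map_mul, map_mul, map_inv] at hb'
    calc (φ c)⁻¹ * g * φ T0 = (φ c)⁻¹ * (g * φ T0 * g⁻¹) * g := by group
      _ = φ T0 * ((φ c)⁻¹ * g) := by rw [hb']; group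
  have h4 : (φ c)⁻¹ * g * y = y * ((φ c)⁻¹ * g) := by
    have e2 : (φ c)⁻¹ * y = y * (φ c)⁻¹ := by
      rw [inv_mul_eq_iff_eq_mul, ← mul_assoc, h.comm c, mul_inv_cancel_right]
    rw [mul_assoc, hg, ← mul_assoc, e2, mul_assoc]
  obtain ⟨p, hp⟩ := cent_T0 h hζ hy h4 h3
  refine ⟨(1, c) * p, ?_⟩
  rw [map_mul, hp, psi_apply, map_one, one_mul]
  group

end

/-- **the centralizer of `y`** -/
theorem result [Finite G] {D : Set G} {y : G} {φ : A8 →* G} (h : Hyp D y φ) :
    Nonempty (↥(centralizer ({y} : Set G)) ≃* Multiplicative (ZMod 5) × A8) := by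
  obtain ⟨ζ, hζ, hy⟩ := exists_zeta h.five h.ne
  have h1 : (psi h hζ hy).range = centralizer ({y} : Set G) := by
    ext g
    rw [mem_centralizer_singleton_iff]
    constructor
    · rintro ⟨p, rfl⟩
      exact psi_comm_y h hζ hy p
    · intro hg
      exact cent_all h hζ hy hg
  exact ⟨((MonoidHom.ofInjective (psi_injective h hζ hy)).trans (MulEquiv.subgroupCongr h1)).symm⟩

end Cfsg.Agent.H898.TE6Abs
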