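import Mathlib

/-!
# Bounding the centralizer of an element in the centralizer of an involution (helper898)

`R` is a 2-group normalized by `C(t)`, `y ∈ C(t)` of order five.
* `chain` : the index in `R` of the centralizer of `n` elements is at least `2 ^ n` if there are separating elements;
* `bound` : the bound `|C(t) ∩ C(y)| ≤ 960`;
* `comm_u` : an element of `R` commuting with `y` commutes with all commutators `[r, y]`, `r ∈ R`.
-/

set_option autoImplicit false
set_option linter.unusedSectionVars false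

namespace Cfsg.Agent.H898.TE6Bound

open Subgroup

variable {G : Type*} [Group G] [Finite G]

theorem card_mul_rel {H S : Subgroup G} (h : H ≤ S) : Nat.card H * H.relIndex S = Nat.card S := by
  have := relIndex_mul_relIndex (⊥ : Subgroup G) H S bot_le h
  rwa [relIndex_bot_left, relIndex_bot_left] at this

/-- two subgroups of a group -/
theorem card_mul_le {H K S : Subgroup G} (hH : H ≤ S) (hK : K ≤ S) :
    Nat.card H * Nat.card K ≤ Nat.card S * Nat.card ↥(H ⊓ K) := by
  have h1 : H.relIndex K ≤ H.relIndex S := relIndex_le_of_le_right hK (by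
    rw [relIndex]; exact index_ne_zero_of_finite)
  have h2 : Nat.card ↥(H ⊓ K) * H.relIndex K = Nat.card K := by
    rw [← inf_relIndex_right H K]
    exact card_mul_rel inf_le_right
  have h3 : Nat.card H * H.relIndex S = Nat.card S := card_mul_rel hH
  calc Nat.card H * Nat.card K = Nat.card H * (Nat.card ↥(H ⊓ K) * H.relIndex K) := by rw [h2]
    _ ≤ Nat.card H * (Nat.card ↥(H ⊓ K) * H.relIndex S) := by gcongr
    _ = (Nat.card H * H.relIndex S) * Nat.card ↥(H ⊓ K) := by ring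
    _ = _ := by rw [h3]

/-- a proper subgroup has at most half the order -/
theorem two_mul_card {H K : Subgroup G} (hle : H ≤ K) {x : G} (hx : x ∈ K) (hx' : x ∉ H) :
    2 * Nat.card H ≤ Nat.card K := by
  obtain ⟨c, hc⟩ := card_dvd_of_le hle
  have h0 : 0 < Nat.card K := Nat.card_pos
  have h1 : 0 < Nat.card H := Nat.card_pos
  rcases c with _ | _ | c
  · omega
  · exfalso
    apply hx'
    have : H = K := eq_of_le_of_card_ge hle (by omega)
    rw [this]; exact hx
  · rw [hc]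
    nlinarith

/-- the subgroup of `R` centralizing `u 0, …, u (n - 1)` -/
def cz (R : Subgroup G) (u : ℕ → G) (n : ℕ) : Subgroup G := R ⊓ centralizer {g | ∃ j < n, g = u j}

theorem mem_cz {R : Subgroup G} {u : ℕ → G} {n : ℕ} {x : G} :
    x ∈ cz R u n ↔ x ∈ R ∧ ∀ j < n, x * u j = u j * x := by
  rw [cz, mem_inf, mem_centralizer_iff]
  constructor
  · rintro ⟨h, h1⟩
    exact ⟨h, fun j hj => (h1 _ ⟨j, hj, rfl⟩).symm⟩
  · rintro ⟨h, h1⟩
    refine ⟨h, ?_⟩
    rintro _ ⟨j, hj, rfl⟩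
    exact (h1 j hj).symm

theorem chain {R : Subgroup G} {u s : ℕ → G} (n : ℕ) (hs : ∀ k < n, s k ∈ R)
    (h1 : ∀ k < n, ∀ j < k, s k * u j = u j * s k) (h2 : ∀ k < n, s k * u k ≠ u k * s k) :
    2 ^ n * Nat.card (cz R u n) ≤ Nat.card R := by
  induction n with
  | zero =>
    have h3 : cz R u 0 = R := by
      ext x
      rw [mem_cz]
      constructor
      · exact fun h => h.1
      · exact fun h => ⟨h, fun j hj => absurd hj (by omega)⟩
    rw [h3]; simp
  | succ n ih =>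
    have ih' := ih (fun k hk => hs k (by omega)) (fun k hk => h1 k (by omega)) (fun k hk => h2 k (by omega))
    have h3 : 2 * Nat.card (cz R u (n + 1)) ≤ Nat.card (cz R u n) := by
      apply two_mul_card (x := s n)
      · intro x hx
        rw [mem_cz] at hx ⊢
        exact ⟨hx.1, fun j hj => hx.2 j (by omega)⟩
      · rw [mem_cz]
        exact ⟨hs n (by omega), fun j hj => h1 n (by omega) j hj⟩
      · intro h
        rw [mem_cz] at h
        exact h2 n (by omega) (h.2 n (by omega))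
    calc 2 ^ (n + 1) * Nat.card (cz R u (n + 1)) = 2 ^ n * (2 * Nat.card (cz R u (n + 1))) := by ring
      _ ≤ 2 ^ n * Nat.card (cz R u n) := by gcongr
      _ ≤ _ := ih'

section

variable {t y : G} {R : Subgroup G}

/-- the elements of `C(t)` centralizing `y` modulo `R` -/
def modC (hRn : ∀ g, g * t = t * g → ∀ r ∈ R, g * r * g⁻¹ ∈ R) (hyt : y * t = t * y) : Subgroup G where
  carrier := {g | g * t = t * g ∧ y⁻¹ * g⁻¹ * y * g ∈ R}
  one_mem' := ⟨by group, by have : y⁻¹ * (1 : G)⁻¹ * y * 1 = 1 := by group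
                            rw [this]; exact R.one_mem⟩
  mul_mem' := by
    rintro g h ⟨g1, g2⟩ ⟨h1, h2⟩
    refine ⟨by rw [mul_assoc, h1, ← mul_assoc, g1, mul_assoc], ?_⟩
    have e : y⁻¹ * (g * h)⁻¹ * y * (g * h) = y⁻¹ * h⁻¹ * y * h * (h⁻¹ * (y⁻¹ * g⁻¹ * y * g) * h⁻¹⁻¹) := by group
    rw [e]
    exact R.mul_mem h2 (hRn _ (by rw [inv_mul_eq_iff_eq_mul, ← mul_assoc, h1, mul_inv_cancel_right]) _ g2)
  inv_mem' := by
    rintro g ⟨g1, g2⟩
    refine ⟨by rw [inv_mul_eq_iff_eq_mul, ← mul_assoc, g1, mul_inv_cancel_right], ?_⟩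
    have e : y⁻¹ * g⁻¹⁻¹ * y * g⁻¹ = (y⁻¹ * g * y) * (y⁻¹ * g⁻¹ * y * g)⁻¹ * (y⁻¹ * g * y)⁻¹ := by group
    rw [e]
    refine hRn _ ?_ _ (R.inv_mem g2)
    have c1 : Commute y t := hyt
    have c2 : Commute g t := g1
    exact ((c1.inv_left.mul_left c2).mul_left c1).eq

omit [Finite G] in
theorem mem_modC {hRn : ∀ g, g * t = t * g → ∀ r ∈ R, g * r * g⁻¹ ∈ R} {hyt : y * t = t * y} {g : G} :
    g ∈ modC hRn hyt ↔ g * t = t * g ∧ y⁻¹ * g⁻¹ * y * g ∈ R := Iff.rfl

/-- **the bound** -/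
theorem bound (hRt : ∀ r ∈ R, r * t = t * r) (hRn : ∀ g, g * t = t * g → ∀ r ∈ R, g * r * g⁻¹ ∈ R)
    (hyt : y * t = t * y) (Q : Subgroup G) (hQt : ∀ q ∈ Q, q * t = t * q)
    (hQ : ∀ q ∈ Q, y⁻¹ * q⁻¹ * y * q ∈ R → q * y = y * q)
    (c1 : Nat.card ↥(Q ⊓ centralizer ({y} : Set G)) ≤ 60)
    (c2 : Nat.card (centralizer ({t} : Set G)) = 2 ^ 20 * Nat.card Q)
    (c3 : 2 ^ 16 * Nat.card ↥(R ⊓ centralizer ({y} : Set G)) ≤ Nat.card R) :
    Nat.card ↥(centralizer ({t} : Set G) ⊓ centralizer ({y} : Set G)) ≤ 960 := by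
  set P := centralizer ({t} : Set G) with hP
  set C := P ⊓ centralizer ({y} : Set G) with hC
  set S := modC hRn hyt with hS
  have hSP : S ≤ P := fun g hg => mem_centralizer_singleton_iff.2 hg.1
  have hQP : Q ≤ P := fun g hg => mem_centralizer_singleton_iff.2 (hQt g hg)
  have hCS : C ≤ S := by
    intro g hg
    have h1 := mem_centralizer_singleton_iff.1 (mem_inf.1 hg).1
    have h2 := mem_centralizer_singleton_iff.1 (mem_inf.1 hg).2
    refine ⟨h1, ?_⟩
    have : y⁻¹ * g⁻¹ * y * g = 1 := by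
      rw [mul_assoc, ← h2]; group
    rw [this]; exact R.one_mem
  have hRS : R ≤ S := by
    intro r hr
    refine ⟨hRt r hr, ?_⟩
    have h1 := hRn y⁻¹ (by rw [inv_mul_eq_iff_eq_mul, ← mul_assoc, hyt, mul_inv_cancel_right]) _ (R.inv_mem hr)
    have e : y⁻¹ * r⁻¹ * y * r = y⁻¹ * r⁻¹ * y⁻¹⁻¹ * r := by group
    rw [e]
    exact R.mul_mem h1 hr
  have h1 := card_mul_le hSP hQP
  have h2 := card_mul_le hCS hRS
  have h3 : Nat.card ↥(S ⊓ Q) ≤ 60 := by
    refine le_trans (card_le_of_le ?_) c1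
    intro g hg
    obtain ⟨hg1, hg2⟩ := mem_inf.1 hg
    exact mem_inf.2 ⟨hg2, mem_centralizer_singleton_iff.2 (hQ g hg2 hg1.2)⟩
  have h4 : Nat.card ↥(C ⊓ R) ≤ Nat.card ↥(R ⊓ centralizer ({y} : Set G)) := by
    apply card_le_of_le
    intro g hg
    obtain ⟨hg1, hg2⟩ := mem_inf.1 hg
    exact mem_inf.2 ⟨hg2, (mem_inf.1 hg1).2⟩
  have hQ0 : 0 < Nat.card Q := Nat.card_pos
  have hR0 : 0 < Nat.card R := Nat.card_pos
  have hCR0 : 0 < Nat.card ↥(C ⊓ R) := Nat.card_pos
  rw [c2] at h1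
  generalize Nat.card Q = q at *
  generalize Nat.card R = r at *
  generalize Nat.card ↥(C ⊓ R) = k at *
  generalize Nat.card ↥(S ⊓ Q) = l at *
  generalize Nat.card S = s at *
  generalize Nat.card C = c at *
  generalize Nat.card ↥(R ⊓ centralizer ({y} : Set G)) = m at *
  -- s ≤ 2^20 * 60
  have h5 : s ≤ 2 ^ 20 * 60 := by
    have : s * q ≤ (2 ^ 20 * 60) * q := by
      calc s * q ≤ 2 ^ 20 * q * l := h1
        _ ≤ 2 ^ 20 * q * 60 := by gcongr
        _ = _ := by ring
    exact Nat.le_of_mul_le_mul_right this hQ0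
  have h6 : 2 ^ 16 * k ≤ r := le_trans (by gcongr) c3
  have h7 : c * 2 ^ 16 ≤ s := by
    have : (c * 2 ^ 16) * k ≤ s * k := by
      calc (c * 2 ^ 16) * k = c * (2 ^ 16 * k) := by ring
        _ ≤ c * r := by gcongr
        _ ≤ s * k := h2
    exact Nat.le_of_mul_le_mul_right this hCR0
  omega

omit [Finite G] in
/-- an element of `R` commuting with `y` commutes with `[r, y]` -/
theorem comm_u {x r : G} (hyt : y * t = t * y) (hrt : r * t = t * r) (ht : t * t = 1)
    (hxr : x * r = r * x ∨ x * r = r * x * t) (hxy : x * y = y * x) :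
    x * (r * y⁻¹ * r * y) = r * y⁻¹ * r * y * x := by
  have e2 : x * y⁻¹ = y⁻¹ * x := by
    rw [eq_inv_mul_iff_mul_eq, ← mul_assoc, ← hxy, mul_inv_cancel_right]
  have e3 : t * y⁻¹ = y⁻¹ * t := by
    rw [eq_inv_mul_iff_mul_eq, ← mul_assoc, hyt, mul_inv_cancel_right]
  rcases hxr with h | h
  · calc x * (r * y⁻¹ * r * y) = (x * r) * y⁻¹ * r * y := by group
      _ = r * (x * y⁻¹) * r * y := by rw [h]; group
      _ = r * y⁻¹ * (x * r) * y := by rw [e2]; group
      _ = r * y⁻¹ * r * (x * y) := by rw [h]; group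
      _ = _ := by rw [hxy]; group
  · calc x * (r * y⁻¹ * r * y) = (x * r) * y⁻¹ * r * y := by group
      _ = r * x * (t * y⁻¹) * r * y := by rw [h]; group
      _ = r * (x * y⁻¹) * (t * r) * y := by rw [e3]; group
      _ = r * y⁻¹ * (x * r) * t * y := by rw [← hrt, e2]; group
      _ = r * y⁻¹ * r * x * (t * t) * y := by rw [h]; group
      _ = r * y⁻¹ * r * (x * y) := by rw [ht]; group
      _ = _ := by rw [hxy]; group

end

end Cfsg.Agent.H898.TE6Bound
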