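import Cfsg.Agent.TwoESix.SheetA

/-!
# ²E₆(2): facts about the class of root involutions (helper898)

* `pair` : the product of two root involutions;
* `exists_R` : the large extraspecial subgroup of the centralizer of a root involution and the root involutions in it;
* `card_cent'` : the order of the centralizer.
-/

set_option autoImplicit false
set_option linter.unusedSectionVars false

namespace Cfsg.Agent.H898.TE6Facts

open Cfsg Cfsg.Lie
open Cfsg.Agent.ChevalleyStructure
open Cfsg.Agent.ChevalleyStructure.Elts hiding x_add x_zero x_eq_one_iff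
open Cfsg.Agent.ChevalleyStructure.TwE6Basic
open Cfsg.Agent.ChevalleyStructure.TwE6BN
open Cfsg.Agent.TwoESix.LeviA
open Cfsg.Agent.TwoESix.LeviB
open Cfsg.Agent.TwoESix.LeviC
open Cfsg.Agent.TwoESix.LeviD
open Cfsg.Agent.TwoESix.LongPairs
open Cfsg.Agent.TwoESix.LongCard
open Cfsg.Agent.TwoESix.FlagH
open Cfsg.Agent.TwoESix.FlagI
open Cfsg.Agent.TwoESix.KeyExtra
open Cfsg.Agent.TwoESix.SheetA
open Cfsg.Agent.BabyU (rootClass)
open Cfsg.Agent.Co2Type.Quad (Large)

universe u

variable {K : Type u} [Field K]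

section Four

variable [Fintype K] {φ : K →+* K} (F : Four K φ)
include F

/-- pairs of root involutions up to conjugacy -/
theorem pair_cases {a b : ↥(twistedE6 K 2)} (ha : a ∈ rootClass K) (hb : b ∈ rootClass K) :
    ∃ c : ↥(twistedE6 K 2), c * a * c⁻¹ = r0 F ∧ ∃ γ ∈ [71, 70, 60, 25, 0],
      ((c * b * c⁻¹ : ↥(twistedE6 K 2)) : GL chevE6.Idx K) = x γ 1 := by
  obtain ⟨g, rfl⟩ := exists_conj F ha
  obtain ⟨h, rfl⟩ := exists_conj F hb
  obtain ⟨c, hc, h1, γ, hγ, h2⟩ := pair_general F g.2 h.2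
  exact ⟨⟨c, hc⟩, Subtype.ext h1, γ, hγ, h2⟩

/-- **the product of two root involutions** -/
theorem pair {a b : ↥(twistedE6 K 2)} (ha : a ∈ rootClass K) (hb : b ∈ rootClass K) :
    a * b = b * a ∨ (a * b) ^ 2 ∈ rootClass K ∨ (a * b) ^ 3 = 1 := by
  have := F.charP
  obtain ⟨c, h1, γ, hγ, h2⟩ := pair_cases F ha hb
  have e1 : (c * a * c⁻¹) * (c * b * c⁻¹) = c * (a * b) * c⁻¹ := by group
  have e2 : (c * b * c⁻¹) * (c * a * c⁻¹) = c * (b * a) * c⁻¹ := by group
  simp only [List.mem_cons, List.not_mem_nil, or_false] at hγ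
  rcases hγ with rfl | rfl | rfl | rfl | rfl
  · left
    have h3 : c * b * c⁻¹ = c * a * c⁻¹ := by rw [h1]; exact Subtype.ext h2
    have h4 : b = a := mul_left_cancel (mul_right_cancel h3)
    rw [h4]
  · left
    have h3 : (c * a * c⁻¹) * (c * b * c⁻¹) = (c * b * c⁻¹) * (c * a * c⁻¹) := by
      rw [h1]
      apply Subtype.ext
      show x 71 (1 : K) * _ = _ * x 71 (1 : K)
      rw [h2]
      exact comm70
    rw [e1, e2] at h3
    exact mul_left_cancel (mul_right_cancel h3)
  · left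
    have h3 : (c * a * c⁻¹) * (c * b * c⁻¹) = (c * b * c⁻¹) * (c * a * c⁻¹) := by
      rw [h1]
      apply Subtype.ext
      show x 71 (1 : K) * _ = _ * x 71 (1 : K)
      rw [h2]
      exact comm60
    rw [e1, e2] at h3
    exact mul_left_cancel (mul_right_cancel h3)
  · right; left
    have h3 : ((c * a * c⁻¹) * (c * b * c⁻¹)) ^ 2 = xe F 70 (by decide +kernel) := by
      rw [h1]
      apply Subtype.ext
      show (x 71 (1 : K) * _) ^ 2 = x 70 1
      rw [h2]
      exact sq25
    rw [e1, conj_pow] at h3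
    have h4 : (a * b) ^ 2 = c⁻¹ * xe F 70 (by decide +kernel) * c⁻¹⁻¹ := by rw [← h3]; group
    rw [h4]
    exact conj_T (xe_T F 70 _) _
  · right; right
    have h3 : ((c * a * c⁻¹) * (c * b * c⁻¹)) ^ 3 = 1 := by
      rw [h1]
      apply Subtype.ext
      show (x 71 (1 : K) * _) ^ 3 = 1
      rw [h2]
      exact cube0
    rw [e1, conj_pow, mul_inv_eq_one] at h3
    exact mul_eq_left.1 h3

/-- a root involution `d` commuting with `r0` such that `d r0` is a root involution lies in `R` -/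
theorem mem_RE {d : ↥(twistedE6 K 2)} (hd : d ∈ rootClass K) (hc : d * r0 F = r0 F * d)
    (hT : d * r0 F ∈ rootClass K) : d ∈ RE K := by
  have := F.charP
  have hr : r0 F ∈ rootClass K := xe_T F 71 (by decide +kernel)
  obtain ⟨c, h1, γ, hγ, h2⟩ := pair_cases F hr hd
  have hc0 : c * r0 F = r0 F * c := mul_inv_eq_iff_eq_mul.1 h1
  have hc0' : c⁻¹ * r0 F = r0 F * c⁻¹ := by
    rw [inv_mul_eq_iff_eq_mul, ← mul_assoc, hc0, mul_inv_cancel_right]
  have back : c * d * c⁻¹ ∈ RE K → d ∈ RE K := by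
    intro h
    have := R_norm F c⁻¹ hc0' _ h
    have e : c⁻¹ * (c * d * c⁻¹) * c⁻¹⁻¹ = d := by group
    rwa [e] at this
  have hcomm : (c * d * c⁻¹) * r0 F = r0 F * (c * d * c⁻¹) := by
    calc (c * d * c⁻¹) * r0 F = c * (d * r0 F) * c⁻¹ := by rw [mul_assoc, hc0']; group
      _ = c * r0 F * d * c⁻¹ := by rw [hc]; group
      _ = _ := by rw [hc0]; group
  have hT' : (c * d * c⁻¹) * r0 F ∈ rootClass K := by
    have e : (c * d * c⁻¹) * r0 F = c * (d * r0 F) * c⁻¹ := by rw [mul_assoc, hc0']; group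
    rw [e]; exact conj_T hT c
  simp only [List.mem_cons, List.not_mem_nil, or_false] at hγ
  rcases hγ with rfl | rfl | rfl | rfl | rfl
  · apply back
    have : c * d * c⁻¹ = r0 F := Subtype.ext h2
    rw [this]; exact r0_mem_RE F
  · apply back
    have : c * d * c⁻¹ = xe F 70 (by decide +kernel) := Subtype.ext h2
    rw [this]; exact c_R F
  · exfalso
    have : c * d * c⁻¹ = xe F 60 (by decide +kernel) := Subtype.ext h2
    rw [this] at hT'
    exact ab_not F hT'
  · exfalso
    have h3 := congrArg Subtype.val hcomm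
    have h4 : (x 25 (1 : K)) * x 71 1 = x 71 1 * x 25 1 := by
      rw [← h2]; exact h3
    have h5 := sq25 (K := K)
    have h6 : (x 71 (1 : K) * x 25 1) ^ 2 = 1 := by
      rw [pow_two]
      calc x 71 (1 : K) * x 25 1 * (x 71 1 * x 25 1) = x 71 1 * (x 25 1 * x 71 1) * x 25 1 := by group
        _ = (x 71 1 * x 71 1) * (x 25 1 * x 25 1) := by rw [h4]; group
        _ = 1 := by rw [x_sq, x_sq, one_mul]
    rw [h6] at h5
    exact x_ne_one (K := K) (r := 70) (by norm_num) h5.symm
  · exfalso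
    have h3 := congrArg Subtype.val hcomm
    have h4 : (x 0 (1 : K)) * x 71 1 = x 71 1 * x 0 1 := by
      rw [← h2]; exact h3
    have h5 := cube0 (K := K)
    have h6 : (x 71 (1 : K) * x 0 1) ^ 2 = 1 := by
      rw [pow_two]
      calc x 71 (1 : K) * x 0 1 * (x 71 1 * x 0 1) = x 71 1 * (x 0 1 * x 71 1) * x 0 1 := by group
        _ = (x 71 1 * x 71 1) * (x 0 1 * x 0 1) := by rw [h4]; group
        _ = 1 := by rw [x_sq, x_sq, one_mul]
    rw [pow_succ, h6, one_mul] at h5
    have h7 : x 71 (1 : K) = x 0 1 := by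
      rw [mul_eq_one_iff_eq_inv] at h5
      rw [h5, inv_eq_iff_mul_eq_one, x_sq]
    exact x_ne (K := K) (by norm_num) (by norm_num) (by norm_num) h7

/-- conjugating a large subgroup -/
theorem Large_conj {G : Type*} [Group G] {Q : Subgroup G} {z : G} (h : Large Q z) (g : G) :
    Large (Q.map (MulAut.conj g).toMonoidHom) (g * z * g⁻¹) := by
  have mem : ∀ x, x ∈ Q.map (MulAut.conj g).toMonoidHom ↔ g⁻¹ * x * g ∈ Q := by
    intro x
    constructor
    · rintro ⟨q, hq, rfl⟩
      have : g⁻¹ * (g * q * g⁻¹) * g = q := by group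
      show g⁻¹ * (g * q * g⁻¹) * g ∈ Q
      rw [this]; exact hq
    · intro hx
      refine ⟨_, hx, ?_⟩
      show g * (g⁻¹ * x * g) * g⁻¹ = x
      group
  have tr : ∀ x y : G, g⁻¹ * x * g = y → x = g * y * g⁻¹ := by rintro x y rfl; group
  refine { z_mem := ?_, z_ne := ?_, z_sq := ?_, comm_z := ?_, conj_mem := ?_, sq := ?_, comm := ?_, cent := ?_,
           self := ?_ }
  · rw [mem]
    have : g⁻¹ * (g * z * g⁻¹) * g = z := by group
    rw [this]; exact h.z_mem
  · intro h1
    apply h.z_ne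
    have : z = g⁻¹ * (g * z * g⁻¹) * g := by group
    rw [this, h1]; group
  · have : g * z * g⁻¹ * (g * z * g⁻¹) = g * (z * z) * g⁻¹ := by group
    rw [this, h.z_sq]; group
  · intro x hx
    have h1 := h.comm_z _ ((mem x).1 hx)
    calc x * (g * z * g⁻¹) = g * (g⁻¹ * x * g * z) * g⁻¹ := by group
      _ = _ := by rw [h1]; group
  · intro k hk x hx
    rw [mem] at hx ⊢
    have e : g⁻¹ * (k * x * k⁻¹) * g = (g⁻¹ * k * g) * (g⁻¹ * x * g) * (g⁻¹ * k * g)⁻¹ := by group
    rw [e]
    apply h.conj_mem _ _ _ hx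
    calc g⁻¹ * k * g * z = g⁻¹ * (k * (g * z * g⁻¹)) * g := by group
      _ = _ := by rw [hk]; group
  · intro x hx
    rcases h.sq _ ((mem x).1 hx) with h1 | h1
    · left
      calc x * x = g * (g⁻¹ * x * g * (g⁻¹ * x * g)) * g⁻¹ := by group
        _ = 1 := by rw [h1]; group
    · right
      calc x * x = g * (g⁻¹ * x * g * (g⁻¹ * x * g)) * g⁻¹ := by group
        _ = _ := by rw [h1]
  · intro x hx y hy
    rcases h.comm _ ((mem x).1 hx) _ ((mem y).1 hy) with h1 | h1
    · left
      calc x * y = g * (g⁻¹ * x * g * (g⁻¹ * y * g)) * g⁻¹ := by group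
        _ = y * x := by rw [h1]; group
    · right
      calc x * y = g * (g⁻¹ * x * g * (g⁻¹ * y * g)) * g⁻¹ := by group
        _ = _ := by rw [h1]; group
  · intro x hx hc
    have h1 := h.cent _ ((mem x).1 hx) (by
      intro y hy
      have h2 := hc (g * y * g⁻¹) ((mem _).2 (by
        have : g⁻¹ * (g * y * g⁻¹) * g = y := by group
        rw [this]; exact hy))
      calc g⁻¹ * x * g * y = g⁻¹ * (x * (g * y * g⁻¹)) * g := by group
        _ = _ := by rw [h2]; group)
    rcases h1 with h1 | h1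
    · left; rw [tr _ _ h1]; group
    · right; rw [tr _ _ h1]
  · intro k hk hc
    rw [mem]
    apply h.self
    · calc g⁻¹ * k * g * z = g⁻¹ * (k * (g * z * g⁻¹)) * g := by group
        _ = _ := by rw [hk]; group
    · intro y hy
      have h2 := hc (g * y * g⁻¹) ((mem _).2 (by
        have : g⁻¹ * (g * y * g⁻¹) * g = y := by group
        rw [this]; exact hy))
      calc g⁻¹ * k * g * y = g⁻¹ * (k * (g * y * g⁻¹)) * g := by group
        _ = _ := by rw [h2]; group

/-- **the large extraspecial subgroup of the centralizer of a root involution** -/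
theorem exists_R {t : ↥(twistedE6 K 2)} (ht : t ∈ rootClass K) : ∃ R : Subgroup ↥(twistedE6 K 2), Large R t ∧
    ∀ d ∈ rootClass K, d * t = t * d → d * t ∈ rootClass K → d ∈ R := by
  obtain ⟨g, rfl⟩ := exists_conj F ht
  refine ⟨(RE K).map (MulAut.conj g).toMonoidHom, Large_conj F (large F) g, ?_⟩
  intro d hd hc hT
  refine ⟨g⁻¹ * d * g, ?_, ?_⟩
  · apply mem_RE F
    · have := conj_T hd g⁻¹
      rwa [inv_inv] at this
    · calc g⁻¹ * d * g * r0 F = g⁻¹ * (d * (g * r0 F * g⁻¹)) * g := by group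
        _ = _ := by rw [hc]; group
    · have := conj_T hT g⁻¹
      have e : g⁻¹ * (d * (g * r0 F * g⁻¹)) * g⁻¹⁻¹ = g⁻¹ * d * g * r0 F := by group
      rwa [e] at this
  · show g * (g⁻¹ * d * g) * g⁻¹ = d
    group

/-- **the order of the centralizer of a root involution** -/
theorem card_cent' {t : ↥(twistedE6 K 2)} (ht : t ∈ rootClass K) :
    Nat.card (Subgroup.centralizer ({t} : Set ↥(twistedE6 K 2))) = 93555 * (3 * 2 ^ 36) := by
  obtain ⟨g, rfl⟩ := exists_conj F ht
  rw [← card_cent F]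
  have h1 : Subgroup.centralizer ({g * r0 F * g⁻¹} : Set ↥(twistedE6 K 2)) =
      (Subgroup.centralizer ({r0 F} : Set ↥(twistedE6 K 2))).map (MulAut.conj g).toMonoidHom := by
    ext x
    rw [Subgroup.mem_centralizer_singleton_iff]
    constructor
    · intro hx
      refine ⟨g⁻¹ * x * g, Subgroup.mem_centralizer_singleton_iff.2 ?_, ?_⟩
      · calc g⁻¹ * x * g * r0 F = g⁻¹ * (x * (g * r0 F * g⁻¹)) * g := by group
          _ = _ := by rw [hx]; group
      · show g * (g⁻¹ * x * g) * g⁻¹ = x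
        group
    · rintro ⟨q, hq, rfl⟩
      have hq' := Subgroup.mem_centralizer_singleton_iff.1 hq
      show g * q * g⁻¹ * (g * r0 F * g⁻¹) = g * r0 F * g⁻¹ * (g * q * g⁻¹)
      calc g * q * g⁻¹ * (g * r0 F * g⁻¹) = g * (q * r0 F) * g⁻¹ := by group
        _ = _ := by rw [hq']; group
  rw [h1, Subgroup.card_map_of_injective (MulAut.conj g).injective]

end Four

end Cfsg.Agent.H898.TE6Facts
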