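import Cfsg.Agent.H835.Five

/-!
# `Fi22`: a normal 2-subgroup of the centralizer of a transposition commutes with a transposition (helper898)

`C : Ctx K T`. `a, d, c₁, …, c₅ ∈ T` with the relations of the diagram (`a` isolated, `c₁ – c₂ – c₃ – c₄ – c₅ – d`).
* `comm_d` : a subgroup `N` of exponent dividing four, centralized by `a` and normalized by `C(a)`, centralizes `d`;
* `comm_y` : it centralizes `c₃ c₄ c₅ d`;
* `card_fix` : `|C(u) ∩ C(a)| ≤ 60` for `u` of order five and `a` a transposition commuting with `u`;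
* `card_cent` : `|C(a)|`.
-/

set_option autoImplicit false
set_option linter.unusedSectionVars false

namespace Cfsg.Agent.H898.TE6Fi

open Cfsg Subgroup Cfsg.Agent.LThreeFi22 Cfsg.Agent.H836 Cfsg.Agent.H835.Five
open Cfsg.Agent.SporRec.Co3 Cfsg.Agent.SporRec.Co3.FiveHom Cfsg.Agent.H835.SymFive

universe v

variable {K : Type v} [Group K] {T : Set K}

theorem eq_of_mul {x y : K} (hx : x * x = 1) (h : x * y = 1) : x = y := by
  calc x = x * (x * y) := by rw [h, mul_one]
    _ = y := by rw [← mul_assoc, hx, one_mul]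

theorem comm_d (C : Ctx K T) {a d c1 c2 c3 c4 : K} (ha : a ∈ T) (hd : d ∈ T) (h1 : c1 ∈ T) (h2 : c2 ∈ T)
    (h3 : c3 ∈ T) (h4 : c4 ∈ T) (ad : a * d = d * a) (hne : a ≠ d)
    (a1 : c1 * a = a * c1) (a2 : c2 * a = a * c2) (a3 : c3 * a = a * c3) (a4 : c4 * a = a * c4)
    (d1 : c1 * d = d * c1) (d2 : c2 * d = d * c2) (d3 : c3 * d = d * c3) (d4 : c4 * d = d * c4)
    (hu : (c1 * c2 * c3 * c4) ^ 5 = 1) (hu1 : c1 * c2 * c3 * c4 ≠ 1)
    {N : Subgroup K} (hN : ∀ n ∈ N, n ^ 4 = 1) (hNa : ∀ n ∈ N, n * a = a * n)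
    (hNn : ∀ g, g * a = a * g → ∀ n ∈ N, g * n * g⁻¹ ∈ N) : ∀ n ∈ N, n * d = d * n := by
  intro n hn
  by_contra hnd
  have sd := C.sq d hd
  have di : d⁻¹ = d := inv_eq_of_mul_eq_one_left sd
  have hd' : n * d * n⁻¹ ∈ T := C.conj d hd n
  have hdd : n * d * n⁻¹ ≠ d := fun h => hnd (mul_inv_eq_iff_eq_mul.1 h)
  have hm : d * (n * d * n⁻¹) ∈ N := by
    have e : d * (n * d * n⁻¹) = d * n * d⁻¹ * n⁻¹ := by rw [di]; group
    rw [e]
    exact N.mul_mem (hNn d ad.symm n hn) (N.inv_mem hn)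
  have had' : a * (n * d * n⁻¹) = n * d * n⁻¹ * a := by
    have c1 : Commute a n := (hNa n hn).symm
    have c2 : Commute a d := ad
    exact ((c1.mul_right c2).mul_right c1.inv_right).eq
  have had : a ≠ n * d * n⁻¹ := by
    intro h
    apply hne
    have h5 : n⁻¹ * a * n = d := by rw [h]; group
    rw [← h5, mul_assoc, ← hNa n hn]; group
  have sd' := C.sq _ hd'
  generalize n * d * n⁻¹ = d' at *
  have di' : d'⁻¹ = d' := inv_eq_of_mul_eq_one_left sd'
  -- `d` and `d'` commute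
  have cdd : d * d' = d' * d := by
    rcases C.three d hd d' hd' with h | h
    · exact h
    · exfalso
      have e3 : (d * d') ^ 3 = 1 := by
        have : (d * d') ^ 3 = (d * d' * d) * (d' * d * d') := by rw [pow_succ, pow_two]; group
        rw [this, h]
        calc d' * d * d' * (d' * d * d') = d' * d * (d' * d') * d * d' := by group
          _ = d' * (d * d) * d' := by rw [sd']; group
          _ = 1 := by rw [sd, mul_one, sd']
      have e4 := hN _ hm
      have e1 : d * d' = 1 := by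
        have : (d * d') ^ 4 = (d * d') ^ 3 * (d * d') := pow_succ _ 3
        rw [e3, e4, one_mul] at this
        exact this.symm
      exact hdd (eq_of_mul sd e1).symm
  have key : ∀ c ∈ T, c * a = a * c → c * d = d * c → c * d' = d' * c := by
    intro c hc ca cd
    have sc := C.sq c hc
    have ci : c⁻¹ = c := inv_eq_of_mul_eq_one_left sc
    rcases C.three c hc d' hd' with h | h
    · exact h
    · have hm' := hNn c ca _ hm
      have hmm := N.mul_mem hm hm'
      have e1 : d * d' * (c * (d * d') * c⁻¹) = (d' * c) ^ 2 := by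
        rw [ci, cdd, pow_two]
        calc d' * d * (c * (d' * d) * c) = d' * (d * c) * d' * (d * c) := by group
          _ = d' * c * (d * d') * (d * c) := by rw [← cd]; group
          _ = d' * c * d' * (d * d) * c := by rw [cdd]; group
          _ = d' * c * (d' * c) := by rw [sd]; group
      rw [e1] at hmm
      have e8 := hN _ hmm
      have e3 : (d' * c) ^ 3 = 1 := by
        have : (d' * c) ^ 3 = (d' * c * d') * (c * d' * c) := by rw [pow_succ, pow_two]; group
        rw [this, h]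
        calc d' * c * d' * (d' * c * d') = d' * c * (d' * d') * c * d' := by group
          _ = d' * (c * c) * d' := by rw [sd']; group
          _ = 1 := by rw [sc, mul_one, sd']
      have e9 : d' * c = 1 := by
        have h9 : (d' * c) ^ 9 = (d' * c) ^ 8 * (d' * c) := pow_succ _ 8
        rw [← pow_mul] at e8
        rw [show 9 = 3 * 3 from rfl, pow_mul, e3, one_pow, show 8 = 2 * 4 from rfl, e8, one_mul] at h9
        exact h9.symm
      have e10 : d' = c := eq_of_mul sd' e9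
      rw [e10]
  have k1 := key c1 h1 a1 d1
  have k2 := key c2 h2 a2 d2
  have k3 := key c3 h3 a3 d3
  have k4 := key c4 h4 a4 d4
  have cm : ∀ x : K, c1 * x = x * c1 → c2 * x = x * c2 → c3 * x = x * c3 → c4 * x = x * c4 →
      c1 * c2 * c3 * c4 * x = x * (c1 * c2 * c3 * c4) := by
    intro x e1 e2 e3 e4
    have f1 : Commute c1 x := e1
    have f2 : Commute c2 x := e2
    have f3 : Commute c3 x := e3
    have f4 : Commute c4 x := e4
    exact (((f1.mul_left f2).mul_left f3).mul_left f4).eq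
  exact had ((C.iso5 _ hu hu1 d hd (cm d d1 d2 d3 d4)).2 a ha d' hd' hne hdd ad.symm cdd
    (cm a a1 a2 a3 a4) (cm d' k1 k2 k3 k4) had')

/-- commuting with a conjugate under `C(a)` -/
theorem comm_conj {a x : K} {N : Subgroup K} (hNn : ∀ g, g * a = a * g → ∀ n ∈ N, g * n * g⁻¹ ∈ N)
    (h : ∀ n ∈ N, n * x = x * n) {g : K} (hg : g * a = a * g) : ∀ n ∈ N, n * (g * x * g⁻¹) = g * x * g⁻¹ * n := by
  intro n hn
  have h1 := h _ (hNn g⁻¹ (by rw [inv_mul_eq_iff_eq_mul, ← mul_assoc, hg, mul_inv_cancel_right]) n hn)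
  calc n * (g * x * g⁻¹) = g * (g⁻¹ * n * g⁻¹⁻¹ * x) * g⁻¹ := by group
    _ = g * x * g⁻¹ * n := by rw [h1]; group

/-- adjacent transpositions are conjugate -/
theorem braid_conj {x z : K} (hx : x * x = 1) (hz : z * z = 1) (h : x * z * x = z * x * z) :
    z = x * z * x * (x * z)⁻¹ := by
  have zi : z⁻¹ = z := inv_eq_of_mul_eq_one_left hz
  have xi : x⁻¹ = x := inv_eq_of_mul_eq_one_left hx
  rw [mul_inv_rev, zi, xi, h]
  calc z = z * (x * (z * z) * x) := by rw [hz]; rw [mul_one, hx, mul_one]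
    _ = z * x * z * (z * x) := by group

theorem comm_y (C : Ctx K T) {a d c1 c2 c3 c4 c5 : K} (ha : a ∈ T) (hd : d ∈ T) (h1 : c1 ∈ T) (h2 : c2 ∈ T)
    (h3 : c3 ∈ T) (h4 : c4 ∈ T) (h5 : c5 ∈ T) (ad : a * d = d * a) (hne : a ≠ d)
    (a1 : c1 * a = a * c1) (a2 : c2 * a = a * c2) (a3 : c3 * a = a * c3) (a4 : c4 * a = a * c4)
    (a5 : c5 * a = a * c5)
    (d1 : c1 * d = d * c1) (d2 : c2 * d = d * c2) (d3 : c3 * d = d * c3) (d4 : c4 * d = d * c4)
    (b5 : d * c5 * d = c5 * d * c5) (b4 : c5 * c4 * c5 = c4 * c5 * c4) (b3 : c4 * c3 * c4 = c3 * c4 * c3)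
    (hu : (c1 * c2 * c3 * c4) ^ 5 = 1) (hu1 : c1 * c2 * c3 * c4 ≠ 1)
    {N : Subgroup K} (hN : ∀ n ∈ N, n ^ 4 = 1) (hNa : ∀ n ∈ N, n * a = a * n)
    (hNn : ∀ g, g * a = a * g → ∀ n ∈ N, g * n * g⁻¹ ∈ N) : ∀ n ∈ N, n * (c3 * c4 * c5 * d) = c3 * c4 * c5 * d * n := by
  have k0 := comm_d C ha hd h1 h2 h3 h4 ad hne a1 a2 a3 a4 d1 d2 d3 d4 hu hu1 hN hNa hNn
  have k5 : ∀ n ∈ N, n * c5 = c5 * n := by
    have := comm_conj hNn k0 (g := d * c5) (by rw [mul_assoc, a5, ← mul_assoc, ← ad, mul_assoc])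
    rwa [← braid_conj (C.sq d hd) (C.sq c5 h5) b5] at this
  have k4 : ∀ n ∈ N, n * c4 = c4 * n := by
    have := comm_conj hNn k5 (g := c5 * c4) (by rw [mul_assoc, a4, ← mul_assoc, a5, mul_assoc])
    rwa [← braid_conj (C.sq c5 h5) (C.sq c4 h4) b4] at this
  have k3 : ∀ n ∈ N, n * c3 = c3 * n := by
    have := comm_conj hNn k4 (g := c4 * c3) (by rw [mul_assoc, a3, ← mul_assoc, a4, mul_assoc])
    rwa [← braid_conj (C.sq c4 h4) (C.sq c3 h3) b3] at this
  intro n hn
  have f1 : Commute n c3 := k3 n hn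
  have f2 : Commute n c4 := k4 n hn
  have f3 : Commute n c5 := k5 n hn
  have f4 : Commute n d := k0 n hn
  exact (((f1.mul_right f2).mul_right f3).mul_right f4).eq

/-- the centralizer of `u` and of a transposition -/
theorem card_fix (I : Inv K T) {u a : K} (hu : u ^ 5 = 1) (hu1 : u ≠ 1) (ha : a ∈ T) (hua : u * a = a * u) :
    Nat.card ↥(centralizer ({u} : Set K) ⊓ centralizer ({a} : Set K)) = 60 := by
  have hfin := I.ctx.finite
  obtain ⟨f, hf, hS, hcl⟩ := exists_sym I.ctx hu hu1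
  have haF : a ∈ Fx T u := ⟨ha, hua⟩
  have horb : ∀ x, x ∈ Fx T u ↔ ∃ h ∈ centralizer ({u} : Set K), x = h * a * h⁻¹ := by
    intro x
    constructor
    · intro hx
      obtain ⟨p, hp, rfl⟩ := (hS x).1 hx
      obtain ⟨q, hq, hqa⟩ := (hS a).1 haF
      obtain ⟨i, j, hij, rfl⟩ := hp
      obtain ⟨k, l, hkl, rfl⟩ := hq
      obtain ⟨g, hg⟩ := isConj_iff.1 (Equiv.Perm.isConj_swap hkl hij)
      refine ⟨f g, ?_, ?_⟩
      · have : f g ∈ closure (Fx T u) := by rw [hcl]; exact ⟨g, rfl⟩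
        have hle : closure (Fx T u) ≤ centralizer ({u} : Set K) := by
          rw [closure_le]
          intro t ht
          exact mem_centralizer_singleton_iff.2 ht.2.symm
        exact hle this
      · rw [← hqa, ← map_mul, ← map_inv, ← map_mul, hg]
    · rintro ⟨h, hh, rfl⟩
      exact I.ctx.fx_conj (mem_centralizer_singleton_iff.1 hh) haF
  have h1 := orbit_card (centralizer ({u} : Set K)) a horb
  rw [card_centralizer I hu hu1, ncard_fx I.ctx hu hu1] at h1
  omega

end Cfsg.Agent.H898.TE6Fi
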