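import Cfsg.Agent.H898.TE6Cfg
import Cfsg.Agent.H898.TE6Abs
import Cfsg.Agent.H898.TE6Bound
import Cfsg.Agent.H898.TE6Fi
import Cfsg.Agent.H898.TE6Facts
import Cfsg.Agent.Lib.AltCarmichael

/-!
# ²E₆(2): the elements of order five (helper898)
-/

set_option autoImplicit false
set_option linter.unusedSectionVars false
set_option linter.constructorNameAsVariable false

namespace Cfsg.Agent.H898.TE6Main

open Cfsg Cfsg.Lie Subgroup
open Cfsg.Agent.TwoESix.Main Cfsg.Agent.TwoESix.FiInst Cfsg.Agent.TwoESix.Rels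
open Cfsg.Agent.H898.TE6Data Cfsg.Agent.H898.TE6Cfg
open Cfsg.Agent.BabyU (rootClass)
open Cfsg.Agent.Co2Type.Quad (Large)
open Cfsg.Agent.H836 Cfsg.Agent.LThreeFi22

/-! ### Reading the equations -/

theorem inA {p : List ℕ × List ℕ} (h : p ∈ eqA) : p ∈ eqs' := List.mem_append_left _ h
theorem inB {p : List ℕ × List ℕ} (h : p ∈ eqB) : p ∈ eqs' :=
  List.mem_append_right _ (List.mem_append_left _ h)
theorem inU {p : List ℕ × List ℕ} (h : p ∈ eqU) : p ∈ eqs' :=
  List.mem_append_right _ (List.mem_append_right _ (List.mem_append_left _ h))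
theorem inS {p : List ℕ × List ℕ} (h : p ∈ eqS) : p ∈ eqs' :=
  List.mem_append_right _ (List.mem_append_right _ (List.mem_append_right _ (List.mem_append_left _ h)))
theorem inC {p : List ℕ × List ℕ} (h : p ∈ eqC) : p ∈ eqs' :=
  List.mem_append_right _ (List.mem_append_right _ (List.mem_append_right _ (List.mem_append_right _
    (List.mem_append_left _ h))))
theorem inD {p : List ℕ × List ℕ} (h : p ∈ eqD) : p ∈ eqs' :=
  List.mem_append_right _ (List.mem_append_right _ (List.mem_append_right _ (List.mem_append_right _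
    (List.mem_append_right _ (List.mem_append_left _ h)))))
theorem inE {p : List ℕ × List ℕ} (h : p ∈ eqE) : p ∈ eqs' :=
  List.mem_append_right _ (List.mem_append_right _ (List.mem_append_right _ (List.mem_append_right _
    (List.mem_append_right _ (List.mem_append_right _ (List.mem_append_left _ h))))))
theorem inF {p : List ℕ × List ℕ} (h : p ∈ eqF) : p ∈ eqs' :=
  List.mem_append_right _ (List.mem_append_right _ (List.mem_append_right _ (List.mem_append_right _
    (List.mem_append_right _ (List.mem_append_right _ (List.mem_append_right _ (List.mem_append_left _ h)))))))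
theorem inG {p : List ℕ × List ℕ} (h : p ∈ eqG) : p ∈ eqs' :=
  List.mem_append_right _ (List.mem_append_right _ (List.mem_append_right _ (List.mem_append_right _
    (List.mem_append_right _ (List.mem_append_right _ (List.mem_append_right _ (List.mem_append_right _ h)))))))

section

variable {G : Type*} [Group G] {x : ℕ → G} (C : Cfg x)
include C

theorem y_yi : x iy * x iyi = 1 := by
  have h := C.eqs ([iy, iyi], []) (inA (by decide))
  simpa using h

theorem yi_eq : x iyi = (x iy)⁻¹ := (inv_eq_of_mul_eq_one_right (y_yi C)).symm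

theorem y_five : x iy ^ 5 = 1 := by
  have h := C.eqs ([iy, iy, iy, iy, iy], []) (inA (by decide))
  rw [← List.prod_replicate]
  exact h

theorem y_ne : x iy ≠ 1 := by
  have h := C.neqs ([iy], []) (by decide)
  simpa using h

theorem y_eq : x iy = x (iT 3) * x (iT 4) * x (iT 5) * x (iT 6) := by
  have h := C.eqs ([iy], [iT 3, iT 4, iT 5, iT 6]) (inA (by decide))
  simpa [mul_assoc] using h

theorem b0_eq : x (iB 0) = ((wb.reverse.map iT ++ iT 9 :: wb.map iT).map x).prod := by
  have h := C.eqs ([iB 0], wb.reverse.map iT ++ iT 9 :: wb.map iT) (inA (by decide))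
  rw [← h]; simp

theorem partner : x (iB 11) * x (iB 0) * x (iB 11) = x (iB 0) * x (iT 9) := by
  have h := C.eqs ([iB 11, iB 0, iB 11], [iB 0, iT 9]) (inA (by decide))
  simpa [mul_assoc] using h

theorem t_word : x (iE 0) * x (iE 1) * x (iE 4) * x (iE 2) * x (iE 0) * x (iE 5) * x (iE 3) * x (iE 2) = x (iT 9) := by
  have h := C.eqs ([iE 0, iE 1, iE 4, iE 2, iE 0, iE 5, iE 3, iE 2], [iT 9]) (inA (by decide))
  simpa [mul_assoc] using h

theorem four_five : (x (iT 1) * x (iT 2) * x (iT 3) * x (iT 4)) ^ 5 = 1 := by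
  have h := C.eqs (List.flatten (List.replicate 5 [iT 1, iT 2, iT 3, iT 4]), []) (inA (by decide))
  rw [← List.prod_replicate]
  have e : ∀ n, (List.map x (List.flatten (List.replicate n [iT 1, iT 2, iT 3, iT 4]))).prod =
      (List.replicate n (x (iT 1) * x (iT 2) * x (iT 3) * x (iT 4))).prod := by
    intro n
    induction n with
    | zero => rfl
    | succ n ih =>
      rw [List.replicate_succ, List.flatten_cons, List.map_append, List.prod_append, ih, List.replicate_succ,
        List.prod_cons]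
      simp [mul_assoc]
  rw [← e 5]
  exact h

theorem four_ne : x (iT 1) * x (iT 2) * x (iT 3) * x (iT 4) ≠ 1 := by
  have h := C.neqs ([iT 1, iT 2, iT 3, iT 4], []) (by decide)
  simpa [mul_assoc] using h

theorem e_ne : x (iE 0) ≠ 1 := by
  have h := C.neqs ([iE 0], []) (by decide)
  simpa using h

theorem b_succ {k : ℕ} (hk : k < 29) : x (iB (k + 1)) =
    x (iT (par.getD k (0, 0)).2) * x (iB (par.getD k (0, 0)).1) * x (iT (par.getD k (0, 0)).2) := by
  have h := C.eqs _ (inB (List.mem_map.2 ⟨k, List.mem_range.2 hk, rfl⟩))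
  simpa [mul_assoc] using h

theorem u_eq {j : ℕ} (hj : j < 16) : x (iU j) = x (iB (ru.getD j 0)) * (x iy)⁻¹ * x (iB (ru.getD j 0)) * x iy := by
  have h := C.eqs _ (inU (List.mem_map.2 ⟨j, List.mem_range.2 hj, rfl⟩))
  rw [← yi_eq C]
  simpa [mul_assoc] using h

theorem s_eq {k : ℕ} (hk : k < 16) : x (iS k) = (((sw.getD k []).map iB).map x).prod := by
  have h := C.eqs _ (inS (List.mem_map.2 ⟨k, List.mem_range.2 hk, rfl⟩))
  rw [← h]; simp

theorem c_eq {k j : ℕ} (hk : k < 16) (hj : j < k) : x (iS k) * x (iU j) = x (iU j) * x (iS k) := by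
  have h := C.eqs ([iS k, iU j], [iU j, iS k]) (inC (List.mem_flatMap.2 ⟨k, List.mem_range.2 hk,
    List.mem_map.2 ⟨j, List.mem_range.2 hj, rfl⟩⟩))
  simpa using h

theorem d_eq {k : ℕ} (hk : k < 16) : x (iS k) * x (iU k) = x (iU k) * x (iS k) * x (iT 9) := by
  have h := C.eqs ([iS k, iU k], [iU k, iS k, iT 9]) (inD (List.mem_map.2 ⟨k, List.mem_range.2 hk, rfl⟩))
  simpa [mul_assoc] using h

theorem e_cube {i : ℕ} (hi : i < 6) : x (iE i) ^ 3 = 1 := by
  have h := C.eqs ([iE i, iE i, iE i], []) (inE (List.mem_map.2 ⟨i, List.mem_range.2 hi, rfl⟩))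
  rw [← List.prod_replicate]
  exact h

theorem e_comm {i : ℕ} (hi : i < 6) : x (iE i) * x iy = x iy * x (iE i) := by
  have h := C.eqs ([iE i, iy], [iy, iE i]) (inF (List.mem_map.2 ⟨i, List.mem_range.2 hi, rfl⟩))
  simpa using h

theorem e_sq {i j : ℕ} (hi : i < 6) (hj : j < i) : (x (iE i) * x (iE j)) ^ 2 = 1 := by
  have h := C.eqs ([iE i, iE j, iE i, iE j], []) (inG (List.mem_flatMap.2 ⟨i, List.mem_range.2 hi,
    List.mem_map.2 ⟨j, List.mem_range.2 hj, rfl⟩⟩))
  rw [pow_two]
  simpa [mul_assoc] using h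

theorem rel_e : Cfsg.Agent.Lib.AltCarmichael.Rel 6 (fun i => x (iE i)) where
  cube i hi := e_cube C hi
  sq i hi j hj hij := by
    rcases lt_or_gt_of_ne hij with h | h
    · exact Cfsg.Agent.Lib.AltCarmichael.swap_rel (e_sq C hj h)
    · exact e_sq C hi h

end

/-- the generators of `A₈` -/
def cy (i : ℕ) (hi : i < 6) : AltEight.A8 :=
  ⟨Cfsg.Agent.Lib.AltCarmichael.cyc 6 i, Cfsg.Agent.Lib.AltCarmichael.cyc_mem 6 i hi⟩

/-- the permutation of `T 9` -/
def tau : AltEight.A8 := cy 0 (by norm_num) * cy 1 (by norm_num) * cy 4 (by norm_num) * cy 2 (by norm_num) *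
  cy 0 (by norm_num) * cy 5 (by norm_num) * cy 3 (by norm_num) * cy 2 (by norm_num)

open Cfsg.Agent.Lib.AltCarmichael (cyc) in
theorem tau_val : (tau : Equiv.Perm (Fin 8)) = cyc 6 0 * cyc 6 1 * cyc 6 4 * cyc 6 2 * cyc 6 0 * cyc 6 5 * cyc 6 3 * cyc 6 2 :=
  rfl

theorem tau_fpf : AltEight.Fpf tau := by
  constructor
  · apply Subtype.ext
    rw [Subgroup.coe_mul, tau_val]
    show _ = (1 : Equiv.Perm (Fin 8))
    decide +kernel
  · rw [tau_val]
    decide +kernel

theorem exists_phi {G : Type*} [Group G] {x : ℕ → G} (C : Cfg x) :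
    ∃ φ : AltEight.A8 →* G, Function.Injective φ ∧ (∀ a, φ a * x iy = x iy * φ a) ∧
    ∃ a, AltEight.Fpf a ∧ φ a = x (iT 9) := by
  obtain ⟨φ, hφ⟩ := Cfsg.Agent.Lib.AltCarmichael.exists_hom (m := 6) (by norm_num) (rel_e C)
  have hφ' : ∀ i (hi : i < 6), φ (cy i hi) = x (iE i) := hφ
  refine ⟨φ, ?_, ?_, tau, tau_fpf, ?_⟩
  · have hsimple : IsSimpleGroup AltEight.A8 :=
      alternatingGroup.isSimpleGroup (by rw [Nat.card_eq_fintype_card, Fintype.card_fin]; omega)
    rw [← MonoidHom.ker_eq_bot_iff]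
    rcases (inferInstance : φ.ker.Normal).eq_bot_or_eq_top with hb | ht
    · exact hb
    · exfalso
      apply e_ne C
      rw [← hφ' 0 (by norm_num)]
      have : cy 0 (by norm_num) ∈ φ.ker := by rw [ht]; exact mem_top _
      exact this
  · intro a
    let S : Subgroup AltEight.A8 := (centralizer ({x iy} : Set G)).comap φ
    have hS : ∀ i (hi : i < 6), cy i hi ∈ S := fun i hi => by
      show φ (cy i hi) ∈ centralizer ({x iy} : Set G)
      rw [hφ']
      exact mem_centralizer_singleton_iff.2 (e_comm C hi)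
    have h1 : (a : Equiv.Perm (Fin 8)) ∈ Cfsg.Agent.Lib.AltCarmichael.gen 6 (Cfsg.Agent.Lib.AltCarmichael.cyc 6) := by
      rw [Cfsg.Agent.Lib.AltCarmichael.gen_cyc 6 (by norm_num)]
      exact a.2
    have h2 : Cfsg.Agent.Lib.AltCarmichael.gen 6 (Cfsg.Agent.Lib.AltCarmichael.cyc 6) ≤
        S.map (alternatingGroup (Fin 8)).subtype := by
      rw [Cfsg.Agent.Lib.AltCarmichael.gen_def, closure_le]
      rintro _ ⟨i, hi, rfl⟩
      exact ⟨cy i hi, hS i hi, rfl⟩
    obtain ⟨a', ha', haa⟩ := h2 h1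
    have h3 : a' = a := Subtype.ext haa
    rw [← h3]
    exact mem_centralizer_singleton_iff.1 ha'
  · simp only [tau, map_mul, hφ']
    exact t_word C

/-! ### The large subgroup -/

theorem prod_inv {G : Type*} [Group G] {x : ℕ → G} (w : List ℕ) (h : ∀ i ∈ w, x i * x i = 1) :
    (w.reverse.map x).prod = ((w.map x).prod)⁻¹ := by
  induction w with
  | nil => simp
  | cons i w ih =>
    simp only [List.reverse_cons, List.map_append, List.prod_append, List.map_cons, List.map_nil, List.prod_cons,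
      List.prod_nil, mul_one, mul_inv_rev]
    rw [ih fun j hj => h j (List.mem_cons_of_mem _ hj), inv_eq_of_mul_eq_one_left (h i List.mem_cons_self)]

theorem wb_lt : ∀ i ∈ wb, i < 10 := by decide

theorem par_lt : ∀ k < 29, (par.getD k (0, 0)).1 ≤ k ∧ (par.getD k (0, 0)).2 < 8 := by decide

theorem ru_lt : ∀ k < 16, ru.getD k 0 < 30 := by decide

theorem sw_lt : ∀ k < 16, ∀ i ∈ sw.getD k [], i < 30 := by decide

/-- the hypotheses on the class -/
structure Cls {G : Type*} [Group G] (D : Set G) (x : ℕ → G) : Prop where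
  cfg : Cfg x
  conj : ∀ d ∈ D, ∀ g, g * d * g⁻¹ ∈ D
  sq : ∀ d ∈ D, d * d = 1
  one : (1 : G) ∉ D
  pair : ∀ d ∈ D, ∀ e ∈ D, d * e = e * d ∨ (d * e) ^ 2 ∈ D ∨ (d * e) ^ 3 = 1
  mem : ∀ i < 10, x (iT i) ∈ D
  comm : ∀ i < 8, x (iT i) * x (iT 9) = x (iT 9) * x (iT i)

namespace Cls

variable {G : Type*} [Group G] {D : Set G} {x : ℕ → G} (H : Cls D x)
include H

theorem conj' {d g : G} (hg : g * g = 1) (hd : d ∈ D) : g * d * g ∈ D := by
  have h1 := H.conj d hd g
  rwa [inv_eq_of_mul_eq_one_left hg] at h1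

theorem b0_mem : x (iB 0) ∈ D := by
  rw [b0_eq H.cfg, List.map_append, List.prod_append, List.map_cons, List.prod_cons, List.map_reverse,
    prod_inv (wb.map iT) (by
      intro i hi
      obtain ⟨j, hj, rfl⟩ := List.mem_map.1 hi
      exact H.sq _ (H.mem j (wb_lt j hj)))]
  generalize ((wb.map iT).map x).prod = g
  have h1 := H.conj _ (H.mem 9 (by norm_num)) g⁻¹
  have e : g⁻¹ * (x (iT 9) * g) = g⁻¹ * x (iT 9) * g⁻¹⁻¹ := by group
  rw [e]; exact h1

theorem b_mem : ∀ k < 30, x (iB k) ∈ D := by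
  intro k
  induction k using Nat.strong_induction_on with
  | _ k ih =>
    intro hk
    rcases k with _ | k
    · exact H.b0_mem
    · rw [b_succ H.cfg (by omega)]
      obtain ⟨h1, h2⟩ := par_lt k (by omega)
      exact H.conj' (H.sq _ (H.mem _ (by omega))) (ih _ (by omega) (by omega))

theorem b0t_mem : x (iB 0) * x (iT 9) ∈ D := by
  rw [← partner H.cfg]
  exact H.conj' (H.sq _ (H.b_mem 11 (by norm_num))) H.b0_mem

theorem b0t_comm : x (iB 0) * x (iT 9) = x (iT 9) * x (iB 0) := by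
  have h1 := H.sq _ H.b0t_mem
  have h2 : (x (iB 0) * x (iT 9))⁻¹ = x (iB 0) * x (iT 9) := inv_eq_of_mul_eq_one_left h1
  rw [mul_inv_rev, inv_eq_of_mul_eq_one_left (H.sq _ H.b0_mem),
    inv_eq_of_mul_eq_one_left (H.sq _ (H.mem 9 (by norm_num)))] at h2
  exact h2.symm

variable {R : Subgroup G} (L : Large R (x (iT 9)))
  (hR : ∀ d ∈ D, d * x (iT 9) = x (iT 9) * d → d * x (iT 9) ∈ D → d ∈ R)
include L hR

theorem b_R : ∀ k < 30, x (iB k) ∈ R := by
  intro k
  induction k using Nat.strong_induction_on with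
  | _ k ih =>
    intro hk
    rcases k with _ | k
    · exact hR _ H.b0_mem H.b0t_comm H.b0t_mem
    · rw [b_succ H.cfg (by omega)]
      obtain ⟨h1, h2⟩ := par_lt k (by omega)
      have h3 := L.conj_mem _ (H.comm _ h2) _ (ih (par.getD k (0, 0)).1 (by omega) (by omega))
      rwa [inv_eq_of_mul_eq_one_left (H.sq _ (H.mem _ (by omega)))] at h3

theorem s_R : ∀ k < 16, x (iS k) ∈ R := by
  intro k hk
  rw [s_eq H.cfg hk]
  apply Subgroup.list_prod_mem
  intro g hg
  obtain ⟨j, hj, rfl⟩ := List.mem_map.1 hg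
  obtain ⟨i, hi, rfl⟩ := List.mem_map.1 hj
  exact H.b_R L hR i (sw_lt k hk i hi)

omit L hR in
theorem y_comm : x iy * x (iT 9) = x (iT 9) * x iy := by
  rw [y_eq H.cfg]
  have f3 : Commute (x (iT 3)) (x (iT 9)) := H.comm 3 (by norm_num)
  have f4 : Commute (x (iT 4)) (x (iT 9)) := H.comm 4 (by norm_num)
  have f5 : Commute (x (iT 5)) (x (iT 9)) := H.comm 5 (by norm_num)
  have f6 : Commute (x (iT 6)) (x (iT 9)) := H.comm 6 (by norm_num)
  exact (((f3.mul_left f4).mul_left f5).mul_left f6).eq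

/-- **the index of `C_R(y)` in `R`** -/
theorem index_R [Finite G] : 2 ^ 16 * Nat.card ↥(R ⊓ centralizer ({x iy} : Set G)) ≤ Nat.card R := by
  have h1 := TE6Bound.chain (R := R) (u := fun j => x (iU j)) (s := fun k => x (iS k)) 16
    (fun k hk => H.s_R L hR k hk) (fun k hk j hj => c_eq H.cfg hk hj) (by
      intro k hk h
      have h2 := d_eq H.cfg hk
      rw [h] at h2
      exact L.z_ne (mul_eq_left.1 h2.symm))
  refine le_trans ?_ h1
  apply Nat.mul_le_mul_left
  apply card_le_of_le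
  intro g hg
  obtain ⟨hg1, hg2⟩ := mem_inf.1 hg
  rw [TE6Bound.mem_cz]
  refine ⟨hg1, fun j hj => ?_⟩
  show g * x (iU j) = x (iU j) * g
  rw [u_eq H.cfg hj]
  have hb := H.b_R L hR _ (ru_lt j hj)
  exact TE6Bound.comm_u H.y_comm (L.comm_z _ hb) L.z_sq (L.comm _ hg1 _ hb) (mem_centralizer_singleton_iff.1 hg2)

end Cls

/-! ### The group `Fi22` -/

open Cfsg.Agent.KFacts.FiTT (TK)

/-- the facts about `Spor.Fi22` -/
theorem inv22 : Cfsg.Agent.H836.Inv Spor.Fi22 (TK (MulEquiv.refl Spor.Fi22)) := inv_of_iso (MulEquiv.refl Spor.Fi22)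

theorem gen_TK (a : Spor.Fi22.Gen) : (PresentedGroup.of a : Spor.Fi22) ∈ TK (MulEquiv.refl Spor.Fi22) :=
  (Cfsg.Agent.LThreeFi22.Inst.mem_TK _).2 (Cfsg.Agent.R01.Fi22Facts.gen_mem a)

section Fi

variable {G : Type*} [Group G] {x : ℕ → G} (C : Cfg x) (Y : Y333 (fun i : Fin 10 => x (iT i)))
  {fi : Spor.Fi22 →* G} (hfi : ∀ a, fi (PresentedGroup.of a) = x (iT (nd a)))
include C Y hfi

theorem fi_injective : Function.Injective fi := by
  have hs : IsSimpleGroup Spor.Fi22 := Cfsg.Agent.R01.Fi22Facts.isSimple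
  rw [← MonoidHom.ker_eq_bot_iff]
  rcases (inferInstance : fi.ker.Normal).eq_bot_or_eq_top with hb | ht
  · exact hb
  · exfalso
    have h : ∀ a, x (iT (nd a)) = 1 := by
      intro a
      rw [← hfi]
      have : (PresentedGroup.of a : Spor.Fi22) ∈ fi.ker := by rw [ht]; exact mem_top _
      exact this
    apply y_ne C
    rw [y_eq C]
    have h3 : x (iT 3) = 1 := h .d
    have h4 : x (iT 4) = 1 := h .c
    have h5 : x (iT 5) = 1 := h .b
    have h6 : x (iT 6) = 1 := h .a
    rw [h3, h4, h5, h6]; simp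

theorem fi_comm (a b : Spor.Fi22.Gen) (h : adj (nd a) (nd b) = false) :
    (PresentedGroup.of a : Spor.Fi22) * PresentedGroup.of b = PresentedGroup.of b * PresentedGroup.of a := by
  apply fi_injective C Y hfi
  rw [map_mul, map_mul, hfi, hfi]
  exact Y.comm _ _ h

theorem fi_braid (a b : Spor.Fi22.Gen) (h : adj (nd a) (nd b) = true) :
    (PresentedGroup.of a : Spor.Fi22) * PresentedGroup.of b * PresentedGroup.of a =
      PresentedGroup.of b * PresentedGroup.of a * PresentedGroup.of b := by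
  apply fi_injective C Y hfi
  rw [map_mul, map_mul, map_mul, map_mul, hfi, hfi]
  exact Y.braid _ _ h

/-- `y` in `Fi22` -/
def y0 : Spor.Fi22 := PresentedGroup.of .d * PresentedGroup.of .c * PresentedGroup.of .b * PresentedGroup.of .a

theorem fi_y0 : fi y0 = x iy := by
  rw [y0, map_mul, map_mul, map_mul, hfi, hfi, hfi, hfi, y_eq C]
  rfl

theorem y0_five : y0 ^ 5 = 1 := by
  apply fi_injective C Y hfi
  rw [map_pow, fi_y0 C Y hfi, y_five C, map_one]

theorem y0_ne : y0 ≠ 1 := by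
  intro h
  apply y_ne C
  rw [← fi_y0 C Y hfi, h, map_one]

theorem ne96 : x (iT 9) ≠ x (iT 6) := by
  have h := C.neqs ([iT 9], [iT 6]) (by decide)
  simpa using h

/-- a subgroup of exponent four normalized by `C(t)` and centralized by `t` centralizes `y` -/
theorem comm_y0 {N : Subgroup Spor.Fi22} (hN : ∀ n ∈ N, n ^ 4 = 1)
    (hNa : ∀ n ∈ N, n * PresentedGroup.of .g = PresentedGroup.of .g * n)
    (hNn : ∀ g, g * PresentedGroup.of .g = PresentedGroup.of .g * g → ∀ n ∈ N, g * n * g⁻¹ ∈ N) :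
    ∀ n ∈ N, n * y0 = y0 * n := by
  have cm := fi_comm C Y hfi
  have br := fi_braid C Y hfi
  refine TE6Fi.comm_y inv22.ctx (a := PresentedGroup.of .g) (d := PresentedGroup.of .a) (c1 := PresentedGroup.of .i)
    (c2 := PresentedGroup.of .h) (c3 := PresentedGroup.of .d) (c4 := PresentedGroup.of .c)
    (c5 := PresentedGroup.of .b) (gen_TK _) (gen_TK _) (gen_TK _) (gen_TK _) (gen_TK _) (gen_TK _) (gen_TK _)
    (cm _ _ (by decide)) ?_ (cm _ _ (by decide)) (cm _ _ (by decide)) (cm _ _ (by decide)) (cm _ _ (by decide))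
    (cm _ _ (by decide)) (cm _ _ (by decide)) (cm _ _ (by decide)) (cm _ _ (by decide)) (cm _ _ (by decide))
    (br _ _ (by decide)) (br _ _ (by decide)) (br _ _ (by decide)) ?_ ?_ hN hNa hNn
  · intro h
    apply ne96 C Y hfi
    have h1 := congrArg fi h
    rw [hfi, hfi] at h1
    exact h1
  · apply fi_injective C Y hfi
    rw [map_pow, map_mul, map_mul, map_mul, hfi, hfi, hfi, hfi, map_one]
    exact four_five C
  · intro h
    apply four_ne C
    have h1 := congrArg fi h
    rw [map_mul, map_mul, map_mul, hfi, hfi, hfi, hfi, map_one] at h1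
    exact h1

/-- **the bound** -/
theorem card_bound [Finite G] {D : Set G} (H : Cls D x) {R : Subgroup G} (L : Large R (x (iT 9)))
    (hR : ∀ d ∈ D, d * x (iT 9) = x (iT 9) * d → d * x (iT 9) ∈ D → d ∈ R)
    (hcard : Nat.card (centralizer ({x (iT 9)} : Set G)) = 93555 * (3 * 2 ^ 36)) :
    Nat.card ↥(centralizer ({x (iT 9)} : Set G) ⊓ centralizer ({x iy} : Set G)) ≤ 960 := by
  have inj := fi_injective C Y hfi
  have ht : fi (PresentedGroup.of .g) = x (iT 9) := hfi .g
  have hy := fi_y0 C Y hfi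
  have h4 : ∀ r ∈ R, r ^ 4 = 1 := by
    intro r hr
    have e : r ^ 4 = (r * r) * (r * r) := by rw [← pow_two, ← pow_two, ← pow_mul]
    rw [e]
    rcases L.sq r hr with h | h
    · rw [h, one_mul]
    · rw [h, L.z_sq]
  set Q : Subgroup G := (centralizer ({(PresentedGroup.of .g : Spor.Fi22)} : Set Spor.Fi22)).map fi with hQdef
  refine TE6Bound.bound L.comm_z L.conj_mem H.y_comm Q ?_ ?_ ?_ ?_ (H.index_R L hR)
  · rintro _ ⟨k, hk, rfl⟩
    rw [← ht, ← map_mul, ← map_mul, mem_centralizer_singleton_iff.1 hk]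
  · rintro _ ⟨k, hk, rfl⟩ hq
    have hk' := mem_centralizer_singleton_iff.1 hk
    set N : Subgroup Spor.Fi22 := R.comap fi with hN
    have hn : y0⁻¹ * k⁻¹ * y0 * k ∈ N := by
      show fi (y0⁻¹ * k⁻¹ * y0 * k) ∈ R
      rw [map_mul, map_mul, map_mul, map_inv, map_inv, hy]
      exact hq
    have hN4 : ∀ n ∈ N, n ^ 4 = 1 := by
      intro n hn
      apply inj
      rw [map_pow, map_one]
      exact h4 _ hn
    have hc := comm_y0 C Y hfi hN4 (by
      intro n hn
      apply inj
      rw [map_mul, map_mul, ht]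
      exact L.comm_z _ hn) (by
      intro g hg n hn
      show fi (g * n * g⁻¹) ∈ R
      rw [map_mul, map_mul, map_inv]
      apply L.conj_mem _ _ _ hn
      rw [← ht, ← map_mul, ← map_mul, hg]) _ hn
    have hn4 := hN4 _ hn
    have e1 : k⁻¹ * y0 * k = y0 * (y0⁻¹ * k⁻¹ * y0 * k) := by group
    generalize y0⁻¹ * k⁻¹ * y0 * k = n at *
    have h5 : (k⁻¹ * y0 * k) ^ 5 = 1 := by
      have e : (k⁻¹ * y0 * k) ^ 5 = k⁻¹ * y0 ^ 5 * k := by
        have := conj_pow (i := 5) (a := k⁻¹) (b := y0)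
        rwa [inv_inv] at this
      rw [e, y0_five C Y hfi]; group
    have hcm : Commute y0 n := hc.symm
    rw [e1, hcm.mul_pow, y0_five C Y hfi, one_mul, pow_succ, hn4, one_mul] at h5
    rw [h5, mul_one] at e1
    have h6 : y0 * k = k * y0 := by
      calc y0 * k = k * (k⁻¹ * y0 * k) := by group
        _ = k * y0 := by rw [e1]
    rw [← hy, ← map_mul, ← map_mul, h6]
  · have hle : Q ⊓ centralizer ({x iy} : Set G) ≤
        (centralizer ({y0} : Set Spor.Fi22) ⊓ centralizer ({(PresentedGroup.of .g : Spor.Fi22)} : Set Spor.Fi22)).map fi := by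
      intro g hg
      obtain ⟨⟨k, hk, rfl⟩, hg2⟩ := mem_inf.1 hg
      refine ⟨k, mem_inf.2 ⟨mem_centralizer_singleton_iff.2 (inj ?_), hk⟩, rfl⟩
      rw [map_mul, map_mul, hy]
      exact mem_centralizer_singleton_iff.1 hg2
    refine (card_le_of_le hle).trans ?_
    rw [card_map_of_injective inj]
    refine (TE6Fi.card_fix inv22 (y0_five C Y hfi) (y0_ne C Y hfi) (gen_TK _) ?_).le
    apply inj
    rw [map_mul, map_mul, hy, ht]
    exact H.y_comm
  · rw [hcard, hQdef, card_map_of_injective inj, inv22.ctx.card_cent (gen_TK _)]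
    norm_num

end Fi

/-! ### Conjugacy -/

/-- the elements of order five of `Fi22` are conjugate -/
theorem conj22 {u v : Spor.Fi22} (hu : orderOf u = 5) (hv : orderOf v = 5) : IsConj u v := by
  classical
  obtain ⟨g, hg⟩ := Cfsg.Agent.H835.Five.conj_five inv22 (zpowers u) (zpowers v) (by rw [Nat.card_zpowers, hu])
    (by rw [Nat.card_zpowers, hv])
  have hu5 : u ^ 5 = 1 := by rw [← hu]; exact pow_orderOf_eq_one u
  have hv5 : v ^ 5 = 1 := by rw [← hv]; exact pow_orderOf_eq_one v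
  have hu1 : u ≠ 1 := by
    rintro rfl
    rw [orderOf_one] at hu
    norm_num at hu
  have hv1 : v ≠ 1 := by
    rintro rfl
    rw [orderOf_one] at hv
    norm_num at hv
  have h1 : g * u * g⁻¹ ∈ zpowers v := by
    rw [← hg]
    exact ⟨u, mem_zpowers u, rfl⟩
  have h2 : IsConj v (v ^ 2) := by
    obtain ⟨k, hk⟩ := Cfsg.Agent.H835.Five.exists_square inv22 hv5 hv1
    exact isConj_iff.2 ⟨k, hk⟩
  have h4 : IsConj v (v ^ 4) := by
    have : IsConj (v ^ 2) (v ^ 2 ^ 2) := by
      have := h2.pow 2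
      rwa [← pow_mul] at this
    exact h2.trans this
  have h3 : IsConj v (v ^ 3) := by
    have : IsConj (v ^ 4) (v ^ 3) := by
      have h := h2.pow 4
      rw [← pow_mul] at h
      have e : v ^ (2 * 4) = v ^ 3 := by
        rw [show 2 * 4 = 5 + 3 from rfl, pow_add, hv5, one_mul]
      rwa [e] at h
    exact h4.trans this
  have hfin : IsOfFinOrder v := isOfFinOrder_iff_pow_eq_one.2 ⟨5, by norm_num, hv5⟩
  obtain ⟨i, hi, hi'⟩ := (hfin.mem_zpowers_iff_mem_range_orderOf.1 h1 |> Finset.mem_image.1)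
  rw [hv, Finset.mem_range] at hi
  have hc : IsConj u (v ^ i) := isConj_iff.2 ⟨g, hi'.symm⟩
  interval_cases i
  · exfalso
    apply hu1
    rw [pow_zero] at hi'
    have h5 := hi'.symm
    rw [mul_inv_eq_one] at h5
    exact mul_eq_left.1 h5
  · rw [pow_one] at hc; exact hc
  · exact hc.trans h2.symm
  · exact hc.trans h3.symm
  · exact hc.trans h4.symm

/-- elements of order five of a group containing `Fi22` with index prime to five -/
theorem one_class {G : Type*} [Group G] [Finite G] {fi : Spor.Fi22 →* G} (hfi : Function.Injective fi)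
    (hG : ¬ 5 ^ 3 ∣ Nat.card G) {u v : G} (hu : orderOf u = 5) (hv : orderOf v = 5) : IsConj u v := by
  have : Fact (Nat.Prime 5) := ⟨by norm_num⟩
  obtain ⟨S⟩ : Nonempty (Sylow 5 Spor.Fi22) := inferInstance
  have hfin22 : Finite Spor.Fi22 := Finite.of_injective fi hfi
  have hSc : 25 ∣ Nat.card S := by
    have h1 := S.card_eq_multiplicity
    rw [h1, inv22.ctx.card, show 25 = 5 ^ 2 from rfl]
    apply pow_dvd_pow
    rw [← Nat.Prime.pow_dvd_iff_le_factorization (by norm_num) (by norm_num)]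
    norm_num
  have key : ∀ w : G, orderOf w = 5 → ∃ k : Spor.Fi22, orderOf k = 5 ∧ IsConj w (fi k) := by
    intro w hw
    have hp : IsPGroup 5 (zpowers w) := IsPGroup.of_card (n := 1) (by rw [Nat.card_zpowers, hw]; norm_num)
    obtain ⟨P, hP⟩ := hp.exists_le_sylow
    have hp2 : IsPGroup 5 ((S : Subgroup Spor.Fi22).map fi) := S.isPGroup'.map fi
    obtain ⟨P', hP'⟩ := hp2.exists_le_sylow
    have hP'c : ((S : Subgroup Spor.Fi22).map fi) = (P' : Subgroup G) := by
      apply eq_of_le_of_card_ge hP'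
      rw [card_map_of_injective hfi]
      obtain ⟨n, hn⟩ := IsPGroup.iff_card.1 P'.isPGroup'
      have h1 : ¬ 5 ^ 3 ∣ Nat.card P' := fun h => hG (h.trans (card_subgroup_dvd_card _))
      rw [hn] at h1 ⊢
      have hn3 : n < 3 := by
        by_contra hn3
        exact h1 (pow_dvd_pow 5 (not_lt.1 hn3))
      have h2 : 25 ≤ Nat.card S := Nat.le_of_dvd Nat.card_pos hSc
      calc 5 ^ n ≤ 5 ^ 2 := Nat.pow_le_pow_right (by norm_num) (by omega)
        _ ≤ _ := h2
    obtain ⟨g, hg⟩ := MulAction.exists_smul_eq G P P'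
    have h1 : g * w * g⁻¹ ∈ (P' : Subgroup G) := by
      rw [← hg]
      exact ⟨w, hP (mem_zpowers w), rfl⟩
    rw [← hP'c] at h1
    obtain ⟨k, -, hk⟩ := h1
    refine ⟨k, ?_, isConj_iff.2 ⟨g, hk.symm⟩⟩
    rw [← orderOf_injective fi hfi k, hk, ← hw]
    exact orderOf_injective (MulAut.conj g).toMonoidHom (MulAut.conj g).injective w
  obtain ⟨k, hk, hku⟩ := key u hu
  obtain ⟨l, hl, hlv⟩ := key v hv
  obtain ⟨c, hc⟩ := isConj_iff.1 (conj22 hk hl)
  have : IsConj (fi k) (fi l) := isConj_iff.2 ⟨fi c, by rw [← map_mul, ← map_inv, ← map_mul, hc]⟩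
  exact hku.trans (this.trans hlv.symm)

/-- centralizers of conjugate elements -/
theorem cent_equiv {G : Type*} [Group G] {u v : G} (h : IsConj u v) :
    Nonempty (↥(centralizer ({u} : Set G)) ≃* ↥(centralizer ({v} : Set G))) := by
  obtain ⟨g, rfl⟩ := isConj_iff.1 h
  have h1 : (centralizer ({u} : Set G)).map (MulAut.conj g).toMonoidHom = centralizer ({g * u * g⁻¹} : Set G) := by
    ext x
    rw [mem_centralizer_singleton_iff]
    constructor
    · rintro ⟨q, hq, rfl⟩
      have hq' := mem_centralizer_singleton_iff.1 hq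
      show g * q * g⁻¹ * (g * u * g⁻¹) = g * u * g⁻¹ * (g * q * g⁻¹)
      calc g * q * g⁻¹ * (g * u * g⁻¹) = g * (q * u) * g⁻¹ := by group
        _ = _ := by rw [hq']; group
    · intro hx
      refine ⟨g⁻¹ * x * g, mem_centralizer_singleton_iff.2 ?_, ?_⟩
      · calc g⁻¹ * x * g * u = g⁻¹ * (x * (g * u * g⁻¹)) * g := by group
          _ = _ := by rw [hx]; group
      · show g * (g⁻¹ * x * g) * g⁻¹ = x
        group
  exact ⟨((centralizer ({u} : Set G)).equivMapOfInjective _ (MulAut.conj g).injective).trans (MulEquiv.subgroupCongr h1)⟩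

theorem adj_nine : ∀ i < 8, ∀ h : i < 10, adj ⟨i, h⟩ 9 = false := by decide

/-- **the elements of order five of ²E₆(2)** -/
theorem main {K : Type*} [Field K] [Fintype K] (hK : Fintype.card K = 4) :
    (∀ x y : ↥(Cfsg.Lie.twistedE6 K 2), orderOf x = 5 → orderOf y = 5 → IsConj x y) ∧
      ∀ x : ↥(Cfsg.Lie.twistedE6 K 2), orderOf x = 5 →
        Nonempty (↥(centralizer ({x} : Set ↥(Cfsg.Lie.twistedE6 K 2))) ≃*
          (Multiplicative (ZMod 5) × ↥(alternatingGroup (Fin 8)))) := by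
  obtain ⟨hchar, φ0, F⟩ := Cfsg.Agent.TwoESix.LeviA.exists_four K hK
  obtain ⟨x, fi, C, hD, Y, hne, hfi⟩ := exists_cfg K hK
  have hfin : Finite ↥(twistedE6 K 2) := Cfsg.Agent.TwoESix.LongCard.finite_E
  have inj := fi_injective C Y hfi
  have hcls : ∀ u v : ↥(twistedE6 K 2), orderOf u = 5 → orderOf v = 5 → IsConj u v := fun u v hu hv =>
    one_class inj (by rw [Cfsg.Agent.TwoESix.LongCard.card_E F]; norm_num) hu hv
  refine ⟨hcls, ?_⟩
  have H : Cls (rootClass K) x :=
    { cfg := C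
      conj := fun d hd g => Cfsg.Agent.TwoESix.FlagH.conj_T hd g
      sq := fun d hd => Cfsg.Agent.TwoESix.SheetA.root_sq F hd
      one := fun h => by
        obtain ⟨g, hg⟩ := Cfsg.Agent.TwoESix.KeyExtra.exists_conj F h
        have : Cfsg.Agent.TwoESix.LongCard.r0 F = 1 := by
          rw [mul_inv_eq_one] at hg
          exact mul_eq_left.1 hg
        exact Cfsg.Agent.TwoESix.SheetA.r0_ne' F this
      pair := fun d hd e he => TE6Facts.pair F hd he
      mem := fun i hi => hD ⟨i, hi⟩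
      comm := fun i hi => Y.comm ⟨i, by omega⟩ 9 (adj_nine i hi (by omega)) }
  obtain ⟨R, L, hR⟩ := TE6Facts.exists_R F (hD 9)
  have hb := card_bound C Y hfi H L hR (TE6Facts.card_cent' F (hD 9))
  obtain ⟨φ, hφ, hφy, a, ha, hat⟩ := exists_phi C
  obtain ⟨g, hg⟩ := AltEight.conj_T0 ha
  have hyp : TE6Abs.Hyp (rootClass K) (x iy) (φ.comp (MulAut.conj g).toMonoidHom) :=
    { conj := H.conj
      sq := H.sq
      one := H.one
      pair := H.pair
      five := y_five C
      ne := y_ne C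
      inj := hφ.comp (MulAut.conj g).injective
      comm := fun a => hφy _
      mem := by
        show φ (g * AltEight.T0 * g⁻¹) ∈ _
        rw [hg, hat]
        exact hD 9
      card := by
        show Nat.card ↥(centralizer ({φ (g * AltEight.T0 * g⁻¹)} : Set _) ⊓ _) ≤ _
        rw [hg, hat]
        exact hb }
  obtain ⟨e⟩ := TE6Abs.result hyp
  have hy : orderOf (x iy) = 5 := by
    have : Fact (Nat.Prime 5) := ⟨by norm_num⟩
    exact orderOf_eq_prime (y_five C) (y_ne C)
  intro u hu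
  obtain ⟨e'⟩ := cent_equiv (hcls u (x iy) hu hy)
  exact ⟨e'.trans e⟩

end Cfsg.Agent.H898.TE6Main
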