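import Cfsg.Agent.H898.NForm
import Cfsg.Agent.H841.Phi

/-!
# `Fi24`: the normalizer of a subgroup of order 5 (helper898)
-/

set_option autoImplicit false
set_option maxRecDepth 100000

namespace Cfsg.Agent.H898.FiveNorm

open Cfsg Cfsg.Agent.Lib.PermNet Cfsg.Agent.Lib.PermNetPt Cfsg.Agent.Fischer.Fi24RepDef Cfsg.Agent.Fischer.Fi24Rep
open Cfsg.Agent.Fischer.Fi24Spider (word_append word_cons word_nil gword gen_conj)
open Cfsg.Agent.R08.FiTwentyFour (L)
open Cfsg.Agent.KFacts.FiTF.Pts Cfsg.Agent.KFacts.FiTF.FixMask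
open Cfsg.Agent.LThreeFi24.SNine
open Cfsg.Agent.LThreeFi24.FiveConj (t1 u1 e1 e5 orderOf_y0 y0_ne exists_conj_five eqB eq_of_eqB R_y0)
open Cfsg.Agent.H841.Five Cfsg.Agent.H898.NForm
open Cfsg.Spor (Fi24)
open Cfsg.Spor.Fi24 (Gen)
open Equiv Subgroup

theorem chk_t1 : eqB (u1 ++ u1 ++ u1 ++ u1) [] = true := by decide +kernel

theorem t1_pow : t1 ^ 4 = 1 := by
  have h := eq_of_eqB chk_t1
  rw [word_append, word_append, word_append, word_nil] at h
  calc t1 ^ 4 = t1 * t1 * t1 * t1 := by simp only [pow_succ, pow_zero, one_mul]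
    _ = 1 := h

theorem t1_comm {g : Fi24} (hg : g ∈ S9) : Commute t1 g := by
  have h1 : Commute g (gen .l) := S9_comm hg _ (by simp)
  have h2 : Commute g (gen .a) := S9_comm hg _ (by simp)
  have h3 : Commute g (gen .k) := S9_comm hg _ (by simp)
  have h4 : t1 = gen .l * (gen .a * (gen .k * 1)) := by
    show word [.l, .a, .k] = _
    rw [word_cons, word_cons, word_cons, word_nil]
  rw [h4]
  exact (h1.mul_right (h2.mul_right (h3.mul_right (Commute.one_right g)))).symm

/-- the transpositions commuting with `⟨y0⟩` generate `S₉` -/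
theorem closure_eq :
    Subgroup.closure (L ∩ (Subgroup.centralizer ((zpowers y0 : Subgroup Fi24) : Set Fi24) : Set Fi24)) = Phi.range := by
  have hcent : centralizer ((zpowers y0 : Subgroup Fi24) : Set Fi24) = centralizer ({y0} : Set Fi24) := by
    rw [zpowers_eq_closure, centralizer_closure]
  apply le_antisymm
  · rw [closure_le, hcent]
    rintro d ⟨hd, hc⟩
    obtain ⟨i, j, hij, rfl⟩ := of_comm_y0 hd (mem_centralizer_singleton_iff.1 hc).symm
    exact ⟨_, rfl⟩
  · rw [range_Phi, S9, closure_le]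
    rintro _ ⟨m, rfl⟩
    rw [← Phi_swap]
    have hne : m.castSucc ≠ m.succ := castSucc_ne_succ m
    refine subset_closure ⟨Phi_swap_mem_L hne, ?_⟩
    rw [hcent]
    exact mem_centralizer_singleton_iff.2 (Phi_comm_y0 _).eq

/-- **The normalizer of `⟨y0⟩`.** -/
theorem np_y0 : NP L 20 (Perm (Fin 9)) (zpowers y0) := by
  have h5 : Nat.Prime 5 := by norm_num
  refine NP.of_gen (p := 5) (m := 4) h5 (by norm_num) orderOf_y0 2 e1 t1_pow ?_ ?_ Phi Phi_injective closure_eq ?_
    (fun σ => Phi_comm_y0 σ) (fun σ => t1_comm (Phi_mem σ)) ?_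
  · intro j h
    -- `2 ^ j ≡ 1 mod 5`
    have h1 : y0 ^ (2 ^ j) = y0 ^ 1 := by rw [h, pow_one]
    rw [pow_inj_mod, orderOf_y0] at h1
    have h2 : 2 ^ j % 5 = 2 ^ (j % 4) % 5 := by
      conv_lhs => rw [← Nat.div_add_mod j 4, pow_add, pow_mul, Nat.mul_mod, Nat.pow_mod]
      norm_num
    rw [h2] at h1
    have h3 : j % 4 < 4 := Nat.mod_lt _ (by norm_num)
    apply Nat.dvd_of_mod_eq_zero
    generalize j % 4 = k at h1 h3 ⊢
    interval_cases k
    · rfl
    all_goals exact absurd h1 (by norm_num)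
  · refine hN_of h5 orderOf_y0 2 e1 ?_
    intro k hk h0
    interval_cases k
    · exact absurd rfl h0
    · exact ⟨0, by norm_num⟩
    · exact ⟨1, by norm_num⟩
    · exact ⟨3, by norm_num⟩
    · exact ⟨2, by norm_num⟩
  · intro n hn
    obtain ⟨i, σ, -, -, h⟩ := exists_of_comm hn
    exact ⟨i, σ, h⟩
  · rintro i ⟨σ, hσ⟩
    have h1 := R_Phi σ
    rw [hσ] at h1
    have h2 := h1.uniq (R_y0_pow i)
    rw [← hσ, h2, map_one]

theorem L_conj (g : Fi24) : (MulAut.conj g) '' L = L := by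
  have key : ∀ g : Fi24, (MulAut.conj g) '' L ⊆ L := by
    rintro g _ ⟨d, hd, rfl⟩
    obtain ⟨p, hp⟩ := exists_pt hd
    exact (hp.conj g).mem
  apply Set.Subset.antisymm (key g)
  intro d hd
  refine ⟨g⁻¹ * d * g, ?_, ?_⟩
  · have h := key g⁻¹ ⟨d, hd, rfl⟩
    have h1 : (MulAut.conj g⁻¹) d = g⁻¹ * d * g := by
      rw [MulAut.conj_apply, inv_inv]
    rwa [h1] at h
  · rw [MulAut.conj_apply]; group

/-- a subgroup of prime order is generated by an element -/
theorem exists_gen {K : Type*} [Group K] {p : ℕ} (hp : p.Prime) {X : Subgroup K} (hX : Nat.card X = p) :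
    ∃ y : K, orderOf y = p ∧ X = zpowers y := by
  have := Fact.mk hp
  have hfin : Finite ↥X := Nat.finite_of_card_ne_zero (by rw [hX]; exact hp.ne_zero)
  have hne : X ≠ ⊥ := by
    rintro rfl
    rw [card_bot] at hX
    exact hp.one_lt.ne hX
  obtain ⟨y, hy, hy1⟩ := X.bot_or_exists_ne_one.resolve_left hne
  have h1 : orderOf y = p := by
    have h2 : orderOf (⟨y, hy⟩ : ↥X) ∣ p := by rw [← hX]; exact orderOf_dvd_natCard _
    rw [Subgroup.orderOf_mk] at h2
    rcases (Nat.dvd_prime hp).1 h2 with h3 | h3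
    · exact absurd (orderOf_eq_one_iff.1 h3) hy1
    · exact h3
  refine ⟨y, h1, ?_⟩
  symm
  apply eq_of_le_of_card_ge
  · rw [zpowers_le]; exact hy
  · rw [Nat.card_zpowers, h1, hX]

theorem map_conj_zpowers {K : Type*} [Group K] (g y : K) :
    (zpowers y).map (MulAut.conj g).toMonoidHom = zpowers (g * y * g⁻¹) := by
  rw [MonoidHom.map_zpowers]; rfl

/-- every subgroup of order 5 is conjugate to `⟨y0⟩` -/
theorem exists_conj {X : Subgroup Fi24} (hX : Nat.card X = 5) :
    ∃ g : Fi24, (zpowers y0).map (MulAut.conj g).toMonoidHom = X := by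
  obtain ⟨y, hy, rfl⟩ := exists_gen (by norm_num) hX
  obtain ⟨g, hg⟩ := exists_conj_five hy
  refine ⟨g⁻¹, ?_⟩
  rw [map_conj_zpowers, ← hg]
  congr 1
  group

theorem map_map_conj {K : Type*} [Group K] (X : Subgroup K) (g h : K) :
    (X.map (MulAut.conj g).toMonoidHom).map (MulAut.conj h).toMonoidHom = X.map (MulAut.conj (h * g)).toMonoidHom := by
  rw [Subgroup.map_map]
  congr 1
  ext x
  show h * (g * x * g⁻¹) * h⁻¹ = (h * g) * x * (h * g)⁻¹
  group

theorem conj_all (X Y : Subgroup Fi24) (hX : Nat.card X = 5) (hY : Nat.card Y = 5) :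
    ∃ g : Fi24, X.map (MulAut.conj g).toMonoidHom = Y := by
  obtain ⟨g, hg⟩ := exists_conj hX
  obtain ⟨h, hh⟩ := exists_conj hY
  refine ⟨h * g⁻¹, ?_⟩
  rw [← hg, map_map_conj, ← hh]
  congr 3
  group

/-- **The conclusion of S5505 for the presented group.** -/
theorem np_all (X : Subgroup Fi24) (hX : Nat.card X = 5) : NP L 20 (Perm (Fin 9)) X := by
  obtain ⟨g, rfl⟩ := exists_conj hX
  have h := np_y0.map (MulAut.conj g)
  rwa [L_conj] at h

/-! ### Transport to `G` -/

theorem conj_all_of {G : Type*} [Group G] (e : Fi24 ≃* G) (X Y : Subgroup G) (hX : Nat.card X = 5) (hY : Nat.card Y = 5) :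
    ∃ g : G, X.map (MulAut.conj g).toMonoidHom = Y := by
  obtain ⟨g, hg⟩ := conj_all (X.map e.symm.toMonoidHom) (Y.map e.symm.toMonoidHom)
    (by rw [H841.Transport.card_map, hX]) (by rw [H841.Transport.card_map, hY])
  refine ⟨e g, ?_⟩
  have h1 : ∀ Z : Subgroup G, (Z.map e.symm.toMonoidHom).map e.toMonoidHom = Z := by
    intro Z
    rw [Subgroup.map_map]
    have : e.toMonoidHom.comp e.symm.toMonoidHom = MonoidHom.id G := by
      ext x; exact e.apply_symm_apply x
    rw [this, Subgroup.map_id]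
  rw [← h1 Y, ← hg, Subgroup.map_map, Subgroup.map_map]
  congr 1
  ext x
  show e g * x * (e g)⁻¹ = e (g * e.symm x * g⁻¹)
  rw [map_mul, map_mul, map_inv, e.apply_symm_apply]

theorem np_all_of {G : Type*} [Group G] {D : Set G} (e : Fi24 ≃* G) (he : e '' L = D) (X : Subgroup G)
    (hX : Nat.card X = 5) : NP D 20 (Perm (Fin 9)) X := by
  have h1 : (X.map e.symm.toMonoidHom).map e.toMonoidHom = X := by
    rw [Subgroup.map_map]
    have : e.toMonoidHom.comp e.symm.toMonoidHom = MonoidHom.id G := by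
      ext x; exact e.apply_symm_apply x
    rw [this, Subgroup.map_id]
  have h2 := (np_all (X.map e.symm.toMonoidHom) (by rw [H841.Transport.card_map, hX])).map e
  rwa [h1, he] at h2

end Cfsg.Agent.H898.FiveNorm
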