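import Cfsg.Agent.H898.RowTool
import Cfsg.Agent.H898.RowCo0
import Cfsg.Agent.H898.J3Cent
import Cfsg.Agent.PreUniqB.Lift
import Cfsg.Agent.NotCT.Orders

/-!
# The rows of S4329 for `Co1`, `Co2`, `Co3`, `McL` (`p ≠ 3`) and `J3` (helper898)

The automorphisms of odd order are assumed to be inner.
-/

set_option autoImplicit false

namespace Cfsg.Agent.H898.RowCo

open Module Cfsg Cfsg.Agent.SporadicStructure Cfsg.Agent.SporadicStructure.Co0Base
open Cfsg.Agent.SigZeroCo2.Rank Cfsg.Agent.SigZeroCo2.Lin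
open Cfsg.Agent.PreUniqCo.FixBound Cfsg.Agent.H898.RowCo0 Cfsg.Agent.H898.RowTool Cfsg.Agent.H568
open Cfsg.Spor (Co1)

/-! ### Arithmetic -/

theorem not_sq {n a b p : ℕ} (hp : p.Prime) (hn : n = a * b) (ha : Nat.Coprime p a) (hb : b < 60 * 60)
    (hb2 : ∀ q ∈ Finset.range 60, 2 ≤ q → ¬ q ^ 2 ∣ b) (hb0 : b ≠ 0) : ¬ p ^ 2 ∣ n := by
  intro h
  rw [hn] at h
  have h1 : p ^ 2 ∣ b := (Nat.Coprime.pow_left 2 ha).dvd_of_dvd_mul_left h
  have h2 := Nat.le_of_dvd (Nat.pos_of_ne_zero hb0) h1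
  have h3 : p < 60 := by
    by_contra hc
    push Not at hc
    have : 60 * 60 ≤ p ^ 2 := by rw [pow_two]; exact Nat.mul_le_mul hc hc
    omega
  exact hb2 p (Finset.mem_range.2 h3) hp.two_le h1

theorem cop {p q : ℕ} (hp : p.Prime) (hq : q.Prime) (h : p ≠ q) (k : ℕ) : Nat.Coprime p (q ^ k) :=
  Nat.Coprime.pow_right k ((Nat.coprime_primes hp hq).2 h)

/-! ### Subgroups of `Co0` -/

section sub

variable {H : Subgroup (Equiv.Perm leechLattice)} (hle : H ≤ Co0)

include hle in
theorem comm_incl {x y : H} (hxy : x * y = y * x) : Commute (Subgroup.inclusion hle x) (Subgroup.inclusion hle y) := by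
  rw [Commute, SemiconjBy, ← map_mul, hxy, map_mul]

include hle in
theorem order_incl (x : H) : orderOf (Subgroup.inclusion hle x) = orderOf x :=
  orderOf_injective (Subgroup.inclusion hle) (Subgroup.inclusion_injective hle) x

include hle in
theorem sub_23 {p : ℕ} (hp : p.Prime) (hp3 : 3 ≤ p) (hpr : p < 23) (x y : H) (hx : orderOf x = 23)
    (hy : orderOf y = p) : x * y ≠ y * x := fun hxy =>
  not_comm_23 hp hp3 hpr ((order_incl hle y).trans hy) ((order_incl hle x).trans hx) (comm_incl hle hxy.symm)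

end sub

theorem co1_23 {p : ℕ} (hp : p.Prime) (hp3 : 3 ≤ p) (hpr : p < 23) (x y : Co1) (hx : orderOf x = 23)
    (hy : orderOf y = p) : x * y ≠ y * x := by
  intro hxy
  obtain ⟨g, h, hg, hh, -, -, hc⟩ := Cfsg.Agent.PreUniqB.Lift.lift_comm (m := p) (n := 23)
    (hp.odd_of_ne_two (by omega)) (by decide) hy hx hxy.symm
  exact not_comm_23 hp hp3 hpr hg hh hc

section transport

variable {K L : Type*} [Group K] [Group L] (e : K ≃* L)

include e in
theorem not_comm_congr {l p : ℕ} (h : ∀ x y : L, orderOf x = l → orderOf y = p → x * y ≠ y * x) (x y : K)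
    (hx : orderOf x = l) (hy : orderOf y = p) : x * y ≠ y * x := by
  intro hxy
  refine h (e x) (e y) ?_ ?_ ?_
  · rw [MulEquiv.orderOf_eq, hx]
  · rw [MulEquiv.orderOf_eq, hy]
  · rw [← map_mul, hxy, map_mul]

end transport

variable {K : Type*} [Group K] [Finite K] [IsSimpleGroup K]

theorem row_co1 (h : Spor.IsoCo1 K) (hOI : OI' K) (p : ℕ) (hp : Fact p.Prime) (hp2 : p ≠ 2) : Row p K := by
  have hc := Cfsg.Agent.NotCT.Orders.co1 h
  have hna : ¬ IsMulCommutative K := hna_of_card (by rw [hc]; norm_num) (by rw [hc]; norm_num)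
  obtain ⟨e⟩ := h
  have key : ∀ (hp3 : 3 ≤ p) (hpr : p < 23)
      (hord : ∀ k : ℕ, k ≠ 0 → p ^ k ∣ Nat.card K → ¬ 23 ∣ p ^ k - 1), Row p K := fun hp3 hpr hord =>
    row_of_order hna hOI hp hp2 (by norm_num) (by rw [hc]; norm_num)
      (not_comm_congr e (co1_23 hp.out hp3 hpr)) hord
  by_cases h3 : p = 3
  · subst h3
    refine key (by norm_num) (by norm_num) ?_
    rw [hc]
    exact ord_of (e := 9) (by norm_num) (by decide)
  by_cases h5 : p = 5
  · subst h5
    refine key (by norm_num) (by norm_num) ?_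
    rw [hc]
    exact ord_of (e := 4) (by norm_num) (by decide)
  by_cases h7 : p = 7
  · subst h7
    refine key (by norm_num) (by norm_num) ?_
    rw [hc]
    exact ord_of (e := 2) (by norm_num) (by decide)
  refine row_of_not_sq hna hOI hp hp2 ?_
  rw [hc]
  refine not_sq (a := 2 ^ 21 * 3 ^ 9 * 5 ^ 4 * 7 ^ 2) (b := 11 * 13 * 23) hp.out (by norm_num) ?_ (by norm_num)
    (by decide) (by norm_num)
  exact (((cop hp.out Nat.prime_two hp2 _).mul_right (cop hp.out Nat.prime_three h3 _)).mul_right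
    (cop hp.out Nat.prime_five h5 _)).mul_right (cop hp.out (by norm_num) h7 _)

theorem row_co2 (h : Spor.IsoCo2 K) (hOI : OI' K) (p : ℕ) (hp : Fact p.Prime) (hp2 : p ≠ 2) : Row p K := by
  have hc := Cfsg.Agent.NotCT.Orders.co2 h
  have hna : ¬ IsMulCommutative K := hna_of_card (by rw [hc]; norm_num) (by rw [hc]; norm_num)
  obtain ⟨e⟩ := h
  have hle : Spor.Co2 ≤ Co0 := inf_le_left
  have key : ∀ (hp3 : 3 ≤ p) (hpr : p < 23)
      (hord : ∀ k : ℕ, k ≠ 0 → p ^ k ∣ Nat.card K → ¬ 23 ∣ p ^ k - 1), Row p K := fun hp3 hpr hord =>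
    row_of_order hna hOI hp hp2 (by norm_num) (by rw [hc]; norm_num)
      (not_comm_congr e (sub_23 hle hp.out hp3 hpr)) hord
  by_cases h3 : p = 3
  · subst h3
    refine key (by norm_num) (by norm_num) ?_
    rw [hc]
    exact ord_of (e := 6) (by norm_num) (by decide)
  by_cases h5 : p = 5
  · subst h5
    refine key (by norm_num) (by norm_num) ?_
    rw [hc]
    exact ord_of (e := 3) (by norm_num) (by decide)
  refine row_of_not_sq hna hOI hp hp2 ?_
  rw [hc]
  refine not_sq (a := 2 ^ 18 * 3 ^ 6 * 5 ^ 3) (b := 7 * 11 * 23) hp.out (by norm_num) ?_ (by norm_num)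
    (by decide) (by norm_num)
  exact ((cop hp.out Nat.prime_two hp2 _).mul_right (cop hp.out Nat.prime_three h3 _)).mul_right
    (cop hp.out Nat.prime_five h5 _)

theorem row_co3 (h : Spor.IsoCo3 K) (hOI : OI' K) (p : ℕ) (hp : Fact p.Prime) (hp2 : p ≠ 2) : Row p K := by
  have hc := Cfsg.Agent.NotCT.Orders.co3 h
  have hna : ¬ IsMulCommutative K := hna_of_card (by rw [hc]; norm_num) (by rw [hc]; norm_num)
  obtain ⟨e⟩ := h
  have hle : Spor.Co3 ≤ Co0 := inf_le_left
  have key : ∀ (hp3 : 3 ≤ p) (hpr : p < 23)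
      (hord : ∀ k : ℕ, k ≠ 0 → p ^ k ∣ Nat.card K → ¬ 23 ∣ p ^ k - 1), Row p K := fun hp3 hpr hord =>
    row_of_order hna hOI hp hp2 (by norm_num) (by rw [hc]; norm_num)
      (not_comm_congr e (sub_23 hle hp.out hp3 hpr)) hord
  by_cases h3 : p = 3
  · subst h3
    refine key (by norm_num) (by norm_num) ?_
    rw [hc]
    exact ord_of (e := 7) (by norm_num) (by decide)
  by_cases h5 : p = 5
  · subst h5
    refine key (by norm_num) (by norm_num) ?_
    rw [hc]
    exact ord_of (e := 3) (by norm_num) (by decide)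
  refine row_of_not_sq hna hOI hp hp2 ?_
  rw [hc]
  refine not_sq (a := 2 ^ 10 * 3 ^ 7 * 5 ^ 3) (b := 7 * 11 * 23) hp.out (by norm_num) ?_ (by norm_num)
    (by decide) (by norm_num)
  exact ((cop hp.out Nat.prime_two hp2 _).mul_right (cop hp.out Nat.prime_three h3 _)).mul_right
    (cop hp.out Nat.prime_five h5 _)

/-! ### `McL` -/

theorem mcl_le : Spor.McL ≤ Co0 := inf_le_left.trans inf_le_left

theorem mcl_fix (x : Spor.McL) : finrank ℚ (fix (rep (Subgroup.inclusion mcl_le x))) ≠ 0 := by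
  intro h0
  have h1 : (Subgroup.inclusion mcl_le x) • Spor.leechU = Spor.leechU := x.2.2
  have h2 : tau Spor.leechU ∈ fix (rep (Subgroup.inclusion mcl_le x)) := mem_fix_tau.2 h1
  rw [Submodule.finrank_eq_zero.1 h0, Submodule.mem_bot] at h2
  have h3 := congrFun h2 none
  change ((Spor.vecU none : ℤ) : ℚ) = 0 at h3
  rw [show Spor.vecU none = 4 from rfl] at h3
  norm_num at h3

/-- no element of order 3 or 5 commutes with an element of order 11 -/
theorem mcl_eleven {p : ℕ} (hp : p = 3 ∨ p = 5) (x y : Spor.McL) (hx : orderOf x = 11) (hy : orderOf y = p) :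
    x * y ≠ y * x := by
  intro hxy
  rcases hp with rfl | rfl
  · exact mcl_fix y (three_eleven ((order_incl mcl_le y).trans hy) ((order_incl mcl_le x).trans hx)
      (comm_incl mcl_le hxy.symm))
  · exact five_eleven ((order_incl mcl_le y).trans hy) ((order_incl mcl_le x).trans hx) (comm_incl mcl_le hxy.symm)

theorem row_mcl (h : Spor.IsoMcL K) (hOI : OI' K) (p : ℕ) (hp : Fact p.Prime) (hp2 : p ≠ 2) (hp3 : p ≠ 3) :
    Row p K := by
  have hc := Cfsg.Agent.NotCT.Orders.mcl h
  have hna : ¬ IsMulCommutative K := hna_of_card (by rw [hc]; norm_num) (by rw [hc]; norm_num)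
  obtain ⟨e⟩ := h
  by_cases h5 : p = 5
  · subst h5
    refine row_of_order hna hOI hp hp2 (l := 11) (by norm_num) (by rw [hc]; norm_num)
      (not_comm_congr e (mcl_eleven (Or.inr rfl))) ?_
    rw [hc]
    exact ord_of (e := 3) (by norm_num) (by decide)
  refine row_of_not_sq hna hOI hp hp2 ?_
  rw [hc]
  refine not_sq (a := 2 ^ 7 * 3 ^ 6 * 5 ^ 3) (b := 7 * 11) hp.out (by norm_num) ?_ (by norm_num)
    (by decide) (by norm_num)
  exact ((cop hp.out Nat.prime_two hp2 _).mul_right (cop hp.out Nat.prime_three hp3 _)).mul_right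
    (cop hp.out Nat.prime_five h5 _)

/-! ### `J3` -/

theorem row_j3 (h : Spor.IsoJ3 K) (hOI : OI' K) (p : ℕ) (hp : Fact p.Prime) (hp2 : p ≠ 2) : Row p K := by
  have hc := Cfsg.Agent.NotCT.Orders.j3 h
  have hna : ¬ IsMulCommutative K := hna_of_card (by rw [hc]; norm_num) (by rw [hc]; norm_num)
  by_cases h3 : p = 3
  · subst h3
    refine row_of_order hna hOI hp hp2 (l := 19) (by norm_num) (by rw [hc]; norm_num) ?_ ?_
    · intro x y hx hy hxy
      have h1 := Cfsg.Agent.H898.J3Cent.card_nineteen h hx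
      have h2 : orderOf (⟨y, Subgroup.mem_centralizer_singleton_iff.2 hxy.symm⟩ :
          ↥(Subgroup.centralizer ({x} : Set K))) ∣ Nat.card ↥(Subgroup.centralizer ({x} : Set K)) :=
        orderOf_dvd_natCard _
      rw [Subgroup.orderOf_mk, h1, hy] at h2
      norm_num at h2
    · rw [hc]
      exact ord_of (e := 5) (by norm_num) (by decide)
  refine row_of_not_sq hna hOI hp hp2 ?_
  rw [hc]
  refine not_sq (a := 2 ^ 7 * 3 ^ 5) (b := 5 * 17 * 19) hp.out (by norm_num) ?_ (by norm_num)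
    (by decide) (by norm_num)
  exact (cop hp.out Nat.prime_two hp2 _).mul_right (cop hp.out Nat.prime_three h3 _)

end Cfsg.Agent.H898.RowCo
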