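import Cfsg.Agent.H14.PD.CentOrd

/-!
# S4246, row of `POmega^+_8(q)`: the `3`-part of the centralisers of the elements of order dividing `q^2 + 1` (helper898)

`v_three_cent` : `y` of prime order `l`, `q` of order `4` modulo `l`, `p ≠ 3`: `v_3 |C(y)| ≤ 2 v_3(q^4 - 1)`.
-/

set_option autoImplicit false
set_option linter.unusedSectionVars false

namespace Cfsg.Agent.H898.PDThree

open QuadraticMap Module Cfsg.Agent.LieClassical.OrthCore Cfsg.Agent.LieClassical.OrthTrans
open Cfsg.Agent.ClassicalGeometry.OrthSemi Cfsg.Agent.ClassicalGeometry.OrthAut1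
open Cfsg.Agent.H200.LinFix Cfsg.Agent.H200.RowOrth Cfsg.Agent.H14.PD
open Cfsg.Agent.H160.PD (v v_mono v_eq_zero v_pos)
open Cfsg.Agent.Classification.InvCentU.FiveLib (card_dvd_of_free)

variable {F V : Type*} [Field F] [AddCommGroup V] [Module F V] {Q : QuadraticForm F V}

variable {p f : ℕ} [Finite V] [Finite F]

theorem en_inj_zero (g : ↥(E Q)) {w : V} (h : en Q g w = 0) : w = 0 := by
  have h1 : en Q g⁻¹ (en Q g w) = w := by
    rw [← Module.End.mul_apply, ← map_mul, inv_mul_cancel, map_one, Module.End.one_apply]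
  rw [← h1, h, map_zero]

/-- the action on the nonzero vectors of an invariant subspace -/
@[reducible] noncomputable def actW (G : Subgroup ↥(E Q)) (W : Submodule F V) (hW : ∀ g ∈ G, ∀ w ∈ W, en Q g w ∈ W) :
    MulAction ↥G {v : V // v ∈ W ∧ v ≠ 0} where
  smul g v := ⟨en Q g v, hW g g.2 v v.2.1, fun h => v.2.2 (en_inj_zero _ h)⟩
  one_smul v := Subtype.ext (by
    change en Q ((1 : ↥G) : ↥(E Q)) v = v
    rw [OneMemClass.coe_one, map_one]; rfl)
  mul_smul g h v := Subtype.ext (by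
    change en Q ((g * h : ↥G) : ↥(E Q)) v = en Q g (en Q h v)
    rw [Subgroup.coe_mul, map_mul]; rfl)

/-- **Free action on `R z`.** -/
theorem card_dvd_R {G : Subgroup ↥(E Q)} {z : ↥(E Q)} {k : ℕ} (hkF : (k : F) ≠ 0) (hz : z ^ k = 1)
    (hcomm : ∀ s ∈ G, s * z = z * s) (hK : ∀ s ∈ G, s ≠ 1 → K (en Q s) ≤ K (en Q z)) :
    Nat.card G ∣ Nat.card F ^ finrank F (R (en Q z)) - 1 := by
  have hfinE : Finite ↥(E Q) := finite_E
  have hR : ∀ g ∈ G, ∀ w ∈ R (en Q z), en Q g w ∈ R (en Q z) := fun g hg w hw =>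
    R_inv (by rw [← map_mul, ← map_mul, hcomm g hg]) hw
  have hz' : en Q z ^ k = 1 := by rw [← map_pow, hz, map_one]
  let _ : MulAction ↥G {v : V // v ∈ R (en Q z) ∧ v ≠ 0} := actW G _ hR
  rw [← card_ne_zero]
  refine card_dvd_of_free fun g w hg => ?_
  by_contra hg1
  have h1 : en Q g (w : V) = w := congrArg Subtype.val hg
  have h2 : (w : V) ∈ K (en Q z) := hK g g.2 (fun h => hg1 (Subtype.ext h)) (mem_K.2 h1)
  exact w.2.2 (eq_zero_of_mem hz' hkF (mem_K.1 h2) w.2.1)

/-- **A small orbit.** -/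
theorem exists_small {G : Subgroup ↥(E Q)} {t : ℕ} (ht : t.Prime) (hG : IsPGroup t G) {W : Submodule F V}
    (hW : ∀ g ∈ G, ∀ w ∈ W, en Q g w ∈ W) (hW0 : 1 ≤ finrank F W) {m : ℕ}
    (hm : (Nat.card F ^ finrank F W - 1).factorization t ≤ m) :
    ∃ w ∈ W, w ≠ 0 ∧ ∃ G' : Subgroup ↥(E Q), (∀ g, g ∈ G' ↔ g ∈ G ∧ en Q g w = w) ∧ v t G ≤ v t G' + m := by
  have hfinE : Finite ↥(E Q) := finite_E
  have htF := Fact.mk ht
  let _ : MulAction ↥G {v : V // v ∈ W ∧ v ≠ 0} := actW G W hW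
  have hq : 1 < Nat.card F := Finite.one_lt_card
  have hne : Nat.card F ^ finrank F W - 1 ≠ 0 := by
    have := Nat.one_lt_pow (n := finrank F W) (by omega) hq
    omega
  obtain ⟨x, hx⟩ : ∃ x : {v : V // v ∈ W ∧ v ≠ 0}, ¬ t ^ (m + 1) ∣ (MulAction.stabilizer ↥G x).index := by
    by_contra hcon
    push Not at hcon
    have h1 : t ^ (m + 1) ∣ Nat.card {v : V // v ∈ W ∧ v ≠ 0} := by
      classical
      have := Fintype.ofFinite (Quotient (MulAction.orbitRel ↥G {v : V // v ∈ W ∧ v ≠ 0}))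
      rw [Nat.card_congr (MulAction.selfEquivSigmaOrbits ↥G {v : V // v ∈ W ∧ v ≠ 0}), Nat.card_sigma]
      refine Finset.dvd_sum fun ω _ => ?_
      have h1 := hcon ω.out
      rwa [MulAction.index_stabilizer, ← Nat.card_coe_set_eq] at h1
    rw [card_ne_zero, ht.pow_dvd_iff_le_factorization hne] at h1
    omega
  refine ⟨x, x.2.1, x.2.2, (MulAction.stabilizer ↥G x).map G.subtype, fun g => ?_, ?_⟩
  · constructor
    · rintro ⟨g, hg, rfl⟩
      exact ⟨g.2, congrArg Subtype.val hg⟩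
    · rintro ⟨hg, hgx⟩
      exact ⟨⟨g, hg⟩, Subtype.ext hgx, rfl⟩
  · set L := MulAction.stabilizer ↥G x with hL
    have h1 : Nat.card (L.map G.subtype) = Nat.card L :=
      (Nat.card_congr (L.equivMapOfInjective _ G.subtype_injective).toEquiv).symm
    obtain ⟨a, ha⟩ := IsPGroup.iff_card.1 hG
    have h2 : L.index ∣ t ^ a := ha ▸ L.index_dvd_card
    obtain ⟨b, -, hb⟩ := (Nat.dvd_prime_pow ht).1 h2
    have h3 : b ≤ m := by
      by_contra h4
      apply hx
      rw [hb]
      exact Nat.pow_dvd_pow t (by omega)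
    simp only [v]
    rw [h1, ← L.card_mul_index, hb, Nat.factorization_mul Nat.card_pos.ne' (pow_ne_zero _ ht.ne_zero),
      Finsupp.add_apply, ht.factorization_pow, Finsupp.single_eq_same]
    omega

/-- a central element of order `t` -/
theorem exists_central {G : Subgroup ↥(E Q)} {t : ℕ} (ht : t.Prime) (hG : IsPGroup t G) (h1 : G ≠ ⊥) :
    ∃ z ∈ G, z ^ t = 1 ∧ z ≠ 1 ∧ ∀ s ∈ G, s * z = z * s := by
  have hfinE : Finite ↥(E Q) := finite_E
  have htF := Fact.mk ht
  have hn : Nontrivial G := (Subgroup.nontrivial_iff_ne_bot G).2 h1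
  have hc := hG.center_nontrivial
  have hcp : IsPGroup t ↥(Subgroup.center G) := hG.to_subgroup _
  have hd : t ∣ Nat.card ↥(Subgroup.center G) := by
    obtain ⟨k, hk⟩ := IsPGroup.iff_card.1 hcp
    have h1 : 1 < Nat.card ↥(Subgroup.center G) := Finite.one_lt_card_iff_nontrivial.2 hc
    rw [hk] at h1 ⊢
    apply dvd_pow_self
    rintro rfl
    simp at h1
  obtain ⟨⟨⟨z, hzG⟩, hz⟩, hzo⟩ := exists_prime_orderOf_dvd_card' t hd
  rw [Subgroup.orderOf_mk, Subgroup.orderOf_mk] at hzo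
  refine ⟨z, hzG, by rw [← hzo, pow_orderOf_eq_one], ?_, fun s hs => ?_⟩
  · rintro rfl
    rw [orderOf_one] at hzo
    exact ht.one_lt.ne hzo
  · exact congrArg Subtype.val (Subgroup.mem_center_iff.1 hz ⟨s, hs⟩)

theorem v_le_of_dvd {G : Subgroup ↥(E Q)} {t N M : ℕ} (hM : M ≠ 0) (h : Nat.card G ∣ N) (hNM : N ∣ M) :
    v t G ≤ M.factorization t := by
  have hfinE : Finite ↥(E Q) := finite_E
  exact (Nat.factorization_le_iff_dvd Nat.card_pos.ne' hM).2 (h.trans hNM) t

/-- the stabiliser of a vector, `R y = V` -/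
theorem stab_eight {l : ℕ} [hl : Fact l.Prime] (hlF : (l : F) ≠ 0) (hd : Ordd l (Nat.card F) 4)
    (hV : finrank F V = 8) {y : ↥(E Q)} (hy : y ^ l = 1) (hRy : finrank F (R (en Q y)) = 8)
    {t : ℕ} (ht : t.Prime) (htF : (t : F) ≠ 0) {G : Subgroup ↥(E Q)} (hG : IsPGroup t G)
    (hGy : ∀ g ∈ G, g * y = y * g) {w : V} (hw : w ≠ 0) (hGw : ∀ g ∈ G, en Q g w = w) :
    v t G ≤ (Nat.card F ^ 4 - 1).factorization t := by
  have hfinE : Finite ↥(E Q) := finite_E
  have hfd : FiniteDimensional F V := inferInstance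
  by_cases h1 : G = ⊥
  · subst h1
    rw [v, Subgroup.card_bot, Nat.factorization_one]
    exact Nat.zero_le _
  obtain ⟨z, hzG, hz, hz1, hcomm⟩ := exists_central ht hG h1
  have hy' : en Q y ^ l = 1 := by rw [← map_pow, hy, map_one]
  have hRtop : R (en Q y) = ⊤ := Submodule.eq_top_of_finrank_eq (by rw [hRy, hV])
  have hdim : ∀ U : Submodule F V, (∀ u ∈ U, en Q y u ∈ U) → 4 ∣ finrank F U := fun U hU =>
    dvd_finrank_le hd hlF hy' (by rw [hRtop]; exact le_top) hU
  have hKinv : ∀ s ∈ G, ∀ u ∈ K (en Q s), en Q y u ∈ K (en Q s) := fun s hs u hu =>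
    K_inv (by rw [← map_mul, ← map_mul, hGy s hs]) hu
  have hK4 : ∀ s ∈ G, s ≠ 1 → finrank F (K (en Q s)) = 4 := by
    intro s hs hs1
    obtain ⟨c, hc⟩ := hdim _ (hKinv s hs)
    have h2 : finrank F (K (en Q s)) ≠ 0 := by
      intro h0
      rw [Submodule.finrank_eq_zero] at h0
      have h3 : w ∈ K (en Q s) := mem_K.2 (hGw s hs)
      rw [h0] at h3
      exact hw h3
    have h3 := finrank_add (en Q s)
    have h4 : finrank F (R (en Q s)) ≠ 0 := by
      intro h0
      rw [Submodule.finrank_eq_zero, R_eq_bot] at h0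
      exact hs1 (en_injective (h0.trans (map_one _).symm))
    omega
  have hKz := hK4 z hzG hz1
  have hKs : ∀ s ∈ G, s ≠ 1 → K (en Q s) ≤ K (en Q z) := by
    intro s hs hs1
    obtain ⟨c, hc⟩ := hdim (K (en Q s) ⊓ K (en Q z)) fun u hu => ⟨hKinv s hs u hu.1, hKinv z hzG u hu.2⟩
    have h2 : finrank F ↥(K (en Q s) ⊓ K (en Q z)) ≠ 0 := by
      intro h0
      rw [Submodule.finrank_eq_zero] at h0
      have h3 : w ∈ K (en Q s) ⊓ K (en Q z) := ⟨mem_K.2 (hGw s hs), mem_K.2 (hGw z hzG)⟩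
      rw [h0] at h3
      exact hw h3
    have h3 : K (en Q s) ⊓ K (en Q z) = K (en Q s) := by
      apply Submodule.eq_of_le_of_finrank_le inf_le_left
      rw [hK4 s hs hs1]
      omega
    rw [← h3]
    exact inf_le_right
  have h5 := card_dvd_R htF hz hcomm hKs
  have h6 := finrank_add (en Q z)
  rw [show finrank F (R (en Q z)) = 4 by omega] at h5
  have hq : 1 < Nat.card F := Finite.one_lt_card
  have h7 : Nat.card F ^ 4 - 1 ≠ 0 := by
    have := Nat.one_lt_pow (n := 4) (by omega) hq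
    omega
  exact v_le_of_dvd h7 h5 dvd_rfl

/-- the stabiliser of a vector of `K y`, trivial on `R y`, `dim K y = 4` -/
theorem stab_four (hG' : Good Q) (hpar : ∀ g : ↥(E Q), Even (finrank F (R (en Q g)))) {l : ℕ} (hlF : (l : F) ≠ 0)
    (hV : finrank F V = 8) {y : ↥(E Q)} (hy : y ^ l = 1) (hRy : finrank F (R (en Q y)) = 4)
    {t : ℕ} (ht : t.Prime) (ht2 : t ≠ 2) (htF : (t : F) ≠ 0) {G : Subgroup ↥(E Q)} (hG : IsPGroup t G)
    (hGy : ∀ g ∈ G, g * y = y * g) (hGR : ∀ g ∈ G, ∀ u ∈ R (en Q y), en Q g u = u) {w : V} (hw : w ≠ 0)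
    (hwK : w ∈ K (en Q y)) (hGw : ∀ g ∈ G, en Q g w = w) :
    v t G ≤ (Nat.card F ^ 4 - 1).factorization t := by
  have hfinE : Finite ↥(E Q) := finite_E
  have hfd : FiniteDimensional F V := inferInstance
  by_cases h1 : G = ⊥
  · subst h1
    rw [v, Subgroup.card_bot, Nat.factorization_one]
    exact Nat.zero_le _
  obtain ⟨z, hzG, hz, hz1, hcomm⟩ := exists_central ht hG h1
  have hy' : en Q y ^ l = 1 := by rw [← map_pow, hy, map_one]
  have hz' : en Q z ^ t = 1 := by rw [← map_pow, hz, map_one]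
  have hKy : finrank F (K (en Q y)) = 4 := by
    have := finrank_add (en Q y)
    omega
  -- orders of the elements of `G`
  have hord : ∀ s ∈ G, ∃ k, s ^ t ^ k = 1 := fun s hs => by
    obtain ⟨k, hk⟩ := hG ⟨s, hs⟩
    exact ⟨k, congrArg Subtype.val hk⟩
  have hcast : ∀ k : ℕ, ((t ^ k : ℕ) : F) ≠ 0 := fun k => by
    rw [Nat.cast_pow]
    exact pow_ne_zero _ htF
  -- dimensions
  have hdim : ∀ s ∈ G, s ≠ 1 → finrank F (R (en Q s)) = 2 := by
    intro s hs hs1
    obtain ⟨k, hk⟩ := hord s hs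
    have hk' : en Q s ^ t ^ k = 1 := by rw [← map_pow, hk, map_one]
    have h2 : R (en Q s) ≤ K (en Q y) := R_le_K hlF hy (hGy s hs) (hGR s hs)
    have h3 : finrank F (R (en Q s)) ≠ 0 := by
      intro h0
      rw [Submodule.finrank_eq_zero, R_eq_bot] at h0
      exact hs1 (en_injective (h0.trans (map_one _).symm))
    have h4 : finrank F (R (en Q s)) ≤ 4 := by
      rw [← hKy]
      exact Submodule.finrank_mono h2
    have h5 : finrank F (R (en Q s)) ≠ 4 := by
      intro h6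
      have h7 : R (en Q s) = K (en Q y) := Submodule.eq_of_le_of_finrank_le h2 (by rw [h6, hKy])
      rw [← h7] at hwK
      exact hw (eq_zero_of_mem hk' (hcast k) (hGw s hs) hwK)
    obtain ⟨c, hc⟩ := hpar s
    omega
  have hRz := hdim z hzG hz1
  have hRzK : R (en Q z) ≤ K (en Q y) := R_le_K hlF hy (hGy z hzG) (hGR z hzG)
  -- `X = K z ∩ K y`
  set X := K (en Q z) ⊓ K (en Q y) with hX
  have hXR : ∀ u ∈ K (en Q y), ∃ a ∈ X, ∃ b ∈ R (en Q z), u = a + b := by
    intro u hu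
    obtain ⟨a, ha, b, hb, rfl⟩ := decomp hz' htF u
    refine ⟨a, ⟨ha, ?_⟩, b, hb, rfl⟩
    have h2 := Submodule.sub_mem _ hu (hRzK hb)
    rwa [add_sub_cancel_right] at h2
  have hXdim : finrank F X ≤ 2 := by
    have h2 : X ⊓ R (en Q z) = ⊥ := by
      rw [eq_bot_iff]
      intro u hu
      exact eq_zero_of_mem hz' htF (mem_K.1 hu.1.1) hu.2
    have h3 := Submodule.finrank_sup_add_finrank_inf_eq X (R (en Q z))
    rw [h2, finrank_bot, add_zero, hRz] at h3
    have h4 : finrank F ↥(X ⊔ R (en Q z)) ≤ finrank F (K (en Q y)) :=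
      Submodule.finrank_mono (sup_le inf_le_right hRzK)
    omega
  have hsX : ∀ s ∈ G, ∀ u ∈ X, en Q s u ∈ X := fun s hs u hu =>
    ⟨K_inv (by rw [← map_mul, ← map_mul, hcomm s hs]) hu.1, K_inv (by rw [← map_mul, ← map_mul, hGy s hs]) hu.2⟩
  have hwX : w ∈ X := ⟨mem_K.2 (hGw z hzG), hwK⟩
  -- the elements of `G` are trivial on `X`
  have htriv : ∀ s ∈ G, ∀ u ∈ X, en Q s u = u := by
    intro s hs u hu
    by_contra hne
    obtain ⟨k, hk⟩ := hord s hs
    have hk' : en Q s ^ t ^ k = 1 := by rw [← map_pow, hk, map_one]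
    set r := en Q s u - u with hr
    have hr0 : r ≠ 0 := sub_ne_zero.2 hne
    have hrR : r ∈ R (en Q s) := sub_mem_R _ _
    have hrX : r ∈ X := Submodule.sub_mem _ (hsX s hs u hu) hu
    have hwR : ∀ a : F, a • w ∈ R (en Q s) → a = 0 := fun a ha => by
      by_contra ha0
      have h2 : w ∈ R (en Q s) := by
        have h3 := (R (en Q s)).smul_mem a⁻¹ ha
        rwa [smul_smul, inv_mul_cancel₀ ha0, one_smul] at h3
      exact hw (eq_zero_of_mem hk' (hcast k) (hGw s hs) h2)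
    -- `X = ⟨w, r⟩`
    have hspan : ∀ x ∈ X, ∃ a b : F, x = a • w + b • r := by
      have hli : LinearIndependent F ![w, r] := by
        rw [LinearIndependent.pair_iff]
        intro a b hab
        have h2 : a • w ∈ R (en Q s) := by
          rw [eq_neg_of_add_eq_zero_left hab, ← neg_smul]
          exact Submodule.smul_mem _ _ hrR
        have h3 := hwR a h2
        rw [h3, zero_smul, zero_add] at hab
        exact ⟨h3, (smul_eq_zero.1 hab).resolve_right hr0⟩
      have h4 : Submodule.span F (Set.range ![w, r]) = X := by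
        apply Submodule.eq_of_le_of_finrank_le
        · rw [Submodule.span_le]
          rintro _ ⟨i, rfl⟩
          fin_cases i
          · exact hwX
          · exact hrX
        · rw [finrank_span_eq_card hli, Fintype.card_fin]
          exact hXdim
      intro x hx
      rw [← h4, Matrix.range_cons, Matrix.range_cons, Matrix.range_empty, Set.union_empty,
        Set.singleton_union, Submodule.mem_span_pair] at hx
      obtain ⟨a, b, hab⟩ := hx
      exact ⟨a, b, hab.symm⟩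
    obtain ⟨a, c, hac⟩ := hspan _ (hsX s hs r hrX)
    have ha : a = 0 := by
      apply hwR
      have h2 : a • w = en Q s r - c • r := by rw [hac, add_sub_cancel_right]
      rw [h2]
      exact Submodule.sub_mem _ (R_inv rfl hrR) (Submodule.smul_mem _ _ hrR)
    rw [ha, zero_smul, zero_add] at hac
    have hc1 : c ≠ 1 := by
      rintro rfl
      rw [one_smul] at hac
      exact hr0 (eq_zero_of_mem hk' (hcast k) hac hrR)
    have hQr : Q r = 0 := by
      by_contra hQr
      exact hc1 (smul_eq_one (g := s) hr0 hQr hac ht ht2 hk)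
    have hrw : polarBilin Q w r = 0 := by
      have h2 := isom_en s w r
      rw [hGw s hs, hac, map_smul, smul_eq_mul] at h2
      have h3 : (c - 1) * polarBilin Q w r = 0 := by rw [sub_mul, h2, one_mul, sub_self]
      exact (mul_eq_zero.1 h3).resolve_left (sub_ne_zero.2 hc1)
    have hrr : polarBilin Q r r = 0 := by
      rw [polarBilin_apply_apply]
      exact polar_self_of_sing hQr
    apply hr0
    apply polar_nondeg hG'
    intro x
    obtain ⟨a, ha, b, hb, rfl⟩ := decomp hy' hlF x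
    obtain ⟨a1, ha1, a2, ha2, rfl⟩ := hXR a ha
    obtain ⟨e1, e2, rfl⟩ := hspan a1 ha1
    have g1 : polarBilin Q b r = 0 := perp_RK (isom_en y) hb hrX.2
    have g2 : polarBilin Q a2 r = 0 := perp_RK (isom_en z) ha2 hrX.1
    simp only [map_add, map_smul, LinearMap.add_apply, LinearMap.smul_apply, g1, g2, hrw, hrr, smul_zero, add_zero]
  have hKs : ∀ s ∈ G, s ≠ 1 → K (en Q s) ≤ K (en Q z) := by
    intro s hs hs1
    have h2 : K (en Q z) ≤ K (en Q s) := by
      intro x hx
      obtain ⟨a, ha, b, hb, rfl⟩ := decomp hy' hlF x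
      have h3 : a ∈ K (en Q z) := by
        have h4 := Submodule.sub_mem _ hx (mem_K.2 (hGR z hzG b hb))
        rwa [add_sub_cancel_right] at h4
      rw [mem_K, map_add, hGR s hs b hb, htriv s hs a ⟨h3, ha⟩]
    have h5 : K (en Q z) = K (en Q s) := by
      apply Submodule.eq_of_le_of_finrank_le h2
      have h3 := finrank_add (en Q s)
      have h4 := finrank_add (en Q z)
      rw [hdim s hs hs1] at h3
      omega
    rw [h5]
  have h5 := card_dvd_R htF hz hcomm hKs
  rw [hRz] at h5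
  have hq : 1 < Nat.card F := Finite.one_lt_card
  have h7 : Nat.card F ^ 4 - 1 ≠ 0 := by
    have := Nat.one_lt_pow (n := 4) (by omega) hq
    omega
  refine v_le_of_dvd h7 h5 ?_
  have h8 := Nat.sub_dvd_pow_sub_pow (Nat.card F ^ 2) 1 2
  rwa [one_pow, ← pow_mul] at h8

theorem not_three_dvd_add {q : ℕ} (k : ℕ) : ¬ 3 ∣ q ^ (2 * k) + 1 := by
  intro h
  have h1 : q % 3 = 0 ∨ q % 3 = 1 ∨ q % 3 = 2 := by omega
  rw [pow_mul] at h
  have h2 : q ^ 2 % 3 = 0 ∨ q ^ 2 % 3 = 1 := by
    rcases h1 with h1 | h1 | h1 <;> simp [Nat.pow_mod, h1]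
  rw [Nat.dvd_iff_mod_eq_zero, Nat.add_mod, Nat.pow_mod] at h
  rcases h2 with h2 | h2
  · rw [h2] at h
    rcases k with _ | k
    · simp at h
    · simp at h
  · rw [h2] at h
    simp at h

/-- **The `3`-part of `C(y)`.** -/
theorem v_three_cent_aux (H : Plus Q 4 p f) (hp3 : p ≠ 3) {l : ℕ} (hl : l.Prime) (hl2 : l ≠ 2) (hlp : (l : F) ≠ 0)
    (hd : Ordd l (Nat.card F) 4) {y : ↥(E Q)} (hy : y ^ l = 1)
    (hy1 : y ≠ 1) : v 3 (Subgroup.centralizer ({y} : Set ↥(E Q))) ≤ 2 * (Nat.card F ^ 4 - 1).factorization 3 := by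
  have hfinE : Finite ↥(E Q) := finite_E
  have hfd : FiniteDimensional F V := inferInstance
  have hlF := Fact.mk hl
  have h3F := Fact.mk Nat.prime_three
  have hV : finrank F V = 8 := by rw [H.hV]
  have hy' : en Q y ^ l = 1 := by rw [← map_pow, hy, map_one]
  have h3c : ((3 : ℕ) : F) ≠ 0 := by
    have hc : CharP F p := (CharP.charP_iff_prime_eq_zero H.prime).2 H.hpF
    exact natCast_ne_of_not_dvd H.prime fun h => hp3 ((Nat.prime_dvd_prime_iff_eq Nat.prime_three H.prime).1 h).symm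
  have hq : 1 < Nat.card F := Finite.one_lt_card
  have h7 : Nat.card F ^ 4 - 1 ≠ 0 := by
    have := Nat.one_lt_pow (n := 4) (by omega) hq
    omega
  obtain ⟨c, hc⟩ := dvd_finrank_R hd hlp hy'
  have h1 : finrank F (R (en Q y)) ≠ 0 := by
    intro h0
    rw [Submodule.finrank_eq_zero, R_eq_bot] at h0
    exact hy1 (en_injective (h0.trans (map_one _).symm))
  have h2 := finrank_add (en Q y)
  have h3 : finrank F (R (en Q y)) = 4 ∨ finrank F (R (en Q y)) = 8 := by omega
  rcases h3 with h3 | h3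
  · have hirr : Irr (en Q y) (R (en Q y)) :=
      irr_of_lt hd hlp hy' le_rfl (fun w hw => R_inv rfl hw) (by rw [h3]; norm_num)
    obtain ⟨L, hL, hLi⟩ := Cfsg.Agent.H311.PD.exists_kernel H.good hl2 hlp hy hy1 hirr (m := 2) h3
    have h4 := v_le_of_index (show Nat.card F ^ 2 + 1 ≠ 0 from Nat.succ_ne_zero _) hLi 3
    have h5 : (Nat.card F ^ 2 + 1).factorization 3 = 0 :=
      Nat.factorization_eq_zero_of_not_dvd (not_three_dvd_add 1)
    obtain ⟨T, hTL, hTp, hTv⟩ := Cfsg.Agent.H311.PD.exists_psub (p := 3) L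
    set G := T.map (Subgroup.centralizer ({y} : Set ↥(E Q))).subtype with hGdef
    have hG : IsPGroup 3 G := hTp.map _
    have hGv : v 3 G = v 3 T := by
      simp only [v]
      rw [(Nat.card_congr (T.equivMapOfInjective _ (Subgroup.subtype_injective _)).toEquiv).symm]
    have hGy : ∀ g ∈ G, g * y = y * g := by
      rintro _ ⟨g, -, rfl⟩
      exact Subgroup.mem_centralizer_singleton_iff.1 g.2
    have hGR : ∀ g ∈ G, ∀ u ∈ R (en Q y), en Q g u = u := by
      rintro _ ⟨g, hg, rfl⟩ u hu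
      exact (hL g).1 (hTL hg) u hu
    obtain ⟨w, hwK, hw0, G', hG', hv⟩ := exists_small Nat.prime_three hG (W := K (en Q y))
      (fun g hg w hw => K_inv (by rw [← map_mul, ← map_mul, hGy g hg]) hw) (by omega)
      (show (Nat.card F ^ finrank F (K (en Q y)) - 1).factorization 3 ≤ (Nat.card F ^ 4 - 1).factorization 3 by
        rw [show finrank F (K (en Q y)) = 4 by omega])
    have hG'G : G' ≤ G := fun g hg => ((hG' g).1 hg).1
    have h6 := stab_four H.good H.hpar hlp hV hy h3 Nat.prime_three (by norm_num) h3c (hG.to_le hG'G)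
      (fun g hg => hGy g (hG'G hg)) (fun g hg => hGR g (hG'G hg)) hw0 hwK (fun g hg => ((hG' g).1 hg).2)
    omega
  · obtain ⟨T, hTC, hTp, hTv⟩ := Cfsg.Agent.H311.PD.exists_psub (p := 3) (Subgroup.centralizer ({y} : Set ↥(E Q)))
    have hGy : ∀ g ∈ T, g * y = y * g := fun g hg => Subgroup.mem_centralizer_singleton_iff.1 (hTC hg)
    have h8 : (Nat.card F ^ 8 - 1).factorization 3 = (Nat.card F ^ 4 - 1).factorization 3 := by
      have h9 : Nat.card F ^ 8 - 1 = (Nat.card F ^ 4 + 1) * (Nat.card F ^ 4 - 1) := by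
        rw [show 8 = 4 * 2 from rfl, pow_mul]
        exact Nat.sq_sub_sq (Nat.card F ^ 4) 1
      rw [h9, Nat.factorization_mul (Nat.succ_ne_zero _) h7, Finsupp.add_apply,
        Nat.factorization_eq_zero_of_not_dvd (not_three_dvd_add 2), zero_add]
    obtain ⟨w, -, hw0, G', hG', hv⟩ := exists_small Nat.prime_three hTp (W := ⊤)
      (fun _ _ _ _ => Submodule.mem_top) (by rw [finrank_top]; omega)
      (show (Nat.card F ^ finrank F (⊤ : Submodule F V) - 1).factorization 3 ≤ (Nat.card F ^ 4 - 1).factorization 3 by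
        rw [finrank_top, hV, h8])
    have hG'G : G' ≤ T := fun g hg => ((hG' g).1 hg).1
    have h6 := stab_eight hlp hd hV hy h3 Nat.prime_three h3c (hTp.to_le hG'G)
      (fun g hg => hGy g (hG'G hg)) hw0 (fun g hg => ((hG' g).1 hg).2)
    omega

/-- **The `3`-part of `C(y)`.** -/
theorem v_three_cent (H : Plus Q 4 p f) (hp3 : p ≠ 3) {l : ℕ} (hl : l.Prime) (hl2 : l ≠ 2)
    (hd : Ordd l (Nat.card F) 4) (hld : l ∣ Nat.card F ^ 4 - 1) {y : ↥(E Q)} (hy : y ^ l = 1) (hy1 : y ≠ 1) :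
    v 3 (Subgroup.centralizer ({y} : Set ↥(E Q))) ≤ 2 * (Nat.card F ^ 4 - 1).factorization 3 := by
  refine v_three_cent_aux H hp3 hl hl2 ?_ hd hy hy1
  have := Fact.mk hl
  have hc : CharP F p := (CharP.charP_iff_prime_eq_zero H.prime).2 H.hpF
  refine natCast_ne_of_not_dvd H.prime fun h => ?_
  have h1 := (Nat.prime_dvd_prime_iff_eq hl H.prime).1 h
  subst h1
  rw [H.hF] at hld
  exact Cfsg.Agent.H311.PD.not_dvd_pow_sub_one H.prime H.hf (by norm_num) hld

end Cfsg.Agent.H898.PDThree
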