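import Cfsg.Agent.H200.LinFixE
import Cfsg.Agent.ClassicalGeometry.TwoFamilies

/-!
# S4246, orthogonal groups: `p`-groups of isometries (helper898)

* `NS B` : `B` symmetric and nondegenerate;
* `card_le` : a `p`-group acting faithfully by isometries on a nondegenerate symmetric space of dimension `N` over a
  field with `q` elements of characteristic `p` odd has order at most `q ^ ((N - 1) ^ 2 / 4)`.
-/

set_option autoImplicit false
set_option linter.unusedSectionVars false

namespace Cfsg.Agent.H898.PDLin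

open Module Cfsg.Agent.H200.LinFix

universe v w

variable {F : Type*} [Field F]

/-- symmetric and nondegenerate -/
structure NS {V : Type*} [AddCommGroup V] [Module F V] (B : LinearMap.BilinForm F V) : Prop where
  symm : ∀ u v, B u v = B v u
  nd : ∀ v, (∀ u, B u v = 0) → v = 0

section basic

variable {V : Type*} [AddCommGroup V] [Module F V] {B : LinearMap.BilinForm F V}

theorem NS.partner (hB : NS B) (h2 : (2 : F) ≠ 0) {u : V} (hu : u ≠ 0) (huu : B u u = 0) :
    ∃ v, B u v = 1 ∧ B v v = 0 := by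
  obtain ⟨w, hw⟩ : ∃ w, B w u ≠ 0 := by
    by_contra h
    push Not at h
    exact hu (hB.nd u h)
  have hw' : B u w ≠ 0 := by rw [hB.symm]; exact hw
  obtain ⟨w', h1⟩ : ∃ w', B u w' = 1 := ⟨(B u w)⁻¹ • w, by rw [map_smul, smul_eq_mul, inv_mul_cancel₀ hw']⟩
  have h1' : B w' u = 1 := by rw [hB.symm]; exact h1
  refine ⟨w' - (B w' w' / 2) • u, ?_, ?_⟩
  · rw [map_sub, map_smul, huu, h1, smul_zero, sub_zero]
  · simp only [map_sub, map_smul, LinearMap.sub_apply, LinearMap.smul_apply, h1, h1', huu, smul_eq_mul]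
    field_simp
    ring

/-- restriction of a representation to an invariant subspace -/
def res {P : Type*} [Group P] (ρ : P →* Module.End F V) (W : Submodule F V) (hW : ∀ g, ∀ w ∈ W, ρ g w ∈ W) :
    P →* Module.End F W where
  toFun g := (ρ g).restrict (hW g)
  map_one' := by
    ext w
    rw [LinearMap.coe_restrict_apply, map_one]
    rfl
  map_mul' g h := by
    ext w
    rw [LinearMap.coe_restrict_apply, map_mul]
    rfl

theorem res_apply {P : Type*} [Group P] (ρ : P →* Module.End F V) (W : Submodule F V) (hW : ∀ g, ∀ w ∈ W, ρ g w ∈ W)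
    (g : P) (w : W) : ((res ρ W hW g w : W) : V) = ρ g w := rfl

theorem mem_ker_res {P : Type*} [Group P] {ρ : P →* Module.End F V} {W : Submodule F V}
    {hW : ∀ g, ∀ w ∈ W, ρ g w ∈ W} {g : P} : g ∈ (res ρ W hW).ker ↔ ∀ w ∈ W, ρ g w = w := by
  rw [MonoidHom.mem_ker]
  constructor
  · intro h w hw
    have h1 := congrArg Subtype.val (LinearMap.congr_fun h ⟨w, hw⟩)
    exact h1
  · intro h
    ext w
    exact h w w.2

theorem iso_res {P : Type*} [Group P] {ρ : P →* Module.End F V} {W : Submodule F V}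
    {hW : ∀ g, ∀ w ∈ W, ρ g w ∈ W} {g : P} (hg : Isom B (ρ g)) : Isom (B.restrict W) (res ρ W hW g) :=
  fun u v => hg u v

/-- **A `p`-group fixes a nonzero vector.** -/
theorem exists_fixed {P : Type*} [Group P] [Finite P] {p : ℕ} [hp : Fact p.Prime] (hP : IsPGroup p P)
    (ρ : P →* Module.End F V) (hpF : (p : F) = 0) [Finite V] [Nontrivial V] : ∃ u : V, u ≠ 0 ∧ ∀ g, ρ g u = u := by
  let _ : MulAction P V := MulAction.compHom V ρ
  have hsm : ∀ (g : P) (v : V), g • v = ρ g v := fun _ _ => rfl
  have hd : p ∣ Nat.card V := by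
    obtain ⟨x, hx⟩ := exists_ne (0 : V)
    have h1 : addOrderOf x = p := by
      apply addOrderOf_eq_prime
      · rw [← Nat.cast_smul_eq_nsmul F, hpF, zero_smul]
      · exact hx
    rw [← h1]
    exact addOrderOf_dvd_natCard x
  obtain ⟨b, hb, hb0⟩ := hP.exists_fixed_point_of_prime_dvd_card_of_fixed_point V hd (a := 0)
    (fun g => by rw [hsm, map_zero])
  exact ⟨b, hb0.symm, fun g => hb g⟩

/-- a subspace on which a `p`-group has no fixed vectors is zero -/
theorem eq_bot_of_fixed {P : Type*} [Group P] [Finite P] {p : ℕ} [hp : Fact p.Prime] (hP : IsPGroup p P)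
    (ρ : P →* Module.End F V) (hpF : (p : F) = 0) [Finite V] {W : Submodule F V} (hW : ∀ g, ∀ w ∈ W, ρ g w ∈ W)
    (h : ∀ w ∈ W, (∀ g, ρ g w = w) → w = 0) : W = ⊥ := by
  by_contra hne
  have hn : Nontrivial W := Submodule.nontrivial_iff_ne_bot.2 hne
  obtain ⟨u, hu, hfix⟩ := exists_fixed hP (res ρ W hW) hpF
  exact hu (Subtype.ext (h u u.2 fun g => congrArg Subtype.val (hfix g)))

/-! ### the orthogonal complement of a hyperbolic pair -/

/-- `{u, v}^⊥` -/
def W2 (B : LinearMap.BilinForm F V) (u v : V) : Submodule F V := LinearMap.ker ((B u).prod (B v))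

theorem mem_W2 {u v w : V} : w ∈ W2 B u v ↔ B u w = 0 ∧ B v w = 0 := by
  rw [W2, LinearMap.mem_ker, LinearMap.prod_apply]
  exact Prod.mk_eq_zero

variable {u v : V}

/-- decomposition along a hyperbolic pair -/
theorem decomp2 (hB : NS B) (huu : B u u = 0) (huv : B u v = 1) (hvv : B v v = 0) (x : V) :
    x - B v x • u - B u x • v ∈ W2 B u v := by
  have hvu : B v u = 1 := by rw [hB.symm]; exact huv
  rw [mem_W2]
  constructor
  · rw [map_sub, map_sub, map_smul, map_smul, huu, huv, smul_zero, sub_zero, smul_eq_mul, mul_one, sub_self]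
  · rw [map_sub, map_sub, map_smul, map_smul, hvu, hvv, smul_zero, sub_zero, smul_eq_mul, mul_one, sub_self]

theorem nsW2 (hB : NS B) (huu : B u u = 0) (huv : B u v = 1) (hvv : B v v = 0) : NS (B.restrict (W2 B u v)) := by
  refine ⟨fun a b => hB.symm a b, ?_⟩
  rintro ⟨x, hx⟩ h
  apply Subtype.ext
  apply hB.nd
  intro y
  have h1 := h ⟨_, decomp2 hB huu huv hvv y⟩
  change B (y - B v y • u - B u y • v) x = 0 at h1
  rw [mem_W2] at hx
  rw [map_sub, map_sub, map_smul, map_smul, LinearMap.sub_apply, LinearMap.sub_apply, LinearMap.smul_apply,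
    LinearMap.smul_apply, hx.1, hx.2, smul_zero, smul_zero, sub_zero, sub_zero] at h1
  exact h1

theorem finrank_W2 [FiniteDimensional F V] (hB : NS B) (huu : B u u = 0) (huv : B u v = 1) (hvv : B v v = 0) :
    finrank F (W2 B u v) + 2 = finrank F V := by
  have hvu : B v u = 1 := by rw [hB.symm]; exact huv
  have h1 := LinearMap.finrank_range_add_finrank_ker ((B u).prod (B v))
  have h2 : LinearMap.range ((B u).prod (B v)) = ⊤ := by
    rw [LinearMap.range_eq_top]
    rintro ⟨a, b⟩
    refine ⟨b • u + a • v, ?_⟩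
    rw [LinearMap.prod_apply]
    simp [huu, huv, hvu, hvv]
  rw [h2, finrank_top, finrank_prod, finrank_self] at h1
  rw [W2]
  omega

/-! ### the transfer to `{u, v}^⊥` of the isometries fixing `u` -/

/-- the endomorphism `w ↦ g w - B(v, g w) u` -/
def tr1 (B : LinearMap.BilinForm F V) (u v : V) (g : Module.End F V) : Module.End F V :=
  g - ((B v).comp g).smulRight u

theorem tr1_apply (g : Module.End F V) (w : V) : tr1 B u v g w = g w - B v (g w) • u := rfl

theorem tr1_mem (hB : NS B) (huu : B u u = 0) (huv : B u v = 1) {g : Module.End F V} (hg : Isom B g) (hgu : g u = u)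
    {w : V} (hw : w ∈ W2 B u v) : tr1 B u v g w ∈ W2 B u v := by
  have hvu : B v u = 1 := by rw [hB.symm]; exact huv
  rw [mem_W2] at hw ⊢
  rw [tr1_apply]
  constructor
  · have h1 := hg u w
    rw [hgu, hw.1] at h1
    rw [map_sub, map_smul, h1, huu, smul_zero, sub_zero]
  · rw [map_sub, map_smul, hvu, smul_eq_mul, mul_one, sub_self]

/-- the representation on `{u, v}^⊥` -/
def tr2 {P : Type*} [Group P] (hB : NS B) (huu : B u u = 0) (huv : B u v = 1) (ρ : P →* Module.End F V)
    (hiso : ∀ g, Isom B (ρ g)) (hfix : ∀ g, ρ g u = u) : P →* Module.End F (W2 B u v) where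
  toFun g := (tr1 B u v (ρ g)).restrict fun _ hw => tr1_mem hB huu huv (hiso g) (hfix g) hw
  map_one' := by
    ext w
    rw [LinearMap.coe_restrict_apply, tr1_apply, map_one, Module.End.one_apply, (mem_W2.1 w.2).2, zero_smul, sub_zero]
    rfl
  map_mul' g h := by
    ext w
    rw [Module.End.mul_apply, LinearMap.coe_restrict_apply, LinearMap.coe_restrict_apply, LinearMap.coe_restrict_apply,
      tr1_apply, tr1_apply, tr1_apply, map_mul, Module.End.mul_apply, map_sub, map_smul, hfix, map_sub, map_smul,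
      smul_eq_mul, (show B v u = 1 by rw [hB.symm]; exact huv), mul_one, sub_smul]
    abel

theorem tr2_apply {P : Type*} [Group P] (hB : NS B) (huu : B u u = 0) (huv : B u v = 1) (ρ : P →* Module.End F V)
    (hiso : ∀ g, Isom B (ρ g)) (hfix : ∀ g, ρ g u = u) (g : P) (w : W2 B u v) :
    ((tr2 hB huu huv ρ hiso hfix g w : W2 B u v) : V) = ρ g w - B v (ρ g w) • u := rfl

theorem iso_tr2 {P : Type*} [Group P] (hB : NS B) (huu : B u u = 0) (huv : B u v = 1) (ρ : P →* Module.End F V)
    (hiso : ∀ g, Isom B (ρ g)) (hfix : ∀ g, ρ g u = u) (g : P) :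
    Isom (B.restrict (W2 B u v)) (tr2 hB huu huv ρ hiso hfix g) := by
  intro a b
  change B (ρ g a - B v (ρ g a) • u) (ρ g b - B v (ρ g b) • u) = B a b
  have h1 : B u (ρ g b) = 0 := by
    have h := hiso g u b
    rw [hfix, (mem_W2.1 b.2).1] at h
    exact h
  have h2 : B (ρ g a) u = 0 := by
    have h := hiso g a u
    rw [hfix, hB.symm a, (mem_W2.1 a.2).1] at h
    exact h
  rw [map_sub, map_smul, map_sub, map_smul, LinearMap.sub_apply, LinearMap.sub_apply, LinearMap.smul_apply,
    LinearMap.smul_apply, h1, h2, huu, hiso g a b]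
  simp

/-- **The kernel of the action on `u^⊥ / u`** injects into `{u, v}^⊥`. -/
theorem card_ker_tr2 {P : Type*} [Group P] [Finite V] (h2 : (2 : F) ≠ 0) (hB : NS B) (huu : B u u = 0) (huv : B u v = 1)
    (hvv : B v v = 0) (ρ : P →* Module.End F V) (hρ : Function.Injective ρ)
    (hiso : ∀ g, Isom B (ρ g)) (hfix : ∀ g, ρ g u = u) :
    Nat.card (tr2 hB huu huv ρ hiso hfix).ker ≤ Nat.card (W2 B u v) := by
  have hvu : B v u = 1 := by rw [hB.symm]; exact huv
  -- the value at `v`
  have huv' : ∀ g, B u (ρ g v) = 1 := fun g => by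
    have h := hiso g u v
    rwa [hfix, huv] at h
  let κ : (tr2 hB huu huv ρ hiso hfix).ker → W2 B u v := fun g =>
    ⟨ρ g v - B v (ρ g v) • u - B u (ρ g v) • v, decomp2 hB huu huv hvv _⟩
  apply Nat.card_le_card_of_injective κ
  intro g h hgh
  apply Subtype.ext
  apply hρ
  have hκ : ρ g v - B v (ρ g v) • u = ρ h v - B v (ρ h v) • u := by
    have h1 := congrArg Subtype.val hgh
    change ρ g v - B v (ρ g v) • u - B u (ρ g v) • v = ρ h v - B v (ρ h v) • u - B u (ρ h v) • v at h1
    rw [huv', huv'] at h1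
    exact sub_left_inj.1 h1
  -- the coefficient of `u` is determined
  have hform : ∀ k : P, ρ k v = (ρ k v - B v (ρ k v) • u - v) + B v (ρ k v) • u + v := fun k => by abel
  have hc : ∀ k : P, 2 * B v (ρ k v) = - B (ρ k v - B v (ρ k v) • u - v) (ρ k v - B v (ρ k v) • u - v) := by
    intro k
    have h1 : B (ρ k v) (ρ k v) = 0 := by rw [hiso k, hvv]
    have h3 := decomp2 hB huu huv hvv (ρ k v)
    rw [huv', one_smul] at h3
    set w := ρ k v - B v (ρ k v) • u - v with hw
    rw [mem_W2] at h3
    set c := B v (ρ k v) with hcdef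
    have h4 : ρ k v = w + c • u + v := by rw [hw]; abel
    have h5 : B w u = 0 := by rw [hB.symm]; exact h3.1
    have h6 : B w v = 0 := by rw [hB.symm]; exact h3.2
    rw [h4] at h1
    simp only [map_add, map_smul, LinearMap.add_apply, LinearMap.smul_apply, h5, h6, h3.1, h3.2, huu, huv, hvu, hvv,
      smul_eq_mul] at h1
    linear_combination h1
  have hcc : B v (ρ g v) = B v (ρ h v) := by
    have h1 := hc g
    rw [hκ, ← hc h] at h1
    exact mul_left_cancel₀ h2 h1
  have hv : ρ g v = ρ h v := by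
    rw [hcc] at hκ
    exact sub_left_inj.1 hκ
  -- the action on `W2`
  have hW : ∀ k ∈ (tr2 hB huu huv ρ hiso hfix).ker, ∀ w ∈ W2 B u v, ρ k w = w + B v (ρ k w) • u := by
    intro k hk w hw
    have h1 := congrArg Subtype.val (LinearMap.congr_fun (MonoidHom.mem_ker.1 hk) ⟨w, hw⟩)
    rw [tr2_apply] at h1
    change ρ k w - B v (ρ k w) • u = w at h1
    rw [← sub_eq_iff_eq_add]
    exact h1
  have hW' : ∀ k ∈ (tr2 hB huu huv ρ hiso hfix).ker, ∀ w ∈ W2 B u v, B v (ρ k w) = - B w (ρ k v) := by
    intro k hk w hw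
    have h1 := hiso k w v
    rw [hB.symm w v, (mem_W2.1 hw).2, hW k hk w hw, map_add, map_smul, LinearMap.add_apply, LinearMap.smul_apply, huv',
      smul_eq_mul, mul_one] at h1
    linear_combination h1
  refine LinearMap.ext fun x => ?_
  have h3 := decomp2 hB huu huv hvv x
  set w := x - B v x • u - B u x • v with hw
  have h4 : x = w + B v x • u + B u x • v := by rw [hw]; abel
  rw [h4]
  simp only [map_add, map_smul, hfix, hv]
  rw [hW g g.2 w h3, hW h h.2 w h3, hW' g g.2 w h3, hW' h h.2 w h3, hv]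

/-! ### the complement of a nonsingular vector -/

theorem finrank_ker1 [FiniteDimensional F V] {u : V} (huu : B u u ≠ 0) :
    finrank F (LinearMap.ker (B u)) + 1 = finrank F V := by
  have h1 := LinearMap.finrank_range_add_finrank_ker (B u)
  have h2 : LinearMap.range (B u) = ⊤ := by
    rw [LinearMap.range_eq_top]
    intro a
    refine ⟨(a / B u u) • u, ?_⟩
    rw [map_smul, smul_eq_mul, div_mul_cancel₀ _ huu]
  rw [h2, finrank_top, finrank_self] at h1
  omega

theorem decomp1 {u : V} (huu : B u u ≠ 0) (x : V) : x - (B u x / B u u) • u ∈ LinearMap.ker (B u) := by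
  rw [LinearMap.mem_ker, map_sub, map_smul, smul_eq_mul, div_mul_cancel₀ _ huu, sub_self]

theorem ns_ker1 (hB : NS B) {u : V} (huu : B u u ≠ 0) : NS (B.restrict (LinearMap.ker (B u))) := by
  refine ⟨fun a b => hB.symm a b, ?_⟩
  rintro ⟨x, hx⟩ h
  apply Subtype.ext
  apply hB.nd
  intro y
  have h1 := h ⟨_, decomp1 huu y⟩
  change B (y - (B u y / B u u) • u) x = 0 at h1
  rw [LinearMap.mem_ker] at hx
  rw [map_sub, map_smul, LinearMap.sub_apply, LinearMap.smul_apply, hx, smul_zero, sub_zero] at h1
  exact h1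

end basic

theorem arith0 (N : ℕ) : N + (N + 2 - 3) ^ 2 / 4 ≤ (N + 2 - 1) ^ 2 / 4 := by
  rcases N with _ | N
  · norm_num
  · have h1 : N + 1 + 2 - 3 = N := by omega
    have h2 : N + 1 + 2 - 1 = N + 2 := by omega
    rw [h1, h2]
    have h3 : (N + 2) ^ 2 = N ^ 2 + (N + 1) * 4 := by ring
    rw [h3, Nat.add_mul_div_right _ _ (by norm_num)]
    omega

/-- **`p`-groups of isometries.** -/
theorem card_le [Finite F] (h2 : (2 : F) ≠ 0) {p : ℕ} [hp : Fact p.Prime] (hpF : (p : F) = 0) :
    ∀ (N : ℕ) {V : Type v} [AddCommGroup V] [Module F V] [Finite V] (B : LinearMap.BilinForm F V) (_ : NS B)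
      (_ : finrank F V ≤ N) {P : Type w} [Group P] [Finite P] (_ : IsPGroup p P) (ρ : P →* Module.End F V)
      (_ : Function.Injective ρ) (_ : ∀ g, Isom B (ρ g)), Nat.card P ≤ Nat.card F ^ ((N - 1) ^ 2 / 4) := by
  intro N
  induction N using Nat.strong_induction_on with
  | _ N ih =>
    intro V _ _ _ B hB hN P _ _ hP ρ hρ hiso
    have hfd : FiniteDimensional F V := inferInstance
    have hq : 1 ≤ Nat.card F := Nat.card_pos
    rcases subsingleton_or_nontrivial V with hV | hV
    · have h1 : Nat.card P = 1 := by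
        rw [Nat.card_eq_one_iff_unique]
        refine ⟨⟨fun a b => hρ ?_⟩, ⟨1⟩⟩
        ext x
        exact Subsingleton.elim _ _
      rw [h1]
      exact Nat.one_le_pow _ _ hq
    · obtain ⟨u, hu, hfix⟩ := exists_fixed hP ρ hpF
      by_cases huu : B u u = 0
      · obtain ⟨v, huv, hvv⟩ := hB.partner h2 hu huu
        have hf := finrank_W2 hB huu huv hvv
        set τ := tr2 hB huu huv ρ hiso hfix with hτ
        have hk := card_ker_tr2 h2 hB huu huv hvv ρ hρ hiso hfix
        rw [Module.natCard_eq_pow_finrank (K := F) (V := W2 B u v)] at hk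
        have h3 : Nat.card (P ⧸ τ.ker) ≤ Nat.card F ^ ((N - 2 - 1) ^ 2 / 4) := by
          refine ih (N - 2) (by omega) (B.restrict (W2 B u v)) (nsW2 hB huu huv hvv) (by omega)
            (hP.to_quotient _) (QuotientGroup.lift τ.ker τ le_rfl) ?_ ?_
          · intro a b hab
            obtain ⟨a, rfl⟩ := QuotientGroup.mk_surjective a
            obtain ⟨b, rfl⟩ := QuotientGroup.mk_surjective b
            rw [QuotientGroup.lift_mk', QuotientGroup.lift_mk'] at hab
            rw [QuotientGroup.eq, MonoidHom.mem_ker, map_mul, ← hab, ← map_mul, inv_mul_cancel, map_one]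
          · intro a
            obtain ⟨a, rfl⟩ := QuotientGroup.mk_surjective a
            rw [QuotientGroup.lift_mk']
            exact iso_tr2 hB huu huv ρ hiso hfix a
        have h4 : finrank F (W2 B u v) ≤ N - 2 := by omega
        obtain ⟨M, rfl⟩ := Nat.exists_eq_add_of_le' (show 2 ≤ N by omega)
        calc Nat.card P = Nat.card (P ⧸ τ.ker) * Nat.card τ.ker := Subgroup.card_eq_card_quotient_mul_card_subgroup _
          _ ≤ Nat.card F ^ ((M + 2 - 2 - 1) ^ 2 / 4) * Nat.card F ^ finrank F (W2 B u v) := Nat.mul_le_mul h3 hk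
          _ = Nat.card F ^ ((M + 2 - 2 - 1) ^ 2 / 4 + finrank F (W2 B u v)) := (pow_add _ _ _).symm
          _ ≤ Nat.card F ^ ((M + 2 - 1) ^ 2 / 4) := by
            apply Nat.pow_le_pow_right hq
            have h5 := arith0 M
            have h6 : M + 2 - 3 = M + 2 - 2 - 1 := by omega
            rw [h6] at h5
            omega
      · have hf := finrank_ker1 huu
        have hW : ∀ g, ∀ w ∈ LinearMap.ker (B u), ρ g w ∈ LinearMap.ker (B u) := by
          intro g w hw
          rw [LinearMap.mem_ker] at hw ⊢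
          have h := hiso g u w
          rwa [hfix, hw] at h
        have h3 : Nat.card P ≤ Nat.card F ^ ((N - 1 - 1) ^ 2 / 4) := by
          refine ih (N - 1) (by omega) (B.restrict (LinearMap.ker (B u))) (ns_ker1 hB huu) (by omega) hP
            (res ρ _ hW) ?_ (fun g => iso_res (hiso g))
          rw [← MonoidHom.ker_eq_bot_iff, eq_bot_iff]
          intro g hg
          rw [mem_ker_res] at hg
          rw [Subgroup.mem_bot]
          apply hρ
          rw [map_one]
          refine LinearMap.ext fun x => ?_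
          have h4 := hg _ (decomp1 huu x)
          rw [map_sub, map_smul, hfix] at h4
          exact sub_left_inj.1 h4
        refine h3.trans (Nat.pow_le_pow_right hq ?_)
        apply Nat.div_le_div_right
        exact Nat.pow_le_pow_left (by omega) 2

end Cfsg.Agent.H898.PDLin
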