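import Cfsg.Agent.H898.PDOddB
import Cfsg.Agent.H200.RowOrthF
import Cfsg.Agent.S0816
import Cfsg.Agent.S0292

/-!
# S4246, row `POmega_{2n+1}(q)` (helper898)

`row_oodd` : the row of the groups `POmega_{2n+1}(q)`, `q` odd, `n ≥ 3`.
-/

set_option autoImplicit false
set_option linter.unusedSectionVars false

namespace Cfsg.Agent.H898.PDOdd

open QuadraticMap Module Subgroup Cfsg.Agent.LieClassical.OrthCore Cfsg.Agent.LieClassical.OrthTrans
open Cfsg.Agent.ClassicalGeometry.OrthSemi Cfsg.Agent.ClassicalGeometry.OrthAut1 Cfsg.Agent.AutOrth.Main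
open Cfsg.Agent.H200.LinFix Cfsg.Agent.H200.RowOrth Cfsg.Agent.H311.PD Cfsg.Agent.H898.PDLin
open Cfsg.Agent.LieClassical.QuadForms Cfsg.Agent.H208.Dict
open Cfsg.Agent.H160.PD (v v_mono v_eq_zero v_pos Fx mem_Fx out Good Two NoOdd Inc noOdd_of_uniq odd_bound_of_uniq)

theorem three_pow (a : ℕ) : 2 * a + 1 ≤ 3 ^ a := by
  induction a with
  | zero => norm_num
  | succ a ih => rw [pow_succ]; omega

/-- `v_p(k) ≤ (k - 1) / 2` for `p ≥ 3` -/
theorem fac_half {p k : ℕ} (hp : p.Prime) (hp2 : p ≠ 2) (hk : k ≠ 0) : 2 * k.factorization p + 1 ≤ k := by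
  have h1 : p ^ k.factorization p ≤ k := Nat.le_of_dvd (Nat.pos_of_ne_zero hk) (Nat.ordProj_dvd k p)
  have h2 : 3 ≤ p := by have := hp.two_le; omega
  have h3 : 3 ^ k.factorization p ≤ p ^ k.factorization p := Nat.pow_le_pow_left h2 _
  have h4 := three_pow (k.factorization p)
  omega

theorem fac_two_mul {p k : ℕ} (hp : p.Prime) (hp2 : p ≠ 2) (hk : k ≠ 0) :
    (2 * k).factorization p = k.factorization p := by
  rw [Nat.factorization_mul two_ne_zero hk, Finsupp.add_apply, Nat.factorization_eq_zero_of_not_dvd fun h =>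
    hp2 ((Nat.prime_dvd_prime_iff_eq hp Nat.prime_two).1 h), zero_add]

section abs

variable {F V : Type*} [Field F] [AddCommGroup V] [Module F V] {Q : QuadraticForm F V} [Finite V]
  {p f n : ℕ} [hp : Fact p.Prime]

/-- **The criterion.** -/
theorem DatO.two (D : DatO Q p f n) {r s : ℕ} (hr : Prm F p f (2 * n) r) (hs : Prm F p f (2 * (n - 1)) s) :
    Two (P Q) p r s 0 f f ((2 * n).factorization p) (f * (2 * n - 1) + (f + (2 * (n - 1)).factorization p)) := by
  have hfinE : Finite ↥(E Q) := finite_E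
  have hfinF : Finite F := finite_F D.good
  have hn := D.hn
  have hf := D.hf
  have hV := D.dim
  have hrF := Fact.mk hr.prime
  have hsF := Fact.mk hs.prime
  have hvS := D.v_char
  have hout : (H160.PD.out (P Q)).factorization p = f.factorization p := D.out_odd hp.out D.p2
  have hff := fac_half hp.out D.p2 (k := f) (by omega)
  have e1 : (2 * n).factorization p = n.factorization p := fac_two_mul hp.out D.p2 (by omega)
  have e2 : (2 * (n - 1)).factorization p = (n - 1).factorization p := fac_two_mul hp.out D.p2 (by omega)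
  have h1 := fac_half hp.out D.p2 (k := n) (by omega)
  have h2 := fac_half hp.out D.p2 (k := n - 1) (by omega)
  obtain ⟨m, rfl⟩ := Nat.exists_eq_add_of_le' hn
  have a1 : f * (m + 3) ^ 2 = f * ((m + 3) * (m + 3 - 1)) + f * m + 3 * f := by
    rw [show m + 3 - 1 = m + 2 by omega]
    ring
  have a2 : f * (m + 3) ^ 2 = f * (2 * (m + 3) - 1) + f + (f * m * m + 3 * (f * m) + f * m + 3 * f) := by
    rw [show 2 * (m + 3) - 1 = 2 * m + 5 by omega]
    ring
  have a3 : m ≤ f * m := Nat.le_mul_of_pos_left _ hf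
  refine
    { prime := hp.out
      good₀ := ⟨hr.prime, hr.two, D.good_first hr.prime hr.two (hr.ne_char D.char) (D.dvd_first hr)⟩
      good₁ := ⟨hs.prime, hs.two, D.good_second hs.prime hs.two (hs.ne_char D.char) (D.dvd_second hs)⟩
      cent₀ := fun x hx => ?_
      cent₁ := fun x hx => ?_
      noOdd := D.noOdd hr hs
      inc := D.inc hr hs
      syl₀ := fun b hb hb2 hbp x hx hbx => ?_
      syl₁ := fun b hb hb2 hbp x hx hbx => ?_
      cc := ?_
      num := fun t ht ht2 htp htS htr hts => ?_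
      odd₀ := fun hp2 => D.odd_first hr
      odd₁ := fun hp2 => D.odd_second hs
      n₀ := fun hp2 => ?_
      n₁ := fun hp2 => ?_
      n₀₁ := fun hp2 => ?_ }
  · obtain ⟨y, hy, hy1, rfl⟩ := exists_lift_ord D.good hr.prime hr.two hx
    exact (v_centralizer_mk D.good (hr.prime.odd_of_ne_two hr.two) hy p).trans (D.cent_p_first hr hy hy1).le
  · obtain ⟨y, hy, hy1, rfl⟩ := exists_lift_ord D.good hs.prime hs.two hx
    refine (v_centralizer_mk D.good (hs.prime.odd_of_ne_two hs.two) hy p).trans ?_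
    have h4 := D.cent_p hs.cast hs.ord (by omega) hy hy1
    have h5 : (2 * (m + 3) + 1 - 2 * (m + 3 - 1) - 1) ^ 2 / 4 = 1 := by
      rw [show 2 * (m + 3) + 1 - 2 * (m + 3 - 1) - 1 = 2 by omega]
      norm_num
    rwa [h5, mul_one] at h4
  · have h3 := D.syl hr (by omega) hb hb2 hbp hx hbx
    rw [max_self, hout, hvS, a1]
    omega
  · have h3 := D.syl hs (by omega) hb hb2 hbp hx hbx
    rw [max_eq_right (Nat.zero_le f), hout, hvS, a1]
    omega
  · rw [hout, hvS, a1]
    omega
  · have hd : t ∣ ∏ i ∈ Finset.range (m + 3), ((p ^ f) ^ (2 * (i + 1)) - 1) := by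
      have h3 : t ∣ (p ^ f) ^ ((m + 3) ^ 2) * ∏ i ∈ Finset.range (m + 3), ((p ^ f) ^ (2 * (i + 1)) - 1) := by
        rw [← D.ord]
        exact Dvd.dvd.mul_left htS _
      rcases ht.dvd_mul.1 h3 with h3 | h3
      · exact absurd ((Nat.prime_dvd_prime_iff_eq ht hp.out).1 (ht.dvd_of_dvd_pow (ht.dvd_of_dvd_pow h3))) htp
      · exact h3
    have htF := Fact.mk ht
    have htc : (t : F) ≠ 0 := D.cast ht htp
    rcases num_odd ht ht2 hp.out htp hf hn hd with ⟨h1, h2⟩ | ⟨h1, h2⟩ | h1
    · left
      refine ⟨D.good_first ht ht2 htp h2, fun x hx => ?_⟩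
      obtain ⟨y, hy, hy1, rfl⟩ := exists_lift_ord D.good ht ht2 hx
      refine (v_centralizer_mk D.good (ht.odd_of_ne_two ht2) hy p).trans ?_
      have h4 := D.cent_p htc (D.card ▸ h1) (by omega) hy hy1
      have h5 : (2 * (m + 3) + 1 - 2 * (m + 3) - 1) ^ 2 / 4 = 0 := by
        rw [show 2 * (m + 3) + 1 - 2 * (m + 3) - 1 = 0 by omega]
        norm_num
      rw [h5, mul_zero] at h4
      omega
    · left
      refine ⟨D.good_second ht ht2 htp h2, fun x hx => ?_⟩
      obtain ⟨y, hy, hy1, rfl⟩ := exists_lift_ord D.good ht ht2 hx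
      refine (v_centralizer_mk D.good (ht.odd_of_ne_two ht2) hy p).trans ?_
      have h4 := D.cent_p htc (D.card ▸ h1) (by omega) hy hy1
      have h5 : (2 * (m + 3) + 1 - 2 * (m + 3 - 1) - 1) ^ 2 / 4 = 1 := by
        rw [show 2 * (m + 3) + 1 - 2 * (m + 3 - 1) - 1 = 2 by omega]
        norm_num
      rwa [h5, mul_one] at h4
    · right
      intro x x' hx hx'
      obtain ⟨y, hy, hy1, rfl⟩ := exists_lift_ord D.good hr.prime hr.two hx
      obtain ⟨z, hz, hz1, rfl⟩ := exists_lift_ord D.good hs.prime hs.two hx'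
      have h2 := (v_centralizer_mk D.good (hr.prime.odd_of_ne_two hr.two) hy t).trans
        (D.cent_t_first hr.two hr.cast hr.ord hy hy1 ht2 htp)
      have h3 := (v_centralizer_mk D.good (hs.prime.odd_of_ne_two hs.two) hz t).trans
        (D.cent_t_second hs.two hs.cast hs.ord hz hz1 ht2 htp)
      rw [D.out_odd ht ht2, D.v_odd ht ht2 htp]
      omega
  · rw [hout, hvS, e1, a1]
    omega
  · rw [hout, hvS, e2, a2]
    omega
  · rw [hout, hvS, e1, e2, a2]
    omega

/-- **The row, abstract form.** -/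
theorem DatO.row (D : DatO Q p f n) : H160.PD.Row (P Q) := by
  have hfinE : Finite ↥(E Q) := finite_E
  have hfinF : Finite F := finite_F D.good
  have hn := D.hn
  have hp2 := D.p2
  have := D.simple
  obtain ⟨r, hr⟩ := exists_prm (F := F) (p := p) (f := f) (e := 2 * n) D.card D.char D.hf (by omega)
    (fun h => hp2 h.1)
  obtain ⟨s, hs⟩ := exists_prm (F := F) (p := p) (f := f) (e := 2 * (n - 1)) D.card D.char D.hf (by omega)
    (fun h => hp2 h.1)
  exact (D.two hr hs).row (H160.PD.center_eq_bot D.na)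

end abs

universe u

variable {K : Type u} [Group K] [Finite K] [IsSimpleGroup K]

/-- **Row of `POmega_{2n+1}(q)`.** -/
theorem row_oodd (h : IsPOmegaOdd K) : H160.PD.Row K := by
  obtain ⟨F, _, _, m, hm, hodd, ⟨e⟩⟩ := h
  have h2 : (2 : F) ≠ 0 := by
    intro h0
    have h3 : CharP F 2 := (CharP.charP_iff_prime_eq_zero Nat.prime_two).2 (by exact_mod_cast h0)
    have h4 := FiniteField.even_card_of_char_two ((CharP.eq F (ringChar.charP F) h3))
    rw [Nat.odd_iff] at hodd
    omega
  have hs : IsSimpleGroup (POmega F (quadFormOdd m F)) := (e.isSimpleGroup_congr).1 inferInstance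
  have hcard := S0292.result (F := F) rfl hodd m hm
  have hall := all_odd (F := F) hm h2
  obtain ⟨p, hchar⟩ := CharP.exists F
  obtain ⟨⟨f, hf0⟩, hp, hF⟩ := FiniteField.card F p
  simp only [PNat.mk_coe] at hF
  have hpF := Fact.mk hp
  have hp2 : p ≠ 2 := by
    rintro rfl
    exact h2 (by exact_mod_cast CharP.cast_eq_zero F 2)
  have haut := S0816.result (F := F) p f hf0 hF (hp.odd_of_ne_two hp2) m hm
  refine H160.PD.Row.congr e ?_
  revert hs hcard hall haut
  rw [← coe_oddForm]
  intro hs hcard hall haut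
  have hG : LieClassical.OrthTrans.Good (oddForm m F) := good_odd (by omega) h2
  have hsP := isSimple_P hG hs
  have hna := not_comm_P hG
  refine H160.PD.Row.congr (pe hG) ?_
  have hfinE : Finite ↥(E (oddForm m F)) := finite_E
  have D : DatO (oddForm m F) p f m :=
    { good := hG
      p2 := hp2
      hf := hf0
      card := by rw [Nat.card_eq_fintype_card, hF]
      hn := hm
      dim := by
        rw [Module.finrank_fintype_fun_eq_card]
        simp
        omega
      char := CharP.cast_eq_zero F p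
      ord := by
        rw [card_P hG, ← hF]
        exact hcard
      out := by
        have h1 := out_mul (H160.PD.center_eq_bot hna)
        have h2 : Nat.card (MulAut (P (oddForm m F))) = Nat.card (MulAut (POmega F ⇑(oddForm m F))) :=
          Nat.card_congr (MulAut.congr (pe hG)).symm.toEquiv
        rw [h2, haut, ← card_P hG] at h1
        exact Nat.eq_of_mul_eq_mul_right Nat.card_pos h1
      aut := exists_gam' hG hall
      simple := hsP
      na := hna }
  exact D.row

end Cfsg.Agent.H898.PDOdd
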