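import Cfsg.Agent.J3Type.ClosingApply

/-!
# `3·J₃`: an element whose cube is a scalar has order dividing 3 (helper898)

The Sylow 3-subgroup of `3·J₃` is the group of the `3 ^ 6` matrices `ω^s E^k A_a D_w`; none of them has a scalar cube
different from 1.
-/

set_option autoImplicit false
set_option maxRecDepth 100000
set_option linter.unusedSectionVars false
set_option linter.unusedSimpArgs false

namespace Cfsg.Agent.H898.J3Three

open Cfsg.Spor Cfsg.Agent.J3.Core Cfsg.Agent.J3.Tab Cfsg.Agent.J3.Mono Cfsg.Agent.J3.Elts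
open Cfsg.Agent.J3.Nineteen (exists_scalar center_eq card_center)
open Cfsg.Agent.Lib.BitSet Matrix

/-- index type of the Sylow subgroup -/
abbrev Ix : Type := Fin 3 × Fin 3 × F9 × F9

/-- the table of `E^k A_a D_w` -/
def tab (k : Fin 3) (a w : F9) : List ℕ := compT (tEk k) (compT (tA a) (tD w))

/-- the cube test -/
def cubeB (T : List ℕ) (U : List ℕ) : Bool :=
  (List.range 9).all fun i => Nat.beq (appT T (appT T (appT T (2 ^ (2 * i))))) (appT U (2 ^ (2 * i)))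

theorem chk_all : ∀ k : Fin 3, ∀ a w : F9, cubeB (tab k a w) (tS 1) = false ∧ cubeB (tab k a w) (tS 2) = false := by
  decide +kernel

theorem chk_col : ∀ k : Fin 3, ∀ a w : F9, ∃ c : Fin 3,
    appT (tEk k) (appT (tA a) (appT (tD w) 1)) = (c + 1) * 4 ^ idx w := by
  decide +kernel

theorem chk_s : ∀ s : Fin 3, ∀ c : Fin 3, ∀ w : F9, ∃ d : Fin 3,
    appT (tS s) ((c + 1) * 4 ^ idx w) = (d + 1) * 4 ^ idx w := by
  decide +kernel

theorem chk_zero : ∀ s k : Fin 3, ∀ a : F9, appT (tS s) (appT (tEk k) (appT (tA a) 1)) = s + 1 := by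
  decide +kernel

theorem chk_diag : ∀ k : Fin 3, ∀ a : F9, ∀ k' : Fin 3, ∀ a' : F9,
    appT (tEk k) (appT (tA a) (2 ^ 2)) = appT (tEk k') (appT (tA a') (2 ^ 2)) →
    appT (tEk k) (appT (tA a) (2 ^ 4)) = appT (tEk k') (appT (tA a') (2 ^ 4)) →
    appT (tEk k) (appT (tA a) (2 ^ 6)) = appT (tEk k') (appT (tA a') (2 ^ 6)) → k = k' ∧ a = a' := by
  decide +kernel

theorem idx_inj : ∀ w w' : F9, idx w = idx w' → w = w' := by decide

theorem four_pow_inj : ∀ c d : Fin 3, ∀ i j : Fin 9, ((c : ℕ) + 1) * 4 ^ (i : ℕ) = ((d : ℕ) + 1) * 4 ^ (j : ℕ) → i = j := by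
  decide +kernel

section
variable {F : Type*} [Field F] {ω : F}

/-- the element `ω^s E^k A_a D_w` -/
def el (G : Gens F ω) (s0 : threeJ3 F ω) (s k : ℕ) (a w : F9) : threeJ3 F ω := s0 ^ s * (G.e ^ k * (G.a a * G.d w))

variable (G : Gens F ω) (H : Good ω) {s0 : threeJ3 F ω} (hs0 : mat ω s0 = ω • 1)
include hs0

theorem s0_comm (g : threeJ3 F ω) : s0 * g = g * s0 := by
  apply mat_injective
  rw [map_mul, map_mul, hs0, mul_smul_comm, smul_mul_assoc, one_mul, mul_one]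

theorem s0_pow_comm (n : ℕ) (g : threeJ3 F ω) : s0 ^ n * g = g * s0 ^ n :=
  ((show Commute s0 g from s0_comm hs0 g).pow_left n).eq

include H

theorem s0_cube : s0 ^ 3 = 1 := by
  apply mat_injective
  rw [map_pow, hs0, smul_pow, one_pow, H.cube, one_smul, map_one]

omit hs0

theorem e_cube : G.e ^ 3 = 1 := by
  apply mat_injective
  rw [map_pow, G.he, Cfsg.Agent.J3.Upper.relE3 H, map_one]

theorem aa (x y : F9) : G.a x * G.a y = G.a (x + y) := by
  apply mat_injective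
  rw [map_mul, G.ha, G.ha, G.ha, relAA H]

theorem ae (x : F9) : G.a x * G.e = G.e * G.a x := by
  apply mat_injective
  rw [map_mul, map_mul, G.ha, G.he, relAE H]

theorem aek (x : F9) (k : ℕ) : G.a x * G.e ^ k = G.e ^ k * G.a x :=
  ((show Commute (G.a x) G.e from ae G H x).pow_right k).eq

include hs0

theorem mat_s0_pow (n : ℕ) : mat ω (s0 ^ n) = ω ^ n • 1 := by
  rw [map_pow, hs0, smul_pow, one_pow]

theorem de (w : F9) : G.d w * G.e = s0 ^ nrm w * (G.e * (G.a w * G.d w)) := by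
  apply mat_injective
  simp only [map_mul, mat_s0_pow H hs0, G.ha, G.he, G.hd]
  exact relDE H w

theorem da (w x : F9) : G.d w * G.a x = s0 ^ dot w x * (G.a x * G.d w) := by
  apply mat_injective
  simp only [map_mul, mat_s0_pow H hs0, G.ha, G.he, G.hd]
  exact relDA H w x

theorem dd (w v : F9) : ∃ (s k : ℕ) (a : F9), G.d w * G.d v = s0 ^ s * (G.e ^ k * (G.a a * G.d (w + v))) := by
  obtain ⟨s, k, a, h⟩ := relDD H w v
  refine ⟨s, k, a, ?_⟩
  apply mat_injective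
  simp only [map_mul, mat_s0_pow H hs0, G.ha, G.hd, map_pow, G.he]
  exact h

theorem dek (w : F9) (k : ℕ) : ∃ (s : ℕ) (x : F9), G.d w * G.e ^ k = s0 ^ s * (G.e ^ k * (G.a x * G.d w)) := by
  induction k with
  | zero =>
    refine ⟨0, 0, ?_⟩
    have h0 : G.a 0 = 1 := by
      have h1 := aa G H 0 0
      rw [add_zero] at h1
      exact mul_eq_left.1 h1
    rw [pow_zero, pow_zero, mul_one, one_mul, one_mul, h0, one_mul]
  | succ k ih =>
    obtain ⟨s, x, h⟩ := ih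
    refine ⟨s + nrm w, x + w, ?_⟩
    calc G.d w * G.e ^ (k + 1) = (G.d w * G.e ^ k) * G.e := by rw [pow_succ]; group
      _ = s0 ^ s * (G.e ^ k * (G.a x * (G.d w * G.e))) := by rw [h]; simp only [mul_assoc]
      _ = s0 ^ s * (G.e ^ k * (G.a x * (s0 ^ nrm w * (G.e * (G.a w * G.d w))))) := by rw [de G H hs0]
      _ = s0 ^ s * (G.e ^ k * ((G.a x * s0 ^ nrm w) * (G.e * (G.a w * G.d w)))) := by simp only [mul_assoc]
      _ = s0 ^ s * (G.e ^ k * ((s0 ^ nrm w * G.a x) * (G.e * (G.a w * G.d w)))) := by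
        rw [s0_pow_comm hs0 (nrm w) (G.a x)]
      _ = s0 ^ s * ((G.e ^ k * s0 ^ nrm w) * ((G.a x * G.e) * (G.a w * G.d w))) := by simp only [mul_assoc]
      _ = s0 ^ s * ((s0 ^ nrm w * G.e ^ k) * ((G.e * G.a x) * (G.a w * G.d w))) := by
        rw [s0_pow_comm hs0 (nrm w) (G.e ^ k), ae G H]
      _ = (s0 ^ s * s0 ^ nrm w) * ((G.e ^ k * G.e) * ((G.a x * G.a w) * G.d w)) := by simp only [mul_assoc]
      _ = s0 ^ (s + nrm w) * (G.e ^ (k + 1) * (G.a (x + w) * G.d w)) := by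
        rw [← pow_add, ← pow_succ, aa G H]

theorem el_mul (s k : ℕ) (a w : F9) (s' k' : ℕ) (a' w' : F9) :
    ∃ (t l : ℕ) (b v : F9), el G s0 s k a w * el G s0 s' k' a' w' = el G s0 t l b v := by
  obtain ⟨i, x, h1⟩ := dek G H hs0 w k'
  obtain ⟨j, l, y, h2⟩ := dd G H hs0 w w'
  refine ⟨s + s' + i + dot w a' + j, k + k' + l, a + x + a' + y, w + w', ?_⟩
  have c := fun n g => s0_pow_comm (ω := ω) (s0 := s0) hs0 n g
  unfold el
  calc s0 ^ s * (G.e ^ k * (G.a a * G.d w)) * (s0 ^ s' * (G.e ^ k' * (G.a a' * G.d w')))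
      = s0 ^ s * ((G.e ^ k * (G.a a * G.d w)) * s0 ^ s') * (G.e ^ k' * (G.a a' * G.d w')) := by
        simp only [mul_assoc]
    _ = s0 ^ s * (s0 ^ s' * (G.e ^ k * (G.a a * G.d w))) * (G.e ^ k' * (G.a a' * G.d w')) := by
        rw [c s' (G.e ^ k * (G.a a * G.d w))]
    _ = (s0 ^ s * s0 ^ s') * (G.e ^ k * (G.a a * ((G.d w * G.e ^ k') * (G.a a' * G.d w')))) := by
        simp only [mul_assoc]
    _ = (s0 ^ s * s0 ^ s') * (G.e ^ k * (G.a a * ((s0 ^ i * (G.e ^ k' * (G.a x * G.d w))) * (G.a a' * G.d w')))) := by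
        rw [h1]
    _ = (s0 ^ s * s0 ^ s') * (((G.e ^ k * G.a a) * s0 ^ i) * (G.e ^ k' * (G.a x * ((G.d w * G.a a') * G.d w')))) := by
        simp only [mul_assoc]
    _ = (s0 ^ s * s0 ^ s') * ((s0 ^ i * (G.e ^ k * G.a a)) *
          (G.e ^ k' * (G.a x * ((s0 ^ dot w a' * (G.a a' * G.d w)) * G.d w')))) := by
        rw [c i (G.e ^ k * G.a a), da G H hs0]
    _ = (s0 ^ s * s0 ^ s' * s0 ^ i) * (G.e ^ k * ((G.a a * G.e ^ k') * ((G.a x * s0 ^ dot w a') *
          (G.a a' * (G.d w * G.d w'))))) := by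
        simp only [mul_assoc]
    _ = (s0 ^ s * s0 ^ s' * s0 ^ i) * (G.e ^ k * ((G.e ^ k' * G.a a) * ((s0 ^ dot w a' * G.a x) *
          (G.a a' * (s0 ^ j * (G.e ^ l * (G.a y * G.d (w + w')))))))) := by
        rw [h2, aek G H, c (dot w a') (G.a x)]
    _ = (s0 ^ s * s0 ^ s' * s0 ^ i) * (((G.e ^ k * G.e ^ k' * G.a a) * s0 ^ dot w a') * (((G.a x *
          G.a a') * s0 ^ j) * (G.e ^ l * (G.a y * G.d (w + w'))))) := by
        simp only [mul_assoc]
    _ = (s0 ^ s * s0 ^ s' * s0 ^ i) * ((s0 ^ dot w a' * (G.e ^ k * G.e ^ k' * G.a a)) * ((s0 ^ j * (G.a x *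
          G.a a')) * (G.e ^ l * (G.a y * G.d (w + w'))))) := by
        rw [c (dot w a') (G.e ^ k * G.e ^ k' * G.a a), c j (G.a x * G.a a')]
    _ = (s0 ^ s * s0 ^ s' * s0 ^ i * s0 ^ dot w a') * (((G.e ^ k * G.e ^ k' * G.a a) * s0 ^ j) * (G.a x *
          (G.a a' * G.e ^ l) * (G.a y * G.d (w + w')))) := by
        simp only [mul_assoc]
    _ = (s0 ^ s * s0 ^ s' * s0 ^ i * s0 ^ dot w a') * ((s0 ^ j * (G.e ^ k * G.e ^ k' * G.a a)) * (G.a x *
          (G.e ^ l * G.a a') * (G.a y * G.d (w + w')))) := by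
        rw [c j (G.e ^ k * G.e ^ k' * G.a a), aek G H]
    _ = (s0 ^ s * s0 ^ s' * s0 ^ i * s0 ^ dot w a' * s0 ^ j) * (G.e ^ k * G.e ^ k' * ((G.a a * (G.a x *
          G.e ^ l)) * (G.a a' * G.a y * G.d (w + w')))) := by
        simp only [mul_assoc]
    _ = (s0 ^ s * s0 ^ s' * s0 ^ i * s0 ^ dot w a' * s0 ^ j) * (G.e ^ k * G.e ^ k' * (((G.a a *
          G.e ^ l) * G.a x) * (G.a a' * G.a y * G.d (w + w')))) := by
        rw [aek G H x]; simp only [mul_assoc]
    _ = (s0 ^ s * s0 ^ s' * s0 ^ i * s0 ^ dot w a' * s0 ^ j) * (G.e ^ k * G.e ^ k' * G.e ^ l * ((G.a a *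
          G.a x * G.a a' * G.a y) * G.d (w + w'))) := by
        rw [aek G H a]; simp only [mul_assoc]
    _ = _ := by
        rw [aa G H, aa G H, aa G H, ← pow_add, ← pow_add, ← pow_add, ← pow_add, ← pow_add, ← pow_add]

theorem el_mod (s k : ℕ) (a w : F9) : el G s0 s k a w = el G s0 (s % 3) (k % 3) a w := by
  have h1 : s0 ^ s = s0 ^ (s % 3) := by
    conv_lhs => rw [← Nat.div_add_mod s 3, pow_add, pow_mul, s0_cube H hs0, one_pow, one_mul]
  have h2 : G.e ^ k = G.e ^ (k % 3) := by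
    conv_lhs => rw [← Nat.div_add_mod k 3, pow_add, pow_mul, e_cube G H, one_pow, one_mul]
  unfold el
  rw [h1, h2]

/-- the Sylow 3-subgroup -/
def P3 [Finite (threeJ3 F ω)] : Subgroup (threeJ3 F ω) where
  carrier := {g | ∃ (s k : ℕ) (a w : F9), g = el G s0 s k a w}
  mul_mem' := by
    rintro _ _ ⟨s, k, a, w, rfl⟩ ⟨s', k', a', w', rfl⟩
    exact el_mul G H hs0 s k a w s' k' a' w'
  one_mem' := by
    have key : ∀ n : ℕ, ∃ (t l : ℕ) (b v : F9), (el G s0 0 0 0 0) ^ (n + 1) = el G s0 t l b v := by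
      intro n
      induction n with
      | zero => exact ⟨0, 0, 0, 0, by rw [zero_add, pow_one]⟩
      | succ n ih =>
        obtain ⟨t, l, b, v, h⟩ := ih
        rw [pow_succ, h]
        exact el_mul G H hs0 _ _ _ _ _ _ _ _
    have hpos := orderOf_pos (el G s0 0 0 0 0)
    obtain ⟨t, l, b, v, h⟩ := key (orderOf (el G s0 0 0 0 0) - 1)
    rw [Nat.sub_add_cancel hpos, pow_orderOf_eq_one] at h
    exact ⟨t, l, b, v, h⟩
  inv_mem' := by
    rintro _ ⟨s, k, a, w, rfl⟩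
    have key : ∀ n : ℕ, ∃ (t l : ℕ) (b v : F9), (el G s0 s k a w) ^ (n + 1) = el G s0 t l b v := by
      intro n
      induction n with
      | zero => exact ⟨s, k, a, w, by rw [zero_add, pow_one]⟩
      | succ n ih =>
        obtain ⟨t, l, b, v, h⟩ := ih
        rw [pow_succ, h]
        exact el_mul G H hs0 _ _ _ _ _ _ _ _
    have hpos := orderOf_pos (el G s0 s k a w)
    obtain ⟨t, l, b, v, h⟩ := key (2 * orderOf (el G s0 s k a w) - 1 - 1)
    refine ⟨t, l, b, v, ?_⟩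
    rw [← h, show 2 * orderOf (el G s0 s k a w) - 1 - 1 + 1 = 2 * orderOf (el G s0 s k a w) - 1 by omega]
    symm
    rw [eq_inv_iff_mul_eq_one, ← pow_succ, show 2 * orderOf (el G s0 s k a w) - 1 + 1 =
      orderOf (el G s0 s k a w) * 2 by omega, pow_mul, pow_orderOf_eq_one, one_pow]

theorem repG_el (k : Fin 3) (a w : F9) : RepG ω (tab k a w) (el G s0 0 k a w) := by
  have h1 : RepG ω (tEk k) (G.e ^ (k : ℕ)) := by
    unfold RepG
    rw [map_pow, G.he]
    exact repEk H k k.2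
  have h2 : RepG ω (tA a) (G.a a) := by
    unfold RepG; rw [G.ha]; exact repA H a
  have h3 : RepG ω (tD w) (G.d w) := by
    unfold RepG; rw [G.hd]; exact repD H w
  unfold el
  rw [pow_zero, one_mul]
  exact h1.mul (h2.mul h3)

theorem repG_s (s : Fin 3) : RepG ω (tS s) (s0 ^ (s : ℕ)) := by
  unfold RepG
  rw [mat_s0_pow H hs0]
  exact repS H s s.2

theorem repG_el' (s k : Fin 3) (a w : F9) : RepG ω (compT (tS s) (tab k a w)) (el G s0 s k a w) := by
  have h := (repG_s H hs0 s).mul (repG_el G H hs0 k a w)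
  have e : s0 ^ (s : ℕ) * el G s0 0 k a w = el G s0 s k a w := by
    unfold el
    rw [pow_zero, one_mul]
  rwa [e] at h

omit hs0 in
/-- the value of a table at a basis vector is determined by the element -/
theorem app_eq {T U : List ℕ} {g : threeJ3 F ω} (hT : RepG ω T g) (hU : RepG ω U g) {n : ℕ} (hn : n < 2 ^ 18) :
    appT T n = appT U n := by
  have h1 := hT.2 n hn
  have h2 := hU.2 n hn
  rw [h1] at h2
  exact dec_injOn H (appT_lt hT.1 n) (appT_lt hU.1 n) h2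

theorem el_inj {s k s' k' : Fin 3} {a w a' w' : F9} (h : el G s0 s k a w = el G s0 s' k' a' w') :
    s = s' ∧ k = k' ∧ a = a' ∧ w = w' := by
  have hw : w = w' := by
    have h1 := repG_el' G H hs0 s k a w
    have h2 := repG_el' G H hs0 s' k' a' w'
    rw [← h] at h2
    have h3 := app_eq H h1 h2 (n := 1) (by norm_num)
    unfold tab at h3
    rw [appT_compT, appT_compT, appT_compT, appT_compT, appT_compT, appT_compT] at h3
    obtain ⟨c, hc⟩ := chk_col k a w
    obtain ⟨c', hc'⟩ := chk_col k' a' w'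
    rw [hc, hc'] at h3
    obtain ⟨d, hd⟩ := chk_s s c w
    obtain ⟨d', hd'⟩ := chk_s s' c' w'
    rw [hd, hd'] at h3
    have h4 := four_pow_inj d d' ⟨idx w, idx_lt w⟩ ⟨idx w', idx_lt w'⟩ h3
    exact idx_inj _ _ (congrArg Fin.val h4)
  subst hw
  -- cancel `D_w`
  have h0 : s0 ^ (s : ℕ) * (G.e ^ (k : ℕ) * G.a a) = s0 ^ (s' : ℕ) * (G.e ^ (k' : ℕ) * G.a a') := by
    unfold el at h
    simp only [← mul_assoc] at h ⊢
    exact mul_right_cancel h
  have r1 : ∀ (k : Fin 3) (a : F9), RepG ω (compT (tEk k) (tA a)) (G.e ^ (k : ℕ) * G.a a) := by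
    intro k a
    have h1 : RepG ω (tEk k) (G.e ^ (k : ℕ)) := by
      unfold RepG
      rw [map_pow, G.he]
      exact repEk H k k.2
    have h2 : RepG ω (tA a) (G.a a) := by
      unfold RepG; rw [G.ha]; exact repA H a
    exact h1.mul h2
  have hs : s = s' := by
    have h1 := (repG_s H hs0 s).mul (r1 k a)
    have h2 := (repG_s H hs0 s').mul (r1 k' a')
    rw [← h0] at h2
    have h3 := app_eq H h1 h2 (n := 1) (by norm_num)
    rw [appT_compT, appT_compT, appT_compT, appT_compT, chk_zero, chk_zero] at h3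
    exact Fin.ext (by omega)
  subst hs
  have h1 := mul_left_cancel h0
  have h2 := r1 k a
  have h3 := r1 k' a'
  rw [← h1] at h3
  have h4 := app_eq H h2 h3 (n := 2 ^ 2) (by norm_num)
  have h5 := app_eq H h2 h3 (n := 2 ^ 4) (by norm_num)
  have h6 := app_eq H h2 h3 (n := 2 ^ 6) (by norm_num)
  rw [appT_compT, appT_compT] at h4 h5 h6
  obtain ⟨h7, h8⟩ := chk_diag k a k' a' h4 h5 h6
  exact ⟨rfl, h7, h8, rfl⟩

theorem card_P3 [Finite (threeJ3 F ω)] : Nat.card ↥(P3 G H hs0) = 729 := by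
  let f : Ix → P3 G H hs0 := fun p => ⟨el G s0 p.1 p.2.1 p.2.2.1 p.2.2.2, ⟨_, _, _, _, rfl⟩⟩
  have hf : Function.Bijective f := by
    constructor
    · rintro ⟨s, k, a, w⟩ ⟨s', k', a', w'⟩ h
      obtain ⟨h1, h2, h3, h4⟩ := el_inj G H hs0 (congrArg Subtype.val h)
      exact Prod.ext h1 (Prod.ext h2 (Prod.ext h3 h4))
    · rintro ⟨_, s, k, a, w, rfl⟩
      refine ⟨(⟨s % 3, Nat.mod_lt _ (by norm_num)⟩, ⟨k % 3, Nat.mod_lt _ (by norm_num)⟩, a, w), Subtype.ext ?_⟩
      show el G s0 (s % 3) (k % 3) a w = el G s0 s k a w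
      rw [← el_mod G H hs0]
  rw [← Nat.card_eq_of_bijective f hf, Nat.card_eq_fintype_card]
  rfl

/-- an element of the Sylow subgroup whose cube is a scalar has cube 1 -/
theorem cube_of_mem {s k : ℕ} {a w : F9} {j : ℕ} (h : el G s0 s k a w ^ 3 = s0 ^ j) : el G s0 s k a w ^ 3 = 1 := by
  have h1 : el G s0 s k a w = s0 ^ s * el G s0 0 (k % 3) a w := by
    rw [el_mod G H hs0, show s0 ^ s = s0 ^ (s % 3) by
      conv_lhs => rw [← Nat.div_add_mod s 3, pow_add, pow_mul, s0_cube H hs0, one_pow, one_mul]]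
    unfold el
    rw [pow_zero, one_mul]
  have h2 : el G s0 s k a w ^ 3 = el G s0 0 (k % 3) a w ^ 3 := by
    rw [h1, (show Commute (s0 ^ s) _ from s0_pow_comm hs0 s _).mul_pow, ← pow_mul, mul_comm s 3, pow_mul,
      s0_cube H hs0, one_pow, one_mul]
  rw [h2] at h ⊢
  let k' : Fin 3 := ⟨k % 3, Nat.mod_lt _ (by norm_num)⟩
  have h3 : RepG ω (tab k' a w) (el G s0 0 (k % 3) a w) := repG_el G H hs0 k' a w
  have h4 : s0 ^ j = s0 ^ (j % 3) := by
    conv_lhs => rw [← Nat.div_add_mod j 3, pow_add, pow_mul, s0_cube H hs0, one_pow, one_mul]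
  rw [h4] at h
  let j' : Fin 3 := ⟨j % 3, Nat.mod_lt _ (by norm_num)⟩
  have h5 : RepG ω (tS j') (el G s0 0 (k % 3) a w ^ 3) := by
    rw [h]; exact repG_s H hs0 j'
  have h6 : RepG ω (compT (tab k' a w) (compT (tab k' a w) (tab k' a w))) (el G s0 0 (k % 3) a w ^ 3) := by
    have := h3.mul (h3.mul h3)
    have e : el G s0 0 (k % 3) a w ^ 3 = el G s0 0 (k % 3) a w * (el G s0 0 (k % 3) a w * el G s0 0 (k % 3) a w) := by
      rw [pow_succ', pow_two]
    rwa [e]
  have h7 : cubeB (tab k' a w) (tS j') = true := by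
    unfold cubeB
    rw [List.all_eq_true]
    intro i hi
    rw [List.mem_range] at hi
    have h8 : 2 ^ (2 * i) < 2 ^ 18 := Nat.pow_lt_pow_right (by norm_num) (by omega)
    have h9 := app_eq H h6 h5 h8
    rw [appT_compT, appT_compT] at h9
    rw [h9]
    exact Nat.beq_refl _
  obtain ⟨c1, c2⟩ := chk_all k' a w
  have h8 : j % 3 < 3 := Nat.mod_lt _ (by norm_num)
  have h9 : j % 3 = 0 ∨ j % 3 = 1 ∨ j % 3 = 2 := by omega
  rcases h9 with h9 | h9 | h9
  · rw [h, h9, pow_zero]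
  · exfalso
    have : (j' : ℕ) = 1 := h9
    rw [this, c1] at h7
    exact Bool.false_ne_true h7
  · exfalso
    have : (j' : ℕ) = 2 := h9
    rw [this, c2] at h7
    exact Bool.false_ne_true h7

end

/-- **An element of `3·J₃` whose cube is central has cube 1.** -/
theorem cube_eq_one {F : Type*} [Field F] [Fintype F] (hF : Fintype.card F = 4) {ω : F} (H : Good ω)
    {g : threeJ3 F ω} (hg : g ^ 3 ∈ Subgroup.center (threeJ3 F ω)) : g ^ 3 = 1 := by
  obtain ⟨G⟩ := exists_gens hF H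
  obtain ⟨s0, hs0⟩ := exists_scalar H G
  have hcard := Cfsg.Agent.J3.Order.card_threeJ3 hF H
  have hfin : Finite (threeJ3 F ω) := Nat.finite_of_card_ne_zero (by rw [hcard]; norm_num)
  have h3p : Fact (Nat.Prime 3) := ⟨Nat.prime_three⟩
  have hZ : ∀ c ∈ Subgroup.center (threeJ3 F ω), ∃ j : ℕ, c = s0 ^ j := by
    intro c hc
    rw [center_eq hF H hs0] at hc
    have hfo : IsOfFinOrder s0 := isOfFinOrder_of_finite s0
    obtain ⟨j, hj⟩ := hfo.mem_powers_iff_mem_zpowers.2 hc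
    exact ⟨j, hj.symm⟩
  obtain ⟨j, hj⟩ := hZ _ hg
  have h9 : g ^ (3 ^ 2) = 1 := by
    rw [show 3 ^ 2 = 3 * 3 by norm_num, pow_mul, hj, ← pow_mul, mul_comm, pow_mul, s0_cube H hs0, one_pow]
  have hP : IsPGroup 3 ↥(Subgroup.zpowers g) := by
    rintro ⟨_, n, rfl⟩
    refine ⟨2, Subtype.ext ?_⟩
    show (g ^ n) ^ 3 ^ 2 = 1
    rw [← zpow_natCast (g ^ n), ← _root_.zpow_mul, mul_comm, _root_.zpow_mul, zpow_natCast, h9, _root_.one_zpow]
  have hfac : (Nat.card (threeJ3 F ω)).factorization 3 = 6 := by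
    rw [hcard, show (150698880 : ℕ) = 3 ^ 6 * 206720 by norm_num,
      Nat.factorization_mul (by norm_num) (by norm_num), Finsupp.add_apply, Nat.prime_three.factorization_pow,
      Finsupp.single_eq_same, Nat.factorization_eq_zero_of_not_dvd (by norm_num)]
  let Q : Sylow 3 (threeJ3 F ω) := Sylow.ofCard (P3 G H hs0) (by rw [card_P3, hfac]; norm_num)
  obtain ⟨Q', hQ'⟩ := hP.exists_le_sylow
  obtain ⟨h, hh⟩ := MulAction.exists_smul_eq (threeJ3 F ω) Q' Q
  have h1 : h * g * h⁻¹ ∈ P3 G H hs0 := by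
    have h2 : h * g * h⁻¹ ∈ (Q : Subgroup (threeJ3 F ω)) := by
      rw [← hh, Sylow.coe_subgroup_smul]
      exact Subgroup.smul_mem_pointwise_smul g (MulAut.conj h) _ (hQ' (Subgroup.mem_zpowers g))
    exact h2
  obtain ⟨s, k, a, w, h2⟩ := h1
  have h3 : (h * g * h⁻¹) ^ 3 = g ^ 3 := by
    rw [conj_pow]
    have h4 := Subgroup.mem_center_iff.1 hg h
    rw [h4]; group
  have h4 : el G s0 s k a w ^ 3 = s0 ^ j := by rw [← h2, h3, hj]
  have h5 := cube_of_mem G H hs0 h4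
  rw [← h2, h3] at h5
  exact h5

end Cfsg.Agent.H898.J3Three
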