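/-
The copy of `Fi₂₂` in `Gam`: `fiHom` is injective, its range lies in `Gam`, and (already for the subgroup generated by
`b, …, i`) the centralizer in `GL (Fin 78) (ZMod 2)` is trivial.
-/
import Cfsg.Agent.H898.CentO7
import Cfsg.Agent.H898.NotIn
import Cfsg.Agent.TwoESix.FiInst
import Cfsg.Agent.S1696
set_option autoImplicit false

namespace Cfsg.Agent.H898.FiCase

open Cfsg.Spor Cfsg.Agent.TwoESix.Gens Cfsg.Agent.TwoESix.Iso Cfsg.Agent.TwoESix.FiInst
open Cfsg.Agent.H898.CentO7 Cfsg.Agent.H898.Diag Cfsg.Agent.H898.NotIn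

theorem fiHom_mem (g : Spor.Fi22) : fiHom g ∈ Gam := by
  have h1 : (⊤ : Subgroup Spor.Fi22) ≤ Gam.comap fiHom := by
    rw [← PresentedGroup.closure_range_of, Subgroup.closure_le]
    rintro _ ⟨x, rfl⟩
    show fiHom (PresentedGroup.of x) ∈ Gam
    rw [fiHom_of]
    exact T_mem _
  exact h1 (Subgroup.mem_top g)

/-- the generators `b, …, i` of `Fi₂₂` -/
def gens : List Fi22.Gen := [.b, .c, .d, .e, .f, .g, .h, .i]

theorem gl_gens : ∀ i : Fin 10, gl.contains (i : ℕ) = true → ∃ x ∈ gens, nd x = i := by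
  intro i
  fin_cases i
  · intro h; exact absurd h (by decide)
  · intro _; exact ⟨.i, by decide, rfl⟩
  · intro _; exact ⟨.h, by decide, rfl⟩
  · intro _; exact ⟨.d, by decide, rfl⟩
  · intro _; exact ⟨.c, by decide, rfl⟩
  · intro _; exact ⟨.b, by decide, rfl⟩
  · intro h; exact absurd h (by decide)
  · intro _; exact ⟨.e, by decide, rfl⟩
  · intro _; exact ⟨.f, by decide, rfl⟩
  · intro _; exact ⟨.g, by decide, rfl⟩

/-- a matrix commuting with the images of `b, …, i` is the identity -/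
theorem eq_one_of_gens {c : GL (Fin 78) (ZMod 2)}
    (hc : ∀ x ∈ gens, c * fiHom (PresentedGroup.of x) = fiHom (PresentedGroup.of x) * c) : c = 1 := by
  refine eq_one_of_comm fun i hi => ?_
  obtain ⟨x, hx, hxi⟩ := gl_gens i hi
  have h1 := hc x hx
  rw [fiHom_of, hxi] at h1
  exact h1

theorem Dg_ne_one (K : Type*) [Field K] [Fintype K] (hK : Fintype.card K = 4) : Dg ≠ 1 := by
  intro h
  exact Dg_not_mem K hK (h ▸ Gam.one_mem)

theorem fiHom_injective (K : Type*) [Field K] [Fintype K] (hK : Fintype.card K = 4) :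
    Function.Injective fiHom := by
  have hs : IsSimpleGroup Spor.Fi22 := Cfsg.Agent.S1696.result.1
  rw [← MonoidHom.ker_eq_bot_iff]
  rcases (MonoidHom.normal_ker fiHom).eq_bot_or_eq_top with h | h
  · exact h
  · exfalso
    refine Dg_ne_one K hK (eq_one_of_gens fun x _ => ?_)
    have h1 : fiHom (PresentedGroup.of x) = 1 := by
      rw [← MonoidHom.mem_ker, h]; exact Subgroup.mem_top _
    rw [h1, mul_one, one_mul]

end Cfsg.Agent.H898.FiCase
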