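import Cfsg.Agent.H509.Weak
import Cfsg.Agent.LThreeMB.Quo

/-!
# Tools for the facts `O_2(C(w)) = 1` (helper898, for helper509's rows of S4095 at the prime 2)

* `exists_V` : if `O_2(C) ≠ 1`, `p ^ a ∣ |C|` and no involution of `C` has a centralizer of order divisible by
  `p ^ (b + 1)`, there is a normal elementary abelian subgroup of order `2 ^ n`, `p ^ (a - b) ∣ 2 ^ n - 1`;
* `pCore_of_XX` : `O_2(C(s)) = 1` from `O_2(C(s) / ⟨s⟩) = 1`, `s` of odd order;
* `pCore_of_simple` : simple groups of order divisible by 3;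
* `four_mul_dvd` : `4 |C(w)|` divides `|G|` for `w` of order 5 conjugate to its square.
-/

set_option autoImplicit false

namespace Cfsg.Agent.H898.WkGen

open Subgroup Cfsg
open Cfsg.Agent.LThreeMB (XX Zx)

theorem dvd_card_of_orbits {M X : Type*} [Group M] [MulAction M X] [Finite X] {m : ℕ}
    (h : ∀ x : X, m ∣ (MulAction.stabilizer M x).index) : m ∣ Nat.card X := by
  classical
  have := Fintype.ofFinite (Quotient (MulAction.orbitRel M X))
  rw [Nat.card_congr (MulAction.selfEquivSigmaOrbits M X), Nat.card_sigma]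
  refine Finset.dvd_sum fun ω _ => ?_
  have h1 := h ω.out
  rwa [MulAction.index_stabilizer, ← Nat.card_coe_set_eq] at h1

theorem pow_dvd_of_mul {p a b s i : ℕ} (hp : p.Prime) (hs0 : s ≠ 0) (h : p ^ a ∣ s * i) (hs : ¬ p ^ (b + 1) ∣ s) :
    p ^ (a - b) ∣ i := by
  obtain ⟨k, s', hs', rfl⟩ := Nat.exists_eq_pow_mul_and_not_dvd hs0 p hp.ne_one
  have hk : k ≤ b := by
    by_contra hcon
    exact hs ((pow_dvd_pow p (by omega : b + 1 ≤ k)).trans (dvd_mul_right _ _))
  by_cases hak : a ≤ k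
  · have h0 : a - b = 0 := by omega
    rw [h0, pow_zero]
    exact one_dvd _
  · have h1 : p ^ k * p ^ (a - k) ∣ p ^ k * (s' * i) := by
      rw [← pow_add, Nat.add_sub_cancel' (by omega), ← mul_assoc]
      exact h
    have h2 : p ^ (a - k) ∣ s' * i := Nat.dvd_of_mul_dvd_mul_left (pow_pos hp.pos k) h1
    have h3 : (p ^ (a - k)).Coprime s' := Nat.Coprime.pow_left _ ((Nat.Prime.coprime_iff_not_dvd hp).2 hs')
    exact (pow_dvd_pow p (by omega : a - b ≤ a - k)).trans (h3.dvd_of_dvd_mul_left h2)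

/-- the orbits of `C` on `V \ {1}` -/
theorem dvd_card_sub_one {C : Type*} [Group C] [Finite C] {V : Subgroup C} (hV : V.Normal) {m : ℕ}
    (h : ∀ v ∈ V, v ≠ 1 → m ∣ (centralizer ({v} : Set C)).index) : m ∣ Nat.card V - 1 := by
  classical
  let X := {v : C // v ∈ V ∧ v ≠ 1}
  let _ : MulAction C X :=
    { smul := fun c v => ⟨c * v.1 * c⁻¹, hV.conj_mem _ v.2.1 c, fun h => v.2.2 (by rwa [conj_eq_one_iff] at h)⟩
      one_smul := fun v => Subtype.ext (by
        change 1 * v.1 * 1⁻¹ = v.1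
        group)
      mul_smul := fun a b v => Subtype.ext (by
        change (a * b) * v.1 * (a * b)⁻¹ = a * (b * v.1 * b⁻¹) * a⁻¹
        group) }
  have hsm : ∀ (c : C) (v : X), ((c • v : X) : C) = c * v.1 * c⁻¹ := fun _ _ => rfl
  have h1 : m ∣ Nat.card X := by
    refine dvd_card_of_orbits (M := C) fun v => ?_
    have h2 : MulAction.stabilizer C v = centralizer ({v.1} : Set C) := by
      ext c
      rw [MulAction.mem_stabilizer_iff, mem_centralizer_singleton_iff]
      constructor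
      · intro h3
        have h4 := congrArg Subtype.val h3
        rw [hsm, mul_inv_eq_iff_eq_mul] at h4
        exact h4
      · intro h3
        apply Subtype.ext
        rw [hsm, h3, mul_inv_cancel_right]
    rw [h2]
    exact h v.1 v.2.1 v.2.2
  have h2 : Nat.card X = Nat.card V - 1 := by
    have h3 : Nat.card {v : V // v ≠ 1} = Nat.card V - 1 := by
      have := Fintype.ofFinite V
      rw [Nat.card_eq_fintype_card, Nat.card_eq_fintype_card, Fintype.card_subtype_compl, Fintype.card_subtype_eq]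
    rw [← h3]
    refine Nat.card_congr
      { toFun := fun v => ⟨⟨v.1, v.2.1⟩, fun h => v.2.2 (congrArg Subtype.val h)⟩
        invFun := fun v => ⟨v.1.1, v.1.2, fun h => v.2 (Subtype.ext h)⟩
        left_inv := fun _ => rfl
        right_inv := fun _ => rfl }
  rwa [h2] at h1

/-- **The counting lemma.** -/
theorem exists_V {C : Type*} [Group C] [Finite C] (hR : pCore 2 C ≠ ⊥) :
    ∃ (V : Subgroup C) (n : ℕ), V.Normal ∧ V ≤ pCore 2 C ∧ 1 ≤ n ∧ Nat.card V = 2 ^ n ∧
      (∀ v ∈ V, v * v = 1) ∧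
      (∀ u ∈ V, ∀ v ∈ V, u * v = v * u) ∧
      ∀ {p a b : ℕ}, p.Prime → p ^ a ∣ Nat.card C →
        (∀ t : C, orderOf t = 2 → ¬ p ^ (b + 1) ∣ Nat.card (centralizer ({t} : Set C))) → p ^ (a - b) ∣ 2 ^ n - 1 := by
  classical
  have h2 : Fact (Nat.Prime 2) := ⟨Nat.prime_two⟩
  have hRn : (pCore 2 C).Normal := Lib.Cores.pCore_normal (G := C) 2
  have hR2 : IsPGroup 2 (pCore 2 C) := Lib.Cores.pCore_isPGroup (G := C) 2
  set R := pCore 2 C with hRdef
  -- `V`
  let V : Subgroup C :=
    { carrier := {v | v ∈ R ∧ (∀ r ∈ R, v * r = r * v) ∧ v * v = 1}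
      one_mem' := ⟨R.one_mem, fun r _ => by rw [one_mul, mul_one], one_mul 1⟩
      mul_mem' := by
        rintro u v ⟨hu, hu1, hu2⟩ ⟨hv, hv1, hv2⟩
        refine ⟨R.mul_mem hu hv, fun r hr => ?_, ?_⟩
        · rw [mul_assoc, hv1 r hr, ← mul_assoc, hu1 r hr, mul_assoc]
        · calc (u * v) * (u * v) = u * (v * u) * v := by group
            _ = u * (u * v) * v := by rw [hv1 u hu]
            _ = (u * u) * (v * v) := by group
            _ = 1 := by rw [hu2, hv2, one_mul]
      inv_mem' := by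
        rintro u ⟨hu, hu1, hu2⟩
        have h3 : u⁻¹ = u := inv_eq_of_mul_eq_one_left hu2
        rw [h3]
        exact ⟨hu, hu1, hu2⟩ }
  have hmem : ∀ v, v ∈ V ↔ v ∈ R ∧ (∀ r ∈ R, v * r = r * v) ∧ v * v = 1 := fun _ => Iff.rfl
  have hVn : V.Normal := by
    refine ⟨fun v hv c => ?_⟩
    obtain ⟨hv0, hv1, hv2⟩ := (hmem v).1 hv
    refine (hmem _).2 ⟨hRn.conj_mem v hv0 c, fun r hr => ?_, ?_⟩
    · have h3 : c⁻¹ * r * c ∈ R := by
        have := hRn.conj_mem r hr c⁻¹
        rwa [inv_inv] at this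
      have h4 := hv1 _ h3
      calc c * v * c⁻¹ * r = c * (v * (c⁻¹ * r * c)) * c⁻¹ := by group
        _ = c * ((c⁻¹ * r * c) * v) * c⁻¹ := by rw [h4]
        _ = r * (c * v * c⁻¹) := by group
    · calc (c * v * c⁻¹) * (c * v * c⁻¹) = c * (v * v) * c⁻¹ := by group
        _ = 1 := by rw [hv2]; group
  have hVR : V ≤ R := fun v hv => ((hmem v).1 hv).1
  have hV2 : IsPGroup 2 V := hR2.to_le hVR
  obtain ⟨n, hn⟩ := hV2.exists_card_eq
  have hVne : V ≠ ⊥ := by
    have hnt : Nontrivial R := (Subgroup.nontrivial_iff_ne_bot R).2 hR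
    have h3 : Nontrivial (Subgroup.center R) := hR2.center_nontrivial
    have h4 : 2 ∣ Nat.card (Subgroup.center R) := by
      have h5 : IsPGroup 2 (Subgroup.center R) := hR2.to_subgroup _
      obtain ⟨k, hk⟩ := h5.exists_card_eq
      rw [hk]
      refine dvd_pow_self 2 ?_
      rintro rfl
      rw [pow_zero] at hk
      exact absurd hk (Finite.one_lt_card).ne'
    obtain ⟨z, hz⟩ := exists_prime_orderOf_dvd_card' 2 h4
    intro h5
    have h6 : ((z : R) : C) ∈ V := by
      refine (hmem _).2 ⟨(z : R).2, fun r hr => ?_, ?_⟩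
      · have h7 := Subgroup.mem_center_iff.1 z.2 ⟨r, hr⟩
        exact (congrArg Subtype.val h7).symm
      · have h7 : z ^ 2 = 1 := by rw [← hz, pow_orderOf_eq_one]
        rw [pow_two] at h7
        exact congrArg (fun x : Subgroup.center R => ((x : R) : C)) h7
    rw [h5, mem_bot] at h6
    have h7 : z = 1 := Subtype.ext (Subtype.ext h6)
    rw [h7, orderOf_one] at hz
    norm_num at hz
  refine ⟨V, n, hVn, hVR, ?_, hn, fun v hv => ((hmem v).1 hv).2.2, fun u hu v hv => ((hmem u).1 hu).2.1 v (hVR hv), ?_⟩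
  · by_contra hcon
    have h3 : n = 0 := by omega
    rw [h3, pow_zero] at hn
    exact hVne (Subgroup.eq_bot_of_card_eq V hn)
  · intro p a b hp hC ht
    rw [← hn]
    refine dvd_card_sub_one hVn fun v hv hv1 => ?_
    have h3 : orderOf v = 2 := orderOf_eq_prime (by rw [pow_two]; exact ((hmem v).1 hv).2.2) hv1
    refine pow_dvd_of_mul hp Nat.card_pos.ne' ?_ (ht v h3)
    rw [Subgroup.card_mul_index]
    exact hC

theorem pCore_le {C : Type*} [Group C] [Finite C] (h : ∀ N : Subgroup C, N.Normal → IsPGroup 2 N → N = ⊥) :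
    pCore 2 C = ⊥ := h _ (Lib.Cores.pCore_normal (G := C) 2) (Lib.Cores.pCore_isPGroup (G := C) 2)

/-- `O_2(C(s)) = 1` if `C(s) / ⟨s⟩` has no normal 2-subgroup -/
theorem pCore_of_XX {G : Type*} [Group G] [Finite G] {s : G} (hs : Odd (orderOf s))
    (h : ∀ N : Subgroup (XX s), N.Normal → IsPGroup 2 N → N = ⊥) : pCore 2 ↥(centralizer ({s} : Set G)) = ⊥ := by
  apply pCore_le
  intro N hN hN2
  let f : ↥(centralizer ({s} : Set G)) →* XX s := QuotientGroup.mk' (Zx s)
  have h1 := h (N.map f) (hN.map f (QuotientGroup.mk'_surjective _)) (hN2.map f)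
  rw [eq_bot_iff]
  intro x hx
  have h2 : f x = 1 := by
    have h3 : f x ∈ N.map f := ⟨x, hx, rfl⟩
    rwa [h1, mem_bot] at h3
  have h3 : x ∈ Zx s := (QuotientGroup.eq_one_iff x).1 h2
  obtain ⟨k, hk⟩ := hN2 ⟨x, hx⟩
  have h4 : x ^ 2 ^ k = 1 := congrArg Subtype.val hk
  have h5 : orderOf x ∣ 2 ^ k := orderOf_dvd_of_pow_eq_one h4
  have h6 : orderOf x ∣ orderOf s := by
    have h7 : orderOf (⟨x, h3⟩ : Zx s) ∣ Nat.card (Zx s) := orderOf_dvd_natCard _
    rw [Subgroup.orderOf_mk, Zx, Nat.card_zpowers] at h7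
    have h8 : orderOf (LThreeMB.self s) = orderOf s := Subgroup.orderOf_mk _ _
    rwa [h8] at h7
  have h7 : Nat.Coprime (orderOf s) (2 ^ k) := (Nat.Coprime.pow_right k hs.coprime_two_right)
  have h8 := Nat.eq_one_of_dvd_coprimes h7 h6 h5
  rw [mem_bot]
  exact orderOf_eq_one_iff.1 h8

/-- simple groups of order divisible by 3 have no normal 2-subgroup -/
theorem of_simple {X : Type*} [Group X] [Finite X] (hX : IsSimpleGroup X) (h3 : 3 ∣ Nat.card X) (N : Subgroup X)
    (hN : N.Normal) (hN2 : IsPGroup 2 N) : N = ⊥ := by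
  rcases hN.eq_bot_or_eq_top with h | h
  · exact h
  · exfalso
    have h2 : IsPGroup 2 X := fun g => by
      obtain ⟨k, hk⟩ := hN2 ⟨g, by rw [h]; trivial⟩
      exact ⟨k, congrArg Subtype.val hk⟩
    have hf : Fact (Nat.Prime 3) := ⟨Nat.prime_three⟩
    obtain ⟨x, hx⟩ := exists_prime_orderOf_dvd_card' 3 h3
    obtain ⟨k, hk⟩ := h2 x
    have h4 : orderOf x ∣ 2 ^ k := orderOf_dvd_of_pow_eq_one hk
    rw [hx] at h4
    have h5 := Nat.prime_three.dvd_of_dvd_pow h4
    norm_num at h5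

/-- `4 |C(w)|` divides `|G|` if `w` of order 5 is conjugate to its square. -/
theorem four_mul_dvd {G : Type*} [Group G] [Finite G] {w : G} (hw : orderOf w = 5) (h : IsConj w (w ^ 2)) :
    4 * Nat.card (centralizer ({w} : Set G)) ∣ Nat.card G := by
  obtain ⟨g, hg⟩ := isConj_iff.1 h
  have hw5 : w ^ 5 = 1 := by rw [← hw, pow_orderOf_eq_one]
  have hgN : g ∈ normalizer (zpowers w : Set G) := by
    rw [mem_normalizer_iff_map_conj_eq]
    have h1 : (zpowers w).map (MulAut.conj g : G →* G) = zpowers (w ^ 2) := by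
      rw [MonoidHom.map_zpowers]
      exact congrArg zpowers hg
    rw [h1]
    apply le_antisymm
    · rw [zpowers_le]
      exact pow_mem (mem_zpowers w) 2
    · rw [zpowers_le]
      have h2 : (w ^ 2) ^ 3 = w := by
        rw [← pow_mul]
        calc w ^ (2 * 3) = w ^ 5 * w := by rw [← pow_succ]
          _ = w := by rw [hw5, one_mul]
      have h3 : (w ^ 2) ^ 3 ∈ zpowers (w ^ 2) := pow_mem (mem_zpowers _) 3
      rwa [h2] at h3
  set φ := (zpowers w).normalizerMonoidHom with hφ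
  have hk : φ.ker = (centralizer ({w} : Set G)).subgroupOf (normalizer (zpowers w : Set G)) := by
    rw [hφ, normalizerMonoidHom_ker, ← centralizer_closure ({w} : Set G), zpowers_eq_closure]
  have hle : centralizer ({w} : Set G) ≤ normalizer (zpowers w : Set G) := by
    intro c hc
    rw [mem_normalizer_iff_map_conj_eq]
    have h1 : (zpowers w).map (MulAut.conj c : G →* G) = zpowers (c * w * c⁻¹) := by
      rw [MonoidHom.map_zpowers]
      rfl
    rw [h1, mem_centralizer_singleton_iff.1 hc, mul_inv_cancel_right]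
  have hkc : Nat.card φ.ker = Nat.card (centralizer ({w} : Set G)) := by
    rw [hk]
    exact Nat.card_congr (subgroupOfEquivOfLe hle).toEquiv
  -- the powers of `g`
  have hpow : ∀ n : ℕ, g ^ n * w * (g ^ n)⁻¹ = w ^ 2 ^ n := by
    intro n
    induction n with
    | zero => rw [pow_zero, pow_zero, pow_one]; group
    | succ k ih =>
      rw [pow_succ' g k]
      calc g * g ^ k * w * (g * g ^ k)⁻¹ = g * (g ^ k * w * (g ^ k)⁻¹) * g⁻¹ := by group
        _ = (g * w * g⁻¹) ^ 2 ^ k := by rw [ih, conj_pow]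
        _ = w ^ 2 ^ (k + 1) := by rw [hg, ← pow_mul, pow_succ']
  let γ : normalizer (zpowers w : Set G) := ⟨g, hgN⟩
  have hker : ∀ n : ℕ, γ ^ n ∈ φ.ker → w ^ 2 ^ n = w := by
    intro n hn
    rw [hk, mem_subgroupOf, mem_centralizer_singleton_iff] at hn
    have h1 : g ^ n * w = w * g ^ n := hn
    rw [← hpow n, h1, mul_inv_cancel_right]
  have ho : orderOf (φ γ) = 4 := by
    have : Fact (Nat.Prime 2) := ⟨Nat.prime_two⟩
    refine orderOf_eq_prime_pow (p := 2) (n := 1) ?_ ?_
    · intro h1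
      rw [← map_pow, ← MonoidHom.mem_ker] at h1
      have h2 := hker _ h1
      have h3 : w ^ 3 = 1 := by
        have h4 : w ^ 3 * w = w := by
          rw [← pow_succ]
          exact h2
        exact mul_right_cancel (h4.trans (one_mul w).symm)
      have h4 := orderOf_dvd_of_pow_eq_one h3
      rw [hw] at h4
      norm_num at h4
    · rw [← map_pow, ← MonoidHom.mem_ker, hk, mem_subgroupOf, mem_centralizer_singleton_iff]
      change g ^ 4 * w = w * g ^ 4
      rw [← mul_inv_eq_iff_eq_mul, hpow 4]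
      calc w ^ 2 ^ 4 = (w ^ 5) ^ 3 * w := by
            rw [← pow_mul, ← pow_succ]
            norm_num
        _ = w := by rw [hw5, one_pow, one_mul]
  have h4 : 4 ∣ Nat.card φ.range := by
    rw [← ho]
    have h5 := orderOf_dvd_natCard (⟨φ γ, ⟨γ, rfl⟩⟩ : φ.range)
    rwa [← Subgroup.orderOf_coe] at h5
  have h5 : Nat.card φ.range * Nat.card φ.ker = Nat.card (normalizer (zpowers w : Set G)) := by
    rw [← Subgroup.card_mul_index φ.ker, Subgroup.index_ker, mul_comm]
  rw [← hkc]
  exact ((mul_dvd_mul_right h4 _).trans (dvd_of_eq h5)).trans (card_subgroup_dvd_card _)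
end Cfsg.Agent.H898.WkGen
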