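import Cfsg.Agent.H509.WeakBlock
import Cfsg.Agent.H898.WkGen

/-!
# Transfer of the facts along isomorphisms (helper898, for helper509's rows of S4095 at the prime 2)
-/

set_option autoImplicit false

namespace Cfsg.Agent.H898.WkTrans

open Subgroup Cfsg
open Cfsg.Agent.H509.Weak

universe u v

/-- the centralizers of `y` and `e y` are isomorphic -/
noncomputable def centEquiv' {L K : Type*} [Group L] [Group K] (e : L ≃* K) (y : L) :
    ↥(centralizer ({y} : Set L)) ≃* ↥(centralizer ({e y} : Set K)) :=
  (e.subgroupMap (centralizer ({y} : Set L))).trans (MulEquiv.subgroupCongr (by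
    ext g
    rw [mem_centralizer_singleton_iff]
    constructor
    · rintro ⟨s, hs, rfl⟩
      have h1 := mem_centralizer_singleton_iff.1 hs
      change e s * e y = e y * e s
      rw [← map_mul, ← map_mul, h1]
    · intro h
      refine ⟨e.symm g, ?_, e.apply_symm_apply g⟩
      change e.symm g ∈ centralizer ({y} : Set L)
      rw [mem_centralizer_singleton_iff]
      apply e.injective
      rw [map_mul, map_mul, e.apply_symm_apply]
      exact h))

theorem factA_congr {L : Type u} {K : Type v} [Group L] [Group K] (e : L ≃* K) (h : FactA K) : FactA L := by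
  obtain ⟨Q, hQ, hall⟩ := h
  have hc : Nat.card (Q.comap e.toMonoidHom) = Nat.card Q :=
    Nat.card_congr (e.toEquiv.subtypeEquiv fun x => Iff.rfl)
  refine ⟨Q.comap e.toMonoidHom, by rw [hc]; exact hQ, fun w hw hw2 => ?_⟩
  have ho : orderOf (e w) = orderOf w := MulEquiv.orderOf_eq e w
  rcases hall (e w) (by rw [ho]; exact hw) (by rw [ho]; exact hw2) with h1 | h1
  · exact Or.inl (pCore_equiv (centEquiv' e w).symm h1)
  · right
    rw [hc, Nat.card_congr (centEquiv' e w).toEquiv]
    exact h1

open Cfsg.Agent.H652.Four Cfsg.Agent.Blocks Cfsg.Agent.Blocks.LocalRing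

/-- `FactB` from one element of the model -/
theorem factB_of_equiv {L : Type u} {K : Type v} [Group L] [Group K] [Finite L] [Finite K] (e : L ≃* K) {x : K} (hx : x ≠ 1)
    (hO : pCore 2 ↥(centralizer ({x} : Set K)) = ⊥) (hinv : ∀ β : MulAut L, IsConj (e.symm x) (β (e.symm x)))
    (hN : ∀ M : Ideal AlgInt, IsPModular 2 M → NN M (cl x)) : FactB L := by
  refine FactB.of_cl (y := e.symm x) ?_ ?_ hinv fun M hM => NN.of_equiv e ?_
  · intro h
    apply hx
    rw [← e.apply_symm_apply x, h, map_one]
  · have h1 : pCore 2 ↥(centralizer ({e (e.symm x)} : Set K)) = ⊥ := by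
      rw [e.apply_symm_apply]
      exact hO
    exact pCore_equiv (centEquiv' e (e.symm x)).symm h1
  · rw [e.apply_symm_apply]
    exact hN M hM

end Cfsg.Agent.H898.WkTrans
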