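import Cfsg.Agent.H568.RowTools

/-!
# Tools for the sporadic rows of S4329 (helper898)

`OI' K` : every automorphism of odd order is inner (same as `H256.OddInner.OI`);
`row_of_noNorm`, `row_of_not_sq`, `row_of_order`.
-/

set_option autoImplicit false

namespace Cfsg.Agent.H898.RowTool

open Subgroup Cfsg.Agent.H568

/-- every automorphism of odd order is inner -/
def OI' (K : Type*) [Group K] : Prop := ∀ α : MulAut K, Odd (orderOf α) → ∃ g : K, α = MulAut.conj g

theorem hna_of_card {K : Type*} [Group K] [Finite K] [IsSimpleGroup K] (h2 : 2 ∣ Nat.card K) (h3 : Nat.card K ≠ 2) :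
    ¬ IsMulCommutative K := by
  intro h
  let _ : CommGroup K := { (inferInstance : Group K) with mul_comm := h.is_comm.comm }
  have h1 : (Nat.card K).Prime := IsSimpleGroup.prime_card
  exact h3 (((Nat.prime_dvd_prime_iff_eq Nat.prime_two h1).1 h2).symm)

variable {K : Type*} [Group K] [Finite K] [IsSimpleGroup K] {p : ℕ}

theorem row_of_noNorm (hna : ¬ IsMulCommutative K) (hOI : OI' K) (hp : Fact p.Prime) (hp2 : p ≠ 2) {x : K}
    (hx : NoNorm p x) : Row p K :=
  row_of hna fun a ha => Or.inr (Or.inl ⟨hOI a (by rw [ha]; exact hp.out.odd_of_ne_two hp2), x, hx⟩)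

/-- primes dividing the order at most once -/
theorem row_of_not_sq (hna : ¬ IsMulCommutative K) (hOI : OI' K) (hp : Fact p.Prime) (hp2 : p ≠ 2)
    (h : ¬ p ^ 2 ∣ Nat.card K) : Row p K := by
  refine row_of hna fun a ha => Or.inl ⟨hOI a (by rw [ha]; exact hp.out.odd_of_ne_two hp2), ?_⟩
  obtain ⟨P⟩ : Nonempty (Sylow p K) := inferInstance
  refine ⟨P, ?_⟩
  obtain ⟨k, hk⟩ := IsPGroup.iff_card.1 P.2
  have hk2 : k < 2 := by
    by_contra hc
    push Not at hc
    exact h ((pow_dvd_pow p hc).trans (hk ▸ card_subgroup_dvd_card (P : Subgroup K)))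
  have hk' : k = 0 ∨ k = 1 := by omega
  rcases hk' with rfl | rfl
  · rw [pow_zero] at hk
    have h1 : Subsingleton ↥(P : Subgroup K) := (Nat.card_eq_one_iff_unique.1 hk).1
    exact isCyclic_of_subsingleton
  · rw [pow_one] at hk
    exact isCyclic_of_prime_card hk

/-- an element of prime order `l` commuting with no element of order `p` -/
theorem row_of_order (hna : ¬ IsMulCommutative K) (hOI : OI' K) (hp : Fact p.Prime) (hp2 : p ≠ 2) {l : ℕ}
    (hl : l.Prime) (hld : l ∣ Nat.card K)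
    (hcen : ∀ x y : K, orderOf x = l → orderOf y = p → x * y ≠ y * x)
    (hord : ∀ k : ℕ, k ≠ 0 → p ^ k ∣ Nat.card K → ¬ l ∣ p ^ k - 1) : Row p K := by
  have : Fact l.Prime := ⟨hl⟩
  obtain ⟨x, hx⟩ := exists_prime_orderOf_dvd_card' l hld
  exact row_of_noNorm hna hOI hp hp2 (noNorm_of_order hl hx (fun y hy => hcen x y hx hy) hord)

/-- bound for the powers of `p` dividing the order -/
theorem ord_of {n p e l : ℕ} (he : ¬ p ^ (e + 1) ∣ n) (hlist : ∀ k ∈ Finset.range (e + 1), k ≠ 0 → ¬ l ∣ p ^ k - 1) :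
    ∀ k : ℕ, k ≠ 0 → p ^ k ∣ n → ¬ l ∣ p ^ k - 1 := by
  intro k hk0 hk
  refine hlist k (Finset.mem_range.2 ?_) hk0
  by_contra hc
  push Not at hc
  exact he ((pow_dvd_pow p hc).trans hk)

end Cfsg.Agent.H898.RowTool
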