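import Cfsg.Agent.H898.RowMcL
import Cfsg.Agent.H256.OddInner

/-!
# The rows of S4329 for `Co1`, `Co2`, `Co3`, `McL`, `J3` (helper898)
-/

set_option autoImplicit false

namespace Cfsg.Agent.H898.RowSpor

open Cfsg Cfsg.Agent.H568

variable (K : Type*) [Group K] [Finite K] [IsSimpleGroup K]

theorem row_co1 (h : Spor.IsoCo1 K) (p : ℕ) [hp : Fact p.Prime] (hp2 : p ≠ 2) : Row p K :=
  RowCo.row_co1 h (Cfsg.Agent.H256.OddInner.co1 h) p hp hp2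

theorem row_co2 (h : Spor.IsoCo2 K) (p : ℕ) [hp : Fact p.Prime] (hp2 : p ≠ 2) : Row p K :=
  RowCo.row_co2 h (Cfsg.Agent.H256.OddInner.co2 h) p hp hp2

theorem row_co3 (h : Spor.IsoCo3 K) (p : ℕ) [hp : Fact p.Prime] (hp2 : p ≠ 2) : Row p K :=
  RowCo.row_co3 h (Cfsg.Agent.H256.OddInner.co3 h) p hp hp2

theorem row_mcl (h : Spor.IsoMcL K) (p : ℕ) [hp : Fact p.Prime] (hp2 : p ≠ 2) : Row p K :=
  RowMcL.row_mcl h (Cfsg.Agent.H256.OddInner.mcl h) p hp hp2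

theorem row_j3 (h : Spor.IsoJ3 K) (p : ℕ) [hp : Fact p.Prime] (hp2 : p ≠ 2) : Row p K :=
  RowCo.row_j3 h (Cfsg.Agent.H256.OddInner.j3 h) p hp hp2

end Cfsg.Agent.H898.RowSpor
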