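import Mathlib

/-!
# The involutions of the alternating group of degree eight (helper898)

* `conj_fpf` : two fixed point free involutions of `A₈` are conjugate;
* `conj_fix` : an involution with a fixed point is conjugate to `(0 1)(2 3)`;
* `card_cent_fpf` : the centralizer of a fixed point free involution has order at least 192;
* explicit elements.
-/

set_option autoImplicit false

namespace Cfsg.Agent.H898.AltEight

open Equiv Equiv.Perm Subgroup

/-- the group -/
abbrev A8 : Type := ↥(alternatingGroup (Fin 8))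

/-- a fixed point free involution -/
def Fpf (a : A8) : Prop := a * a = 1 ∧ ∀ i, (a : Perm (Fin 8)) i ≠ i

/-- `(0 1)(2 3)` -/
def s0 : Perm (Fin 8) := swap 0 1 * swap 2 3

theorem s0_mem : s0 ∈ alternatingGroup (Fin 8) := by
  rw [mem_alternatingGroup]; decide

theorem exists_replicate {σ : Perm (Fin 8)} (h : σ * σ = 1) (h1 : σ ≠ 1) :
    ∃ n, σ.cycleType = Multiset.replicate (n + 1) 2 := by
  have ho : orderOf σ = 2 := orderOf_eq_prime (by rw [pow_two, h]) h1
  obtain ⟨n, hn⟩ := cycleType_prime_order (σ := σ) (by rw [ho]; exact Nat.prime_two)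
  exact ⟨n, by rw [hn, ho]⟩

/-- an even involution has type `2^2` or `2^4` -/
theorem type_cases {a : A8} (h : a * a = 1) (h1 : a ≠ 1) :
    (a : Perm (Fin 8)).cycleType = Multiset.replicate 2 2 ∨ (a : Perm (Fin 8)).cycleType = Multiset.replicate 4 2 := by
  obtain ⟨n, hn⟩ := exists_replicate (σ := (a : Perm (Fin 8))) (congrArg Subtype.val h) (fun h => h1 (Subtype.ext h))
  have hs : sign (a : Perm (Fin 8)) = 1 := mem_alternatingGroup.1 a.2
  rw [sign_of_cycleType, hn] at hs
  have hsum : (a : Perm (Fin 8)).cycleType.sum ≤ 8 := by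
    rw [sum_cycleType]
    exact (Finset.card_le_univ _).trans (by simp)
  rw [hn, Multiset.sum_replicate, smul_eq_mul] at hsum
  have hn4 : n < 4 := by omega
  interval_cases n
  · exact absurd hs (by decide)
  · left; exact hn
  · exact absurd hs (by decide)
  · right; exact hn

theorem fpf_iff {a : A8} (h : a * a = 1) (h1 : a ≠ 1) :
    Fpf a ↔ (a : Perm (Fin 8)).cycleType = Multiset.replicate 4 2 := by
  have hc : (a : Perm (Fin 8)).cycleType.sum = (a : Perm (Fin 8)).support.card := sum_cycleType _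
  constructor
  · intro hf
    rcases type_cases h h1 with h2 | h2
    · exfalso
      rw [h2, Multiset.sum_replicate] at hc
      have : (a : Perm (Fin 8)).support = Finset.univ := by
        ext i
        simp only [mem_support, Finset.mem_univ, iff_true]
        exact hf.2 i
      rw [this] at hc
      simp at hc
    · exact h2
  · intro h2
    refine ⟨h, fun i hi => ?_⟩
    rw [h2, Multiset.sum_replicate] at hc
    have h3 : (a : Perm (Fin 8)).support = Finset.univ := by
      apply Finset.eq_univ_of_card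
      rw [← hc]; simp
    have h4 : i ∈ (a : Perm (Fin 8)).support := by rw [h3]; exact Finset.mem_univ i
    exact mem_support.1 h4 hi

theorem Fpf.ne_one {a : A8} (h : Fpf a) : a ≠ 1 := by
  rintro rfl
  exact h.2 0 rfl

/-- conjugacy in `A₈` from conjugacy in `S₈` and an odd permutation centralizing -/
theorem conj_of_cycleType {a b : A8} (h : (a : Perm (Fin 8)).cycleType = (b : Perm (Fin 8)).cycleType)
    {c : Perm (Fin 8)} (hc : sign c = -1) (hca : c * a = a * c) : ∃ g : A8, g * a * g⁻¹ = b := by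
  obtain ⟨g, hg⟩ := isConj_iff.1 (isConj_of_cycleType_eq h)
  rcases Int.units_eq_one_or (sign g) with h1 | h1
  · exact ⟨⟨g, mem_alternatingGroup.2 h1⟩, Subtype.ext hg⟩
  · refine ⟨⟨g * c, mem_alternatingGroup.2 (by rw [Perm.sign_mul, h1, hc]; decide)⟩, Subtype.ext ?_⟩
    show g * c * a * (g * c)⁻¹ = b
    rw [← hg, mul_assoc g c, hca]
    group

/-- `(0 1)(2 3)(4 5)(6 7)` -/
def t0 : Perm (Fin 8) := swap 0 1 * swap 2 3 * swap 4 5 * swap 6 7

theorem t0_mem : t0 ∈ alternatingGroup (Fin 8) := by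
  rw [mem_alternatingGroup]; decide

/-- the element `(0 1)(2 3)(4 5)(6 7)` -/
def T0 : A8 := ⟨t0, t0_mem⟩

/-- the element `(0 1)(2 3)` -/
def S0 : A8 := ⟨s0, s0_mem⟩

theorem T0_sq : T0 * T0 = 1 := by
  apply Subtype.ext; show t0 * t0 = 1; decide

theorem S0_sq : S0 * S0 = 1 := by
  apply Subtype.ext; show s0 * s0 = 1; decide

theorem fpf_T0 : Fpf T0 := ⟨T0_sq, by show ∀ i, t0 i ≠ i; decide⟩

theorem S0_ne : S0 ≠ 1 := by
  intro h
  have h1 : s0 = 1 := congrArg Subtype.val h
  have h2 := congrArg (fun p : Perm (Fin 8) => p 0) h1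
  revert h2
  decide

theorem S0_not : ¬ Fpf S0 := fun h => h.2 4 (by decide)

theorem type_S0 : s0.cycleType = Multiset.replicate 2 2 := by
  rcases type_cases S0_sq S0_ne with h | h
  · exact h
  · exact absurd ((fpf_iff S0_sq S0_ne).2 h) S0_not

theorem type_T0 : t0.cycleType = Multiset.replicate 4 2 := (fpf_iff T0_sq fpf_T0.ne_one).1 fpf_T0

theorem conj_T0 {a : A8} (h : Fpf a) : ∃ g : A8, g * T0 * g⁻¹ = a := by
  apply conj_of_cycleType (c := swap 0 1)
  · exact type_T0.trans ((fpf_iff h.1 h.ne_one).1 h).symm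
  · decide
  · show swap 0 1 * t0 = t0 * swap 0 1
    decide

/-- two fixed point free involutions are conjugate -/
theorem conj_fpf {a b : A8} (ha : Fpf a) (hb : Fpf b) : ∃ g : A8, g * a * g⁻¹ = b := by
  obtain ⟨g, hg⟩ := conj_T0 ha
  obtain ⟨k, hk⟩ := conj_T0 hb
  refine ⟨k * g⁻¹, ?_⟩
  rw [← hk, ← hg]
  group

theorem conj_fix {a : A8} (h : a * a = 1) (h1 : a ≠ 1) (hn : ¬ Fpf a) : ∃ g : A8, g * S0 * g⁻¹ = a := by
  apply conj_of_cycleType (c := swap 0 1)
  · rcases type_cases h h1 with h2 | h2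
    · exact type_S0.trans h2.symm
    · exact absurd ((fpf_iff h h1).2 h2) hn
  · decide
  · show swap 0 1 * s0 = s0 * swap 0 1
    decide

theorem Fpf.conj {a : A8} (h : Fpf a) (g : A8) : Fpf (g * a * g⁻¹) := by
  constructor
  · have : g * a * g⁻¹ * (g * a * g⁻¹) = g * (a * a) * g⁻¹ := by group
    rw [this, h.1]; group
  · intro i hi
    have h1 : (g : Perm (Fin 8)) ((a : Perm (Fin 8)) ((g : Perm (Fin 8))⁻¹ i)) = i := hi
    apply h.2 ((g : Perm (Fin 8))⁻¹ i)
    exact (g : Perm (Fin 8)).injective (h1.trans (by simp))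

/-- the order of the centralizer of a fixed point free involution -/
theorem card_cent_T0 : 192 ≤ Nat.card (centralizer ({T0} : Set A8)) := by
  have h1 : Nat.card (centralizer ({t0} : Set (Perm (Fin 8)))) = 384 := by
    rw [nat_card_centralizer, type_T0]
    simp
    decide
  have h2 : (centralizer ({t0} : Set (Perm (Fin 8)))).subgroupOf (alternatingGroup (Fin 8)) =
      centralizer ({T0} : Set A8) := by
    ext g
    rw [mem_subgroupOf, mem_centralizer_singleton_iff, mem_centralizer_singleton_iff]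
    constructor
    · intro h; exact Subtype.ext h
    · intro h; exact congrArg Subtype.val h
  have h3 : (alternatingGroup (Fin 8)).relIndex (centralizer ({t0} : Set (Perm (Fin 8)))) ≤ 2 := by
    apply Nat.le_of_dvd (by norm_num)
    rw [← alternatingGroup.index_eq_two (α := Fin 8)]
    exact relIndex_dvd_index_of_normal _ _
  have h4 := card_mul_index ((alternatingGroup (Fin 8)).subgroupOf (centralizer ({t0} : Set (Perm (Fin 8)))))
  have h5 : Nat.card ((alternatingGroup (Fin 8)).subgroupOf (centralizer ({t0} : Set (Perm (Fin 8))))) =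
      Nat.card (centralizer ({T0} : Set A8)) := by
    rw [← h2, ← card_map_of_injective (alternatingGroup (Fin 8)).subtype_injective,
      ← card_map_of_injective (centralizer ({t0} : Set (Perm (Fin 8)))).subtype_injective,
      subgroupOf_map_subtype, subgroupOf_map_subtype, inf_comm]
  rw [h5, h1] at h4
  have h6 : ((alternatingGroup (Fin 8)).subgroupOf (centralizer ({t0} : Set (Perm (Fin 8))))).index ≤ 2 := h3
  nlinarith

/-! ### Explicit elements -/

/-- `(0 2)(1 4)(3 5)(6 7)` -/
def c0 : Perm (Fin 8) := swap 0 2 * swap 1 4 * swap 3 5 * swap 6 7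

/-- `(0 2)(1 3)(4 6)(5 7)` -/
def b0 : Perm (Fin 8) := swap 0 2 * swap 1 3 * swap 4 6 * swap 5 7

/-- `(0 2)(1 4)(3 5)(6 7)` -/
def C0 : A8 := ⟨c0, by rw [mem_alternatingGroup]; decide +kernel⟩

/-- `(0 2)(1 3)(4 6)(5 7)` -/
def B0 : A8 := ⟨b0, by rw [mem_alternatingGroup]; decide +kernel⟩

theorem fpf_C0 : Fpf C0 :=
  ⟨Subtype.ext (show c0 * c0 = 1 by decide +kernel), show ∀ i, c0 i ≠ i by decide +kernel⟩

theorem fpf_B0 : Fpf B0 :=
  ⟨Subtype.ext (show b0 * b0 = 1 by decide +kernel), show ∀ i, b0 i ≠ i by decide +kernel⟩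

theorem fpf_T0_B0 : Fpf (T0 * B0) :=
  ⟨Subtype.ext (show t0 * b0 * (t0 * b0) = 1 by decide +kernel), show ∀ i, (t0 * b0) i ≠ i by decide +kernel⟩

theorem S0_C0_pow_four : (S0 * C0) ^ 4 ≠ 1 := by
  intro h
  have h1 := congrArg Subtype.val h
  rw [Subgroup.coe_pow, Subgroup.coe_mul, Subgroup.coe_one] at h1
  have h2 : (s0 * c0) ^ 4 ≠ 1 := by decide +kernel
  exact h2 h1

theorem S0_C0_pow_three : (S0 * C0) ^ 3 ≠ 1 := by
  intro h
  have h1 := congrArg Subtype.val h
  rw [Subgroup.coe_pow, Subgroup.coe_mul, Subgroup.coe_one] at h1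
  have h2 : (s0 * c0) ^ 3 ≠ 1 := by decide +kernel
  exact h2 h1

theorem center : Subgroup.center A8 = ⊥ := alternatingGroup.center_eq_bot (by simp)

end Cfsg.Agent.H898.AltEight
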