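import Cfsg.Agent.H898.PDLin

/-!
# S4246, orthogonal groups: isometries of odd order (helper898)

* `even_R` : `dim [V, s]` is even for an isometry `s` of odd order prime to the characteristic;
* `triv_of_noTI` : a `p`-group normalised by `y`, no nonzero `y`-invariant totally isotropic subspaces;
* `card_dvd_unitary` : groups of isometries commuting with an irreducible isometry;
* `card_dvd_three` : `t`-groups of isometries in dimension `3`;
* `pow_of_conj` : `y x = x ^ k y`, `x` irreducible on `R x`: `x ^ (k ^ dim R x) = x`.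
-/

set_option autoImplicit false
set_option linter.unusedSectionVars false

namespace Cfsg.Agent.H898.PDLin

open Module Cfsg.Agent.H200.LinFix

variable {F : Type*} [Field F] {V : Type*} [AddCommGroup V] [Module F V] {B : LinearMap.BilinForm F V}

theorem ns_R [Finite V] (hB : NS B) {s : Module.End F V} (hs : Isom B s) {m : ℕ} (hmF : (m : F) ≠ 0)
    (hsm : s ^ m = 1) : NS (B.restrict (R s)) :=
  ⟨fun a b => hB.symm a b, fun v hv => Subtype.ext (nondeg_R hs hB.nd hsm hmF v.2 fun u hu => hv ⟨u, hu⟩)⟩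

theorem ns_K [Finite V] (hB : NS B) {s : Module.End F V} (hs : Isom B s) {m : ℕ} (hmF : (m : F) ≠ 0)
    (hsm : s ^ m = 1) : NS (B.restrict (K s)) :=
  ⟨fun a b => hB.symm a b, fun v hv => Subtype.ext (nondeg_K hs hB.nd hsm hmF v.2 fun u hu => hv ⟨u, hu⟩)⟩

theorem fix_of_sq' [Finite V] {s : Module.End F V} {m : ℕ} (hm : Odd m) (hsm : s ^ m = 1) {w : V} (h : s (s w) = w) : s w = w := by
  apply fix_of_coprime (m := 2) (n := m) h (by rw [hsm]; rfl)
  exact (Nat.coprime_two_left).2 hm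

/-- **`dim [V, s]` is even.** -/
theorem even_R [Finite V] (hB : NS B) {s : Module.End F V} (hs : Isom B s) {m : ℕ} (hm : Odd m) (hmF : (m : F) ≠ 0)
    (hsm : s ^ m = 1) : Even (finrank F (R s)) := by
  have hfd : FiniteDimensional F V := inferInstance
  have hm1 : 1 ≤ m := hm.pos
  have hinv : ∀ v, s ((s ^ (m - 1)) v) = v := fun v => by
    rw [← Module.End.mul_apply, ← pow_succ', Nat.sub_add_cancel hm1, hsm, Module.End.one_apply]
  have hRp : ∀ k : ℕ, ∀ w ∈ R s, (s ^ k) w ∈ R s := fun k w hw => R_inv (by rw [← pow_succ, ← pow_succ']) hw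
  let D : Module.End F (R s) := (s - s ^ (m - 1)).restrict fun w hw =>
    Submodule.sub_mem _ (by simpa using hRp 1 w hw) (hRp _ w hw)
  let A : LinearMap.BilinForm F (R s) := (B.restrict (R s)).compRight D
  have hA : ∀ u v : R s, A u v = B u (s v) - B u ((s ^ (m - 1)) v) := fun u v => by
    change B u (s v - (s ^ (m - 1)) v) = _
    rw [map_sub]
  have hswap : ∀ u v : V, B u ((s ^ (m - 1)) v) = B (s u) v := fun u v => by
    conv_rhs => rw [← hinv v]
    exact (hs u _).symm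
  have hAalt : A.IsAlt := by
    intro v
    rw [hA, hswap, hB.symm (s v), sub_self]
  obtain ⟨k, hk⟩ := ClassicalGeometry.TwoFamilies.exists_finrank_eq_ker_add A hAalt
  have hker : LinearMap.ker A = ⊥ := by
    rw [LinearMap.ker_eq_bot']
    intro u hu
    have h1 : ∀ v : R s, A v u = 0 := fun v => by
      rw [← LinearMap.IsAlt.neg hAalt u v, hu, LinearMap.zero_apply, neg_zero]
    have h2 : s u - (s ^ (m - 1)) u = 0 := by
      apply nondeg_R hs hB.nd hsm hmF
      · exact Submodule.sub_mem _ (by simpa using hRp 1 u u.2) (hRp _ u u.2)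
      · intro v hv
        have h3 := h1 ⟨v, hv⟩
        rw [hA] at h3
        rw [map_sub]
        exact h3
    have h3 : s (s u) = u := by
      rw [sub_eq_zero.1 h2, hinv]
    exact Subtype.ext (eq_zero_of_mem hsm hmF (fix_of_sq' hm hsm h3) u.2)
  rw [hker, finrank_bot, zero_add] at hk
  exact ⟨k, hk⟩

/-! ### `p`-groups normalised by an isometry -/

theorem triv_of_noTI [Finite V] (hB : NS B) {P : Type*} [Group P] [Finite P] {p : ℕ} [hp : Fact p.Prime]
    (hP : IsPGroup p P) (ρ : P →* Module.End F V) (hpF : (p : F) = 0) (hiso : ∀ g, Isom B (ρ g))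
    {y y' : Module.End F V} (hy : Isom B y) (hyy : ∀ v, y (y' v) = v)
    (hn : ∀ g, ∃ g', ∀ v, ρ g (y v) = y (ρ g' v)) (hn' : ∀ g, ∃ g', ∀ v, ρ g (y' v) = y' (ρ g' v))
    (hti : ∀ U : Submodule F V, (∀ u ∈ U, y u ∈ U) → (∀ u ∈ U, ∀ v ∈ U, B u v = 0) → (∀ g, ∀ u ∈ U, ρ g u = u) →
      U = ⊥) : ∀ g v, ρ g v = v := by
  let U₀ : Submodule F V :=
    { carrier := {v | ∀ g, ρ g v = v}
      add_mem' := fun {a b} ha hb g => by rw [map_add, ha g, hb g]
      zero_mem' := fun g => map_zero _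
      smul_mem' := fun c v hv g => by rw [map_smul, hv g] }
  let U₁ : Submodule F V :=
    { carrier := {v | ∀ u ∈ U₀, B u v = 0}
      add_mem' := fun {a b} ha hb u hu => by rw [map_add, ha u hu, hb u hu, add_zero]
      zero_mem' := fun u _ => map_zero _
      smul_mem' := fun c v hv u hu => by rw [map_smul, hv u hu, smul_zero] }
  have hy0 : ∀ u ∈ U₀, y u ∈ U₀ := by
    intro u hu g
    obtain ⟨g', hg'⟩ := hn g
    rw [hg', hu g']
  have hy0' : ∀ u ∈ U₀, y' u ∈ U₀ := by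
    intro u hu g
    obtain ⟨g', hg'⟩ := hn' g
    rw [hg', hu g']
  have hy1 : ∀ u ∈ U₁, y u ∈ U₁ := by
    intro v hv u hu
    have h1 := hy (y' u) v
    rw [hyy] at h1
    rw [h1]
    exact hv _ (hy0' u hu)
  have hbot : U₀ ⊓ U₁ = ⊥ := hti _ (fun u hu => ⟨hy0 u hu.1, hy1 u hu.2⟩) (fun u hu v hv => hv.2 u hu.1)
    (fun g u hu => hu.1 g)
  have hP1 : ∀ g, ∀ v ∈ U₁, ρ g v ∈ U₁ := by
    intro g v hv u hu
    have h1 := hiso g u v
    rw [hu g] at h1
    rw [h1]
    exact hv u hu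
  have h4 : U₁ = ⊥ := eq_bot_of_fixed hP ρ hpF hP1 fun w hw hfix => by
    have h5 : w ∈ U₀ ⊓ U₁ := ⟨hfix, hw⟩
    rw [hbot] at h5
    exact h5
  have hfd : FiniteDimensional F V := inferInstance
  have h5 : U₀ = ⊤ := by
    have h6 : LinearMap.BilinForm.orthogonal B U₀ = U₁ := by
      ext v
      rfl
    have hnd : B.Nondegenerate :=
      ⟨fun v hv => hB.nd v fun u => by rw [hB.symm]; exact hv u, fun v hv => hB.nd v hv⟩
    have h7 := LinearMap.BilinForm.finrank_orthogonal hnd U₀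
    rw [h6, h4, finrank_bot] at h7
    have h8 : finrank F U₀ ≤ finrank F V := Submodule.finrank_le _
    exact Submodule.eq_top_of_finrank_eq (by omega)
  intro g v
  have h6 : v ∈ U₀ := h5 ▸ Submodule.mem_top
  exact h6 g

/-! ### splitting along two subspaces -/

theorem card_le_two [Finite V] [Finite F] (h2 : (2 : F) ≠ 0) {p : ℕ} [hp : Fact p.Prime] (hpF : (p : F) = 0)
    {P : Type*} [Group P] [Finite P] (hP : IsPGroup p P) (ρ : P →* Module.End F V) (hρ : Function.Injective ρ)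
    (hiso : ∀ g, Isom B (ρ g)) {W₁ W₂ : Submodule F V} (h₁ : ∀ g, ∀ w ∈ W₁, ρ g w ∈ W₁)
    (h₂ : ∀ g, ∀ w ∈ W₂, ρ g w ∈ W₂) (hW : W₁ ⊔ W₂ = ⊤) (hn₁ : NS (B.restrict W₁)) (hn₂ : NS (B.restrict W₂))
    {a b : ℕ} (ha : finrank F W₁ ≤ a) (hb : finrank F W₂ ≤ b) :
    Nat.card P ≤ Nat.card F ^ ((a - 1) ^ 2 / 4 + (b - 1) ^ 2 / 4) := by
  set τ := res ρ W₁ h₁ with hτ
  have h3 : Nat.card (P ⧸ τ.ker) ≤ Nat.card F ^ ((a - 1) ^ 2 / 4) := by
    refine card_le h2 hpF a (B.restrict W₁) hn₁ ha (hP.to_quotient _) (QuotientGroup.lift τ.ker τ le_rfl) ?_ ?_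
    · intro a b hab
      obtain ⟨a, rfl⟩ := QuotientGroup.mk_surjective a
      obtain ⟨b, rfl⟩ := QuotientGroup.mk_surjective b
      rw [QuotientGroup.lift_mk', QuotientGroup.lift_mk'] at hab
      rw [QuotientGroup.eq, MonoidHom.mem_ker, map_mul, ← hab, ← map_mul, inv_mul_cancel, map_one]
    · intro a
      obtain ⟨a, rfl⟩ := QuotientGroup.mk_surjective a
      rw [QuotientGroup.lift_mk']
      exact iso_res (hiso a)
  have h4 : Nat.card τ.ker ≤ Nat.card F ^ ((b - 1) ^ 2 / 4) := by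
    refine card_le h2 hpF b (B.restrict W₂) hn₂ hb (hP.to_subgroup τ.ker)
      (res (ρ.comp τ.ker.subtype) W₂ fun g => h₂ g) ?_ (fun g => iso_res (hiso g))
    rw [← MonoidHom.ker_eq_bot_iff, eq_bot_iff]
    intro g hg'
    have hg : ∀ w ∈ W₂, ρ g w = w := mem_ker_res.1 hg'
    rw [Subgroup.mem_bot]
    apply Subtype.ext
    apply hρ
    rw [OneMemClass.coe_one, map_one]
    refine LinearMap.ext fun x => ?_
    obtain ⟨w₁, hw₁, w₂, hw₂, rfl⟩ := Submodule.mem_sup.1 (show x ∈ W₁ ⊔ W₂ by rw [hW]; exact Submodule.mem_top)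
    have h5 : ρ g w₂ = w₂ := hg w₂ hw₂
    have h6 := mem_ker_res.1 g.2 w₁ hw₁
    rw [map_add, h5, h6]
    rfl
  calc Nat.card P = Nat.card (P ⧸ τ.ker) * Nat.card τ.ker := Subgroup.card_eq_card_quotient_mul_card_subgroup _
    _ ≤ Nat.card F ^ ((a - 1) ^ 2 / 4) * Nat.card F ^ ((b - 1) ^ 2 / 4) := Nat.mul_le_mul h3 h4
    _ = Nat.card F ^ ((a - 1) ^ 2 / 4 + (b - 1) ^ 2 / 4) := (pow_add _ _ _).symm

theorem sup_KR [Finite V] {s : Module.End F V} {m : ℕ} (hmF : (m : F) ≠ 0) (hsm : s ^ m = 1) : R s ⊔ K s = ⊤ := by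
  have hfd : FiniteDimensional F V := inferInstance
  rw [sup_comm]
  exact (isCompl hsm hmF).sup_eq_top

theorem arith1 {n j : ℕ} (hj : 1 ≤ j) (hjn : j ≤ n) :
    (j + j - 1) ^ 2 / 4 + (2 * n + 1 - (j + j) - 1) ^ 2 / 4 ≤ n * (n - 1) := by
  obtain ⟨i, rfl⟩ := Nat.exists_eq_add_of_le' hj
  obtain ⟨k, rfl⟩ := Nat.exists_eq_add_of_le hjn
  have h1 : i + 1 + (i + 1) - 1 = 2 * i + 1 := by omega
  have h2 : 2 * (i + 1 + k) + 1 - (i + 1 + (i + 1)) - 1 = 2 * k := by omega
  have h3 : i + 1 + k - 1 = i + k := by omega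
  rw [h1, h2, h3]
  have h4 : (2 * i + 1) ^ 2 / 4 = i * (i + 1) := by
    rw [show (2 * i + 1) ^ 2 = 1 + i * (i + 1) * 4 by ring, Nat.add_mul_div_right _ _ (by norm_num)]
    norm_num
  have h5 : (2 * k) ^ 2 / 4 = k ^ 2 := by
    rw [show (2 * k) ^ 2 = k ^ 2 * 4 by ring, Nat.mul_div_cancel _ (by norm_num)]
  rw [h4, h5]
  nlinarith [Nat.zero_le (i * k), Nat.zero_le k, Nat.zero_le i]

/-- **The `p`-part of the centraliser of an isometry of odd order**, dimension `2 n + 1`. -/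
theorem card_le_comm [Finite V] [Finite F] (hB : NS B) (h2 : (2 : F) ≠ 0) {p : ℕ} [hp : Fact p.Prime]
    (hpF : (p : F) = 0) {P : Type*} [Group P] [Finite P] (hP : IsPGroup p P) (ρ : P →* Module.End F V)
    (hρ : Function.Injective ρ) (hiso : ∀ g, Isom B (ρ g)) {n : ℕ} (hV : finrank F V = 2 * n + 1)
    {s : Module.End F V} (hs : Isom B s) {m : ℕ} (hm : Odd m) (hmF : (m : F) ≠ 0) (hsm : s ^ m = 1) (hs1 : s ≠ 1)
    (hc : ∀ g, ρ g * s = s * ρ g) : Nat.card P ≤ Nat.card F ^ (n * (n - 1)) := by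
  have hfd : FiniteDimensional F V := inferInstance
  obtain ⟨j, hj⟩ := even_R hB hs hm hmF hsm
  have h1 := finrank_add s
  have h3 : finrank F (R s) ≠ 0 := by
    intro h0
    rw [Submodule.finrank_eq_zero, R_eq_bot] at h0
    exact hs1 h0
  refine (card_le_two h2 hpF hP ρ hρ hiso (fun g w hw => R_inv (hc g) hw) (fun g w hw => K_inv (hc g) hw)
    (sup_KR hmF hsm) (ns_R hB hs hmF hsm) (ns_K hB hs hmF hsm) hj.le
    (show finrank F (K s) ≤ 2 * n + 1 - (j + j) by omega)).trans (Nat.pow_le_pow_right Nat.card_pos ?_)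
  exact arith1 (by omega) (by omega)

/-- a `p`-group commuting with `y` acts trivially on `R y` if `y` is irreducible there -/
theorem fix_of_irr [Finite V] {p : ℕ} [hp : Fact p.Prime] (hpF : (p : F) = 0) {P : Type*} [Group P]
    [Finite P] (hP : IsPGroup p P) (ρ : P →* Module.End F V) {y : Module.End F V} (hirr : Irr y (R y))
    (hc : ∀ g, ρ g * y = y * ρ g) (g : P) {w : V} (hw : w ∈ R y) : ρ g w = w := by
  let U₀ : Submodule F V :=
    { carrier := {v | v ∈ R y ∧ ∀ g, ρ g v = v}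
      add_mem' := fun {a b} ha hb => ⟨Submodule.add_mem _ ha.1 hb.1, fun g => by rw [map_add, ha.2 g, hb.2 g]⟩
      zero_mem' := ⟨Submodule.zero_mem _, fun g => map_zero _⟩
      smul_mem' := fun c v hv => ⟨Submodule.smul_mem _ _ hv.1, fun g => by rw [map_smul, hv.2 g]⟩ }
  rcases hirr U₀ (fun u hu => hu.1) (fun u hu => ⟨R_inv rfl hu.1, fun g => by
    rw [← Module.End.mul_apply, hc, Module.End.mul_apply, hu.2 g]⟩) with h | h
  · have h1 : R y = ⊥ := eq_bot_of_fixed hP ρ hpF (fun g w hw => R_inv (hc g) hw) fun w hw hfix => by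
      have h2 : w ∈ U₀ := ⟨hw, hfix⟩
      rw [h] at h2
      exact h2
    rw [h1, Submodule.mem_bot] at hw
    rw [hw, map_zero]
  · rw [← h] at hw
    exact hw.2 g

/-- **The `p`-part of the centraliser of an irreducible isometry.** -/
theorem card_le_irr [Finite V] [Finite F] (hB : NS B) (h2 : (2 : F) ≠ 0) {p : ℕ} [hp : Fact p.Prime]
    (hpF : (p : F) = 0) {P : Type*} [Group P] [Finite P] (hP : IsPGroup p P) (ρ : P →* Module.End F V)
    (hρ : Function.Injective ρ) (hiso : ∀ g, Isom B (ρ g)) {y : Module.End F V} (hy : Isom B y) {m : ℕ}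
    (hmF : (m : F) ≠ 0) (hym : y ^ m = 1) (hirr : Irr y (R y)) (hc : ∀ g, ρ g * y = y * ρ g) {a : ℕ}
    (ha : finrank F (K y) ≤ a) : Nat.card P ≤ Nat.card F ^ ((a - 1) ^ 2 / 4) := by
  refine card_le h2 hpF a (B.restrict (K y)) (ns_K hB hy hmF hym) ha hP
    (res ρ (K y) fun g w hw => K_inv (hc g) hw) ?_ (fun g => iso_res (hiso g))
  rw [← MonoidHom.ker_eq_bot_iff, eq_bot_iff]
  intro g hg
  rw [mem_ker_res] at hg
  rw [Subgroup.mem_bot]
  apply hρ
  rw [map_one]
  refine LinearMap.ext fun x => ?_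
  obtain ⟨w₁, hw₁, w₂, hw₂, rfl⟩ := Submodule.mem_sup.1 (show x ∈ R y ⊔ K y by
    rw [sup_KR hmF hym]; exact Submodule.mem_top)
  rw [map_add, fix_of_irr hpF hP ρ hirr hc g hw₁, hg w₂ hw₂]
  rfl

/-! ### groups commuting with an irreducible isometry -/

section unitary

variable [Finite V] [Nontrivial V] {g : Module.End F V}

/-- a finite group commuting with an irreducible endomorphism is cyclic -/
theorem isCyclic_of_comm (hirr : ∀ U : Submodule F V, (∀ u ∈ U, g u ∈ U) → U = ⊥ ∨ U = ⊤) {A : Type*} [Group A]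
    [Finite A] (ρ : A →* Module.End F V) (hρ : Function.Injective ρ) (hc : ∀ a, ρ a * g = g * ρ a) : IsCyclic A := by
  have hP : Fact (Irreducible (minpoly F g)) := ⟨irreducible_minpoly hirr⟩
  have hnt : Nontrivial (Module.End F V) := Module.End.instNontrivial
  have hinj : Function.Injective (phi g) := (phi g).toRingHom.injective
  choose f hf using fun a => exists_phi hirr (hc a)
  let φ : A →* KK g :=
    { toFun := f
      map_one' := hinj (by rw [← hf, map_one, map_one])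
      map_mul' := fun a b => hinj (by rw [← hf, map_mul, map_mul, ← hf, ← hf]) }
  refine isCyclic_of_injective_ringHom φ fun a b hab => hρ ?_
  rw [hf, hf]
  exact congrArg (phi g) hab

theorem card_dvd_unitary [Finite F] (hirr : ∀ U : Submodule F V, (∀ u ∈ U, g u ∈ U) → U = ⊥ ∨ U = ⊤)
    (b : LinearMap.BilinForm F V) (hinv : ∀ u v, b (g u) (g v) = b u v) (hb : ∀ v, (∀ u, b u v = 0) → v = 0)
    {l : ℕ} (hl : g ^ (l + 1) = 1) (h2 : g ^ 2 ≠ 1) {A : Type*} [Group A] [Finite A]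
    (ρ : A →* Module.End F V) (hρ : Function.Injective ρ) (hc : ∀ a, ρ a * g = g * ρ a)
    (hiso : ∀ a, Isom b (ρ a)) : ∃ m, finrank F V = 2 * m ∧ Nat.card A ∣ Nat.card F ^ m + 1 := by
  obtain ⟨m, hm, h⟩ := unitary hirr b hinv hb hl h2
  refine ⟨m, hm, ?_⟩
  have hcyc := isCyclic_of_comm hirr ρ hρ hc
  obtain ⟨a, ha⟩ := hcyc.exists_ofOrder_eq_natCard
  rw [← ha]
  apply orderOf_dvd_of_pow_eq_one
  apply hρ
  rw [map_pow, map_one]
  exact h (ρ a) (hc a) (hiso a)

end unitary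

/-- the same on `R y` -/
theorem card_dvd_R [Finite V] [Finite F] (hB : NS B) {l : ℕ} [hl : Fact l.Prime] (hl2 : l ≠ 2) (hlF : (l : F) ≠ 0)
    {y : Module.End F V} (hy : y ^ l = 1) (hy1 : y ≠ 1) (hyb : Isom B y) (hirr : Irr y (R y)) {A : Type*} [Group A]
    [Finite A] (ρ : A →* Module.End F V) (hc : ∀ a, ρ a * y = y * ρ a) (hiso : ∀ a, Isom B (ρ a)) :
    ∃ m, finrank F (R y) = 2 * m ∧
      Nat.card (A ⧸ (res ρ (R y) fun g _ hw => R_inv (hc g) hw).ker) ∣ Nat.card F ^ m + 1 := by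
  have hfd : FiniteDimensional F V := inferInstance
  have hyW : ∀ w ∈ R y, y w ∈ R y := fun w hw => R_inv rfl hw
  have hne : R y ≠ ⊥ := fun h => hy1 (R_eq_bot.1 h)
  have hnt : Nontrivial (R y) := Submodule.nontrivial_iff_ne_bot.2 hne
  set τ := res ρ (R y) fun g _ hw => R_inv (hc g) hw with hτ
  have hpow : ∀ (n : ℕ) (w : R y), ((((y.restrict hyW) ^ n) w : R y) : V) = (y ^ n) w := by
    intro n
    induction n with
    | zero => intro w; rfl
    | succ n ih =>
      intro w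
      rw [pow_succ, pow_succ, Module.End.mul_apply, Module.End.mul_apply, ih]
      rfl
  have hns := ns_R hB hyb hlF hy
  refine card_dvd_unitary (g := y.restrict hyW) (hirr.restrict hyW) (B.restrict (R y)) (fun u v => hyb u v) hns.nd
    (l := l - 1) ?_ ?_ (QuotientGroup.lift τ.ker τ le_rfl) ?_ ?_ ?_
  · refine LinearMap.ext fun w => Subtype.ext ?_
    rw [hpow, Nat.sub_add_cancel hl.out.one_le, hy]
    rfl
  · intro h
    obtain ⟨w, hw⟩ := exists_ne (0 : R y)
    apply hw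
    have h1 := congrArg Subtype.val (LinearMap.congr_fun h w)
    rw [hpow] at h1
    exact Subtype.ext (eq_zero_of_mem hy hlF (fix_of_sq hl2 hy h1) w.2)
  · intro a b hab
    obtain ⟨a, rfl⟩ := QuotientGroup.mk_surjective a
    obtain ⟨b, rfl⟩ := QuotientGroup.mk_surjective b
    rw [QuotientGroup.lift_mk', QuotientGroup.lift_mk'] at hab
    rw [QuotientGroup.eq, MonoidHom.mem_ker, map_mul, ← hab, ← map_mul, inv_mul_cancel, map_one]
  · intro a
    obtain ⟨a, rfl⟩ := QuotientGroup.mk_surjective a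
    rw [QuotientGroup.lift_mk']
    ext w
    exact LinearMap.congr_fun (hc a) w
  · intro a
    obtain ⟨a, rfl⟩ := QuotientGroup.mk_surjective a
    rw [QuotientGroup.lift_mk']
    exact iso_res (hiso a)

end Cfsg.Agent.H898.PDLin
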