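import Cfsg.Agent.H898.PDLin2

/-!
# S4246, orthogonal groups: further linear algebra (helper898)
-/

set_option autoImplicit false
set_option linter.unusedSectionVars false

namespace Cfsg.Agent.H898.PDLin

open Module Cfsg.Agent.H200.LinFix

variable {F : Type*} [Field F] {V : Type*} [AddCommGroup V] [Module F V] {B : LinearMap.BilinForm F V}

/-! ### `t`-groups in dimension three -/

theorem natCast_orderOf_ne {T : Type*} [Group T] [Finite T] {t : ℕ} [ht : Fact t.Prime] (htF : (t : F) ≠ 0)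
    (hT : IsPGroup t T) (s : T) : ((orderOf s : ℕ) : F) ≠ 0 := by
  obtain ⟨k, hk⟩ := IsPGroup.iff_orderOf.1 hT s
  rw [hk, Nat.cast_pow]
  exact pow_ne_zero _ htF

theorem odd_orderOf {T : Type*} [Group T] [Finite T] {t : ℕ} [ht : Fact t.Prime] (ht2 : t ≠ 2)
    (hT : IsPGroup t T) (s : T) : Odd (orderOf s) := by
  obtain ⟨k, hk⟩ := IsPGroup.iff_orderOf.1 hT s
  rw [hk]
  exact (ht.out.odd_of_ne_two ht2).pow

/-- the elements of a `t`-group of isometries act trivially on nondegenerate lines -/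
theorem triv_of_le_one [Finite V] (hB : NS B) (hV : finrank F V ≤ 1) {s : Module.End F V} (hs : Isom B s) {m : ℕ}
    (hm : Odd m) (hmF : (m : F) ≠ 0) (hsm : s ^ m = 1) : s = 1 := by
  have hfd : FiniteDimensional F V := inferInstance
  obtain ⟨k, hk⟩ := even_R hB hs hm hmF hsm
  have h1 : finrank F (R s) ≤ finrank F V := Submodule.finrank_le _
  rw [← R_eq_bot, ← Submodule.finrank_eq_zero (R := F)]
  omega

/-- **`t`-groups of isometries in dimension `≤ 3`.** -/
theorem card_dvd_three [Finite V] [Finite F] (hB : NS B) {t : ℕ} [ht : Fact t.Prime] (ht2 : t ≠ 2) (htF : (t : F) ≠ 0)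
    {T : Type*} [Group T] [Finite T] (hT : IsPGroup t T) (ρ : T →* Module.End F V) (hρ : Function.Injective ρ)
    (hiso : ∀ g, Isom B (ρ g)) (hV : finrank F V ≤ 3) : Nat.card T ∣ Nat.card F ^ 2 - 1 := by
  classical
  have hfd : FiniteDimensional F V := inferInstance
  rcases subsingleton_or_nontrivial T with hs | hs
  · rw [Nat.card_eq_one_iff_unique.2 ⟨hs, ⟨1⟩⟩]
    exact one_dvd _
  have hc := hT.center_nontrivial
  have hcp : IsPGroup t ↥(Subgroup.center T) := hT.to_subgroup _
  have hd : t ∣ Nat.card ↥(Subgroup.center T) := by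
    obtain ⟨k, hk⟩ := IsPGroup.iff_card.1 hcp
    have h1 : 1 < Nat.card ↥(Subgroup.center T) := Finite.one_lt_card_iff_nontrivial.2 hc
    rw [hk] at h1 ⊢
    apply dvd_pow_self
    rintro rfl
    simp at h1
  obtain ⟨⟨z, hz⟩, hzo⟩ := exists_prime_orderOf_dvd_card' t hd
  rw [Subgroup.orderOf_mk] at hzo
  have hcomm : ∀ s : T, ρ s * ρ z = ρ z * ρ s := fun s => by
    rw [← map_mul, ← map_mul, Subgroup.mem_center_iff.1 hz s]
  have hpow : ∀ s : T, ρ s ^ orderOf s = 1 := fun s => by rw [← map_pow, pow_orderOf_eq_one, map_one]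
  have hev : ∀ s : T, Even (finrank F (R (ρ s))) := fun s =>
    even_R hB (hiso s) (odd_orderOf ht2 hT s) (natCast_orderOf_ne htF hT s) (hpow s)
  have hne : ∀ s : T, s ≠ 1 → finrank F (R (ρ s)) ≠ 0 := fun s hs h0 => by
    rw [Submodule.finrank_eq_zero, R_eq_bot] at h0
    exact hs (hρ (h0.trans (map_one ρ).symm))
  have hz1 : z ≠ 1 := by
    rintro rfl
    rw [orderOf_one] at hzo
    exact ht.out.one_lt.ne hzo
  have hle : ∀ s : T, finrank F (R (ρ s)) ≤ finrank F V := fun s => Submodule.finrank_le _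
  have hadd : ∀ s : T, finrank F (K (ρ s)) + finrank F (R (ρ s)) = finrank F V := fun s => finrank_add _
  have hR2 : ∀ s : T, s ≠ 1 → finrank F (R (ρ s)) = 2 := fun s hs => by
    obtain ⟨k, hk⟩ := hev s
    have h1 := hne s hs
    have h2 := hle s
    omega
  have hK1 : finrank F (K (ρ z)) ≤ 1 := by
    have h1 := hadd z
    have h2 := hR2 z hz1
    omega
  -- trivial action on `K z`
  have hKfix : ∀ s : T, K (ρ z) ≤ K (ρ s) := by
    intro s w hw
    have hinv : ∀ g : T, ∀ w ∈ K (ρ z), ρ g w ∈ K (ρ z) := fun g w hw => K_inv (hcomm g) hw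
    have h1 : res ρ (K (ρ z)) hinv s = 1 := by
      refine triv_of_le_one (ns_K hB (hiso z) (natCast_orderOf_ne htF hT z) (hpow z)) hK1 (iso_res (hiso s))
        (odd_orderOf ht2 hT s) (natCast_orderOf_ne htF hT s) ?_
      rw [← map_pow, pow_orderOf_eq_one, map_one]
    exact mem_K.2 (congrArg Subtype.val (LinearMap.congr_fun h1 ⟨w, hw⟩))
  have hKeq : ∀ s : T, s ≠ 1 → K (ρ s) = K (ρ z) := fun s hs => by
    symm
    apply Submodule.eq_of_le_of_finrank_le (hKfix s)
    have h1 := hadd s
    have h2 := hadd z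
    rw [hR2 s hs] at h1
    rw [hR2 z hz1] at h2
    omega
  -- the free action
  have hinvR : ∀ g : T, ∀ w ∈ R (ρ z), ρ g w ∈ R (ρ z) := fun g w hw => R_inv (hcomm g) hw
  have hinj : ∀ g : T, ∀ w : V, ρ g w = 0 → w = 0 := fun g w h => by
    have h1 : ρ g⁻¹ (ρ g w) = w := by
      rw [← Module.End.mul_apply, ← map_mul, inv_mul_cancel, map_one, Module.End.one_apply]
    rw [← h1, h, map_zero]
  let act : MulAction T {w : R (ρ z) // w ≠ 0} :=
    { smul := fun g w => ⟨⟨ρ g w.1, hinvR g _ w.1.2⟩, fun h => w.2 (Subtype.ext (hinj g _ (congrArg Subtype.val h)))⟩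
      one_smul := fun w => Subtype.ext (Subtype.ext (by
        change ρ 1 (w.1 : V) = w.1
        rw [map_one]; rfl))
      mul_smul := fun g h w => Subtype.ext (Subtype.ext (by
        change ρ (g * h) (w.1 : V) = ρ g (ρ h w.1)
        rw [map_mul]; rfl)) }
  have hfree : ∀ w : {w : R (ρ z) // w ≠ 0}, MulAction.stabilizer T w = ⊥ := by
    intro w
    rw [eq_bot_iff]
    intro g hg
    rw [Subgroup.mem_bot]
    by_contra hg1
    have h1 : ρ g (w.1 : V) = w.1 := congrArg (fun x : {w : R (ρ z) // w ≠ 0} => (x.1 : V)) hg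
    have h2 : (w.1 : V) ∈ K (ρ z) := by
      rw [← hKeq g hg1]
      exact mem_K.2 h1
    exact w.2 (Subtype.ext (eq_zero_of_mem (hpow z) (natCast_orderOf_ne htF hT z) (mem_K.1 h2) w.1.2))
  have h1 : Nat.card T ∣ Nat.card {w : R (ρ z) // w ≠ 0} := by
    have e := MulAction.selfEquivOrbitsQuotientProd hfree
    rw [Nat.card_congr e, Nat.card_prod]
    exact dvd_mul_left _ _
  have h2 : Nat.card {w : R (ρ z) // w ≠ 0} = Nat.card F ^ 2 - 1 := by
    have h3 : Nat.card (R (ρ z)) = Nat.card F ^ 2 := by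
      rw [Module.natCard_eq_pow_finrank (K := F), hR2 z hz1]
    have h4 := Nat.card_congr (Equiv.sumCompl (fun w : R (ρ z) => w = 0))
    rw [Nat.card_sum, Nat.card_unique, h3] at h4
    have h5 : Nat.card {w : R (ρ z) // ¬ w = 0} = Nat.card {w : R (ρ z) // w ≠ 0} := rfl
    omega
  rwa [h2] at h1

/-! ### conjugation to a power -/

section conj

variable [Finite V] [Nontrivial V] {g : Module.End F V}

open Polynomial in
theorem pow_of_conj_top (hirr : ∀ U : Submodule F V, (∀ u ∈ U, g u ∈ U) → U = ⊥ ∨ U = ⊤) {y y' : Module.End F V}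
    (hyy : y * y' = 1) (hyy' : y' * y = 1) {k : ℕ} (h : y * g = g ^ k * y) : g ^ (k ^ finrank F V) = g := by
  have hP : Fact (Irreducible (minpoly F g)) := ⟨irreducible_minpoly hirr⟩
  have hnt : Nontrivial (Module.End F V) := Module.End.instNontrivial
  have hinj : Function.Injective (phi g) := (phi g).toRingHom.injective
  -- conjugation by `y`
  let c : Module.End F V →ₐ[F] Module.End F V :=
    AlgHom.ofLinearMap ((LinearMap.mulLeft F y).comp (LinearMap.mulRight F y')) (by
      change y * (1 * y') = 1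
      rw [one_mul, hyy]) (fun a b => by
      change y * (a * b * y') = y * (a * y') * (y * (b * y'))
      rw [show y * (a * y') * (y * (b * y')) = y * (a * ((y' * y) * (b * y'))) by simp only [mul_assoc], hyy', one_mul,
        mul_assoc])
  have hcg : c g = g ^ k := by
    change y * (g * y') = g ^ k
    rw [← mul_assoc, h, mul_assoc, hyy, mul_one]
  set x : KK g := AdjoinRoot.root (minpoly F g) with hx
  have hxg : phi g x = g := phi_root
  have h1 : aeval (x ^ k) (minpoly F g) = 0 := by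
    apply hinj
    rw [map_zero, ← Polynomial.aeval_algHom_apply, map_pow, hxg, ← hcg, Polynomial.aeval_algHom_apply, minpoly.aeval,
      map_zero]
  let τ : KK g →ₐ[F] KK g := AdjoinRoot.liftAlgHom (minpoly F g) (Algebra.ofId F (KK g)) (x ^ k) h1
  have hτ : τ x = x ^ k := AdjoinRoot.liftAlgHom_root _ _ _ _
  obtain ⟨w, hw⟩ := exists_ne (0 : V)
  have hfin : Finite (KK g) := Finite.of_injective _ (phi_bijective hirr w hw).1
  have hτb : Function.Bijective τ := Finite.injective_iff_bijective.1 τ.toRingHom.injective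
  let σ : KK g ≃ₐ[F] KK g := AlgEquiv.ofBijective τ hτb
  have hσ : ∀ j : ℕ, (σ ^ j) x = x ^ (k ^ j) := by
    intro j
    induction j with
    | zero => rw [pow_zero, pow_zero, pow_one]; rfl
    | succ j ih =>
      rw [pow_succ', AlgEquiv.mul_apply, ih, map_pow]
      change τ x ^ k ^ j = _
      rw [hτ, ← pow_mul, pow_succ']
  have hcard : Nat.card (KK g ≃ₐ[F] KK g) = finrank F V := by
    rw [IsGalois.card_aut_eq_finrank, finrank_KK hirr]
  have h2 : σ ^ finrank F V = 1 := by
    rw [← hcard]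
    exact pow_card_eq_one'
  have h3 := hσ (finrank F V)
  rw [h2] at h3
  have h4 : x ^ k ^ finrank F V = x := h3.symm
  rw [← hxg, ← map_pow, h4]

end conj

/-- **`y x = x ^ k y`.** -/
theorem pow_of_conj [Finite V] {x y y' : Module.End F V} (hyy : y * y' = 1) (hyy' : y' * y = 1) {r k : ℕ}
    (hx : x ^ r = 1) (hrF : (r : F) ≠ 0) (hirr : Irr x (R x)) (h : y * x = x ^ k * y) :
    x ^ (k ^ finrank F (R x)) = x := by
  have hfd : FiniteDimensional F V := inferInstance
  by_cases hR : R x = ⊥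
  · rw [R_eq_bot] at hR
    rw [hR, one_pow]
  have hnt : Nontrivial (R x) := Submodule.nontrivial_iff_ne_bot.2 hR
  have hxR : ∀ w ∈ R x, x w ∈ R x := fun w hw => R_inv rfl hw
  have hRk : ∀ (j : ℕ) (w : V), (x ^ j) w - w ∈ R x := by
    intro j
    induction j with
    | zero => intro w; rw [pow_zero, Module.End.one_apply, sub_self]; exact Submodule.zero_mem _
    | succ j ih =>
      intro w
      rw [pow_succ', Module.End.mul_apply]
      have h1 : x ((x ^ j) w) - w = (x ((x ^ j) w) - (x ^ j) w) + ((x ^ j) w - w) := by abel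
      rw [h1]
      exact Submodule.add_mem _ (sub_mem_R x _) (ih w)
  have hyR : ∀ w ∈ R x, y w ∈ R x := by
    rintro _ ⟨v, rfl⟩
    change y (x v - v) ∈ R x
    have h1 : y (x v) = (x ^ k) (y v) := LinearMap.congr_fun h v
    rw [map_sub, h1]
    exact hRk k (y v)
  have hyinj : ∀ w, y w = 0 → w = 0 := fun w hw => by
    have h1 : y' (y w) = w := LinearMap.congr_fun hyy' w
    rw [← h1, hw, map_zero]
  have hyR' : ∀ w ∈ R x, y' w ∈ R x := by
    intro w hw
    have h2 : Function.Injective (y.restrict hyR) := by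
      rw [← LinearMap.ker_eq_bot, LinearMap.ker_eq_bot']
      rintro ⟨w, hw⟩ h0
      exact Subtype.ext (hyinj w (congrArg Subtype.val h0))
    obtain ⟨⟨u, hu⟩, hu'⟩ := Finite.surjective_of_injective h2 ⟨w, hw⟩
    have h3 : y u = w := congrArg Subtype.val hu'
    have h4 : y' (y u) = u := LinearMap.congr_fun hyy' u
    rw [← h3, h4]
    exact hu
  have hpow : ∀ (n : ℕ) (w : R x), ((((x.restrict hxR) ^ n) w : R x) : V) = (x ^ n) w := by
    intro n
    induction n with
    | zero => intro w; rfl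
    | succ n ih =>
      intro w
      rw [pow_succ, pow_succ, Module.End.mul_apply, Module.End.mul_apply, ih]
      rfl
  have key := pow_of_conj_top (g := x.restrict hxR) (hirr.restrict hxR) (y := y.restrict hyR) (y' := y'.restrict hyR')
    (LinearMap.ext fun w => Subtype.ext (LinearMap.congr_fun hyy (w : V)))
    (LinearMap.ext fun w => Subtype.ext (LinearMap.congr_fun hyy' (w : V))) (k := k)
    (LinearMap.ext fun w => Subtype.ext (by
      rw [Module.End.mul_apply, Module.End.mul_apply, hpow]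
      exact LinearMap.congr_fun h (w : V)))
  refine LinearMap.ext fun w => ?_
  obtain ⟨a, ha, b, hb, rfl⟩ := decomp hx hrF w
  have h5 : (x ^ k ^ finrank F (R x)) b = x b := by
    rw [← hpow _ ⟨b, hb⟩, key]
    rfl
  have h6 : ∀ j : ℕ, (x ^ j) a = a := by
    intro j
    induction j with
    | zero => rfl
    | succ j ih => rw [pow_succ', Module.End.mul_apply, ih, mem_K.1 ha]
  rw [map_add, map_add, h5, h6, mem_K.1 ha]

/-! ### `p`-groups normalised by `y`, `dim K y = 3` -/

theorem zero_of_dim_le_one [Finite V] (hB : NS B) (hV : finrank F V ≤ 1) {w : V} (hw : B w w = 0) : w = 0 := by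
  have hfd : FiniteDimensional F V := inferInstance
  by_contra hw0
  apply hw0
  apply hB.nd
  intro u
  have hnt : Nontrivial V := ⟨⟨w, 0, hw0⟩⟩
  have h1 : finrank F V = 1 := by
    have := Module.finrank_pos (R := F) (M := V)
    omega
  obtain ⟨c, rfl⟩ := (finrank_eq_one_iff_of_nonzero' w hw0).1 h1 u
  rw [map_smul, LinearMap.smul_apply, hw, smul_zero]

theorem zero_of_three [Finite V] (hB : NS B) (hV : finrank F V ≤ 3) {u v : V} (huu : B u u = 0) (huv : B u v = 1)
    (hvv : B v v = 0) {w : V} (hw : w ∈ W2 B u v) (hww : B w w = 0) : w = 0 := by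
  have hfd : FiniteDimensional F V := inferInstance
  have h6 := finrank_W2 hB huu huv hvv
  exact congrArg Subtype.val (zero_of_dim_le_one (nsW2 hB huu huv hvv) (by omega) (w := ⟨w, hw⟩) hww)

/-- invariant totally isotropic subspaces lie in `K y` -/
theorem ti_le_K [Finite V] (hB : NS B) {y : Module.End F V} (hy : Isom B y) {l : ℕ} (hlF : (l : F) ≠ 0)
    (hyl : y ^ l = 1) (hirr : Irr y (R y)) {U : Submodule F V} (hU : ∀ u ∈ U, y u ∈ U)
    (hti : ∀ u ∈ U, ∀ v ∈ U, B u v = 0) : U ≤ K y := by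
  have hfd : FiniteDimensional F V := inferInstance
  intro v hv
  obtain ⟨k, hk, r, hr, rfl⟩ := decomp_mem hyl hlF hU hv
  have hr0 : r = 0 := by
    rcases hirr (R y ⊓ U) inf_le_left (fun u hu => ⟨R_inv rfl hu.1, hU u hu.2⟩) with h | h
    · rw [h] at hr
      exact hr
    · apply nondeg_R hy hB.nd hyl hlF hr.1
      intro u hu
      rw [← h] at hu
      exact hti u hu.2 r hr.2
  rw [hr0, add_zero]
  exact hk.1

theorem card_eq_one_of_triv {P : Type*} [Group P] [Finite P] (ρ : P →* Module.End F V) (hρ : Function.Injective ρ)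
    (h : ∀ g v, ρ g v = v) : Nat.card P = 1 := by
  rw [Nat.card_eq_one_iff_unique]
  refine ⟨⟨fun a b => hρ (LinearMap.ext fun v => by rw [h, h])⟩, ⟨1⟩⟩

/-- **`p`-groups normalised by `y`**, `y` irreducible on `R y` and `dim K y ≤ 3`. -/
theorem card_le_norm [Finite V] [Finite F] (hB : NS B) (h2 : (2 : F) ≠ 0) {p : ℕ} [hp : Fact p.Prime]
    (hpF : (p : F) = 0) {P : Type*} [Group P] [Finite P] (hP : IsPGroup p P) (ρ : P →* Module.End F V)
    (hρ : Function.Injective ρ) (hiso : ∀ g, Isom B (ρ g)) {y y' : Module.End F V} (hy : Isom B y) {l : ℕ}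
    (hlF : (l : F) ≠ 0) (hyl : y ^ l = 1) (hirr : Irr y (R y)) (hyy : ∀ v, y (y' v) = v) (hyy' : ∀ v, y' (y v) = v)
    (hn : ∀ g, ∃ g', ∀ v, ρ g (y v) = y (ρ g' v)) (hn' : ∀ g, ∃ g', ∀ v, ρ g (y' v) = y' (ρ g' v))
    (hK : finrank F (K y) ≤ 3) : Nat.card P ≤ Nat.card F ^ (finrank F V - 2) := by
  have hfd : FiniteDimensional F V := inferInstance
  by_cases hu : ∃ u ∈ K y, u ≠ 0 ∧ B u u = 0 ∧ ∀ g, ρ g u = u
  · obtain ⟨u, huK, hu0, huu, hfix⟩ := hu
    have hnsK := ns_K hB hy hlF hyl
    obtain ⟨⟨v, hvK⟩, huv, hvv⟩ := hnsK.partner h2 (u := ⟨u, huK⟩) (fun h => hu0 (congrArg Subtype.val h)) huu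
    change B u v = 1 at huv
    change B v v = 0 at hvv
    have hyu : y u = u := mem_K.1 huK
    have hyv : y v = v := mem_K.1 hvK
    have hyu' : y' u = u := by
      conv_lhs => rw [← hyu]
      exact hyy' u
    have hyv' : y' v = v := by
      conv_lhs => rw [← hyv]
      exact hyy' v
    have hy' : Isom B y' := fun a b => by
      rw [← hy (y' a) (y' b), hyy, hyy]
    have hW : ∀ w ∈ W2 B u v, y w ∈ W2 B u v := fun w hw => by
      rw [mem_W2] at hw ⊢
      have h3 := hy u w
      have h4 := hy v w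
      rw [hyu] at h3
      rw [hyv] at h4
      rw [h3, h4]
      exact hw
    have hW' : ∀ w ∈ W2 B u v, y' w ∈ W2 B u v := fun w hw => by
      rw [mem_W2] at hw ⊢
      have h3 := hy' u w
      have h4 := hy' v w
      rw [hyu'] at h3
      rw [hyv'] at h4
      rw [h3, h4]
      exact hw
    have hBv : ∀ z, B v (y z) = B v z := fun z => by
      have h4 := hy v z
      rwa [hyv] at h4
    have hBv' : ∀ z, B v (y' z) = B v z := fun z => by
      have h4 := hy' v z
      rwa [hyv'] at h4
    have htriv := triv_of_noTI (B := B.restrict (W2 B u v)) (nsW2 hB huu huv hvv) hP (tr2 hB huu huv ρ hiso hfix) hpF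
      (iso_tr2 hB huu huv ρ hiso hfix) (y := y.restrict hW) (y' := y'.restrict hW') (fun a b => hy a b)
      (fun w => Subtype.ext (hyy w)) (fun g => by
        obtain ⟨g', hg'⟩ := hn g
        refine ⟨g', fun w => Subtype.ext ?_⟩
        change ρ g (y w) - B v (ρ g (y w)) • u = y (ρ g' w - B v (ρ g' w) • u)
        rw [hg', hBv, map_sub, map_smul, hyu]) (fun g => by
        obtain ⟨g', hg'⟩ := hn' g
        refine ⟨g', fun w => Subtype.ext ?_⟩
        change ρ g (y' w) - B v (ρ g (y' w)) • u = y' (ρ g' w - B v (ρ g' w) • u)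
        rw [hg', hBv', map_sub, map_smul, hyu']) (fun U hU hti _ => by
        have h3 : U.map (W2 B u v).subtype ≤ K y := by
          apply ti_le_K hB hy hlF hyl hirr
          · rintro _ ⟨w, hw, rfl⟩
            exact ⟨_, hU w hw, rfl⟩
          · rintro _ ⟨w, hw, rfl⟩ _ ⟨z, hz, rfl⟩
            exact hti w hw z hz
        rw [eq_bot_iff]
        intro w hw
        have h4 : (w : V) ∈ K y := h3 ⟨w, hw, rfl⟩
        have h5 : (⟨w, h4⟩ : K y) ∈ W2 (B.restrict (K y)) ⟨u, huK⟩ ⟨v, hvK⟩ := mem_W2.2 (mem_W2.1 w.2)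
        have h7 := zero_of_three hnsK hK huu huv hvv h5 (hti w hw w hw)
        rw [Submodule.mem_bot]
        have h8 : (w : V) = 0 := congrArg Subtype.val h7
        exact Subtype.ext h8)
    have hker : (tr2 hB huu huv ρ hiso hfix).ker = ⊤ := by
      rw [eq_top_iff]
      intro g _
      rw [MonoidHom.mem_ker]
      exact LinearMap.ext fun w => htriv g w
    have h3 := card_ker_tr2 h2 hB huu huv hvv ρ hρ hiso hfix
    rw [hker, Subgroup.card_top, Module.natCard_eq_pow_finrank (K := F) (V := W2 B u v)] at h3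
    have h4 := finrank_W2 hB huu huv hvv
    rwa [show finrank F V - 2 = finrank F (W2 B u v) by omega]
  · push Not at hu
    have htriv := triv_of_noTI hB hP ρ hpF hiso hy hyy hn hn' (fun U hU hti hfix => by
      have h3 := ti_le_K hB hy hlF hyl hirr hU hti
      rw [eq_bot_iff]
      intro w hw
      by_contra hw0
      obtain ⟨g, hg⟩ := hu w (h3 hw) hw0 (hti w hw w hw)
      exact hg (hfix g w hw))
    rw [card_eq_one_of_triv ρ hρ htriv]
    exact Nat.one_le_pow _ _ Nat.card_pos

end Cfsg.Agent.H898.PDLin
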