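import Cfsg.Agent.H311.PD.Num

/-!
# S4246, row `POmega_{2n+1}(q)`: arithmetic (helper898)
-/

set_option autoImplicit false

namespace Cfsg.Agent.H898.PDOdd

open Cfsg.Agent.H311.PD

/-- the product without its first factor -/
theorem prod_split {q n : ℕ} (hn : 3 ≤ n) : ∏ i ∈ Finset.range (n - 2), (q ^ (2 * (i + 1)) - 1) =
    (∏ i ∈ Finset.range (n - 3), (q ^ (2 * (i + 2)) - 1)) * (q ^ 2 - 1) := by
  have h : n - 2 = (n - 3) + 1 := by omega
  rw [h, Finset.prod_range_succ']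

/-- **The other primes.** -/
theorem num_odd {t p f n : ℕ} (ht : t.Prime) (ht2 : t ≠ 2) (hp : p.Prime) (htp : t ≠ p) (hf : 1 ≤ f) (hn : 3 ≤ n)
    (hd : t ∣ ∏ i ∈ Finset.range n, ((p ^ f) ^ (2 * (i + 1)) - 1)) :
    ((∀ m, t ∣ (p ^ f) ^ m - 1 → 2 * n ∣ m) ∧ t ∣ (p ^ f) ^ n + 1) ∨
    ((∀ m, t ∣ (p ^ f) ^ m - 1 → 2 * (n - 1) ∣ m) ∧ t ∣ (p ^ f) ^ (n - 1) + 1) ∨
    ((p ^ f) ^ 2 - 1).factorization t + f.factorization t <
      ((p ^ f) ^ n - 1).factorization t + ((p ^ f) ^ (n - 1) - 1).factorization t +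
        (∏ i ∈ Finset.range (n - 2), ((p ^ f) ^ (2 * (i + 1)) - 1)).factorization t := by
  have hq2 : 2 ≤ p ^ f := by
    calc 2 ≤ p := hp.two_le
      _ = p ^ 1 := (pow_one p).symm
      _ ≤ p ^ f := Nat.pow_le_pow_right hp.pos hf
  have htq : ¬ t ∣ p ^ f := fun h => htp ((Nat.prime_dvd_prime_iff_eq ht hp).1 (ht.dvd_of_dvd_pow h))
  obtain ⟨e, he1, he⟩ := exists_ord ht htq (by omega)
  have hpos : ∀ m, 1 ≤ m → 1 < (p ^ f) ^ m := fun m hm => Nat.one_lt_pow (by omega) (by omega)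
  have hsq : ∀ m, 1 ≤ m → (p ^ f) ^ (2 * m) - 1 = ((p ^ f) ^ m + 1) * ((p ^ f) ^ m - 1) := by
    intro m _
    rw [mul_comm 2 m, pow_mul]
    exact Nat.sq_sub_sq ((p ^ f) ^ m) 1
  have hne : ∏ i ∈ Finset.range (n - 3), ((p ^ f) ^ (2 * (i + 2)) - 1) ≠ 0 := by
    rw [Finset.prod_ne_zero_iff]
    intro i _
    have := hpos (2 * (i + 2)) (by omega)
    omega
  have hne2 : (p ^ f) ^ 2 - 1 ≠ 0 := by have := hpos 2 (by omega); omega
  have hsplit : (∏ i ∈ Finset.range (n - 2), ((p ^ f) ^ (2 * (i + 1)) - 1)).factorization t =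
      (∏ i ∈ Finset.range (n - 3), ((p ^ f) ^ (2 * (i + 2)) - 1)).factorization t +
        ((p ^ f) ^ 2 - 1).factorization t := by
    rw [prod_split hn, Nat.factorization_mul hne hne2, Finsupp.add_apply]
  set A := ((p ^ f) ^ 2 - 1).factorization t + f.factorization t <
      ((p ^ f) ^ n - 1).factorization t + ((p ^ f) ^ (n - 1) - 1).factorization t +
        (∏ i ∈ Finset.range (n - 2), ((p ^ f) ^ (2 * (i + 1)) - 1)).factorization t with hA
  have direct : ∀ j, 2 ≤ j → j ≤ n - 2 → e ∣ 2 * j → A := by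
    intro j hj hjn hdj
    have h1 := lte ht hf hp.one_le ((he _).2 hdj) (hpos _ (by omega))
    have h2 : ((p ^ f) ^ (2 * j) - 1).factorization t ≤
        (∏ i ∈ Finset.range (n - 3), ((p ^ f) ^ (2 * (i + 2)) - 1)).factorization t := by
      apply fac_mono (t := t) hne
      have h3 := Finset.dvd_prod_of_mem (fun i => (p ^ f) ^ (2 * (i + 2)) - 1)
        (Finset.mem_range.2 (show j - 2 < n - 3 by omega))
      rwa [show j - 2 + 2 = j by omega] at h3
    rw [hA, hsplit]
    omega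
  have dn : e ∣ n → A := by
    intro h
    have h1 := lte ht hf hp.one_le ((he _).2 h) (hpos _ (by omega))
    rw [hA, hsplit]
    omega
  have dn1 : e ∣ n - 1 → A := by
    intro h
    have h1 := lte ht hf hp.one_le ((he _).2 h) (hpos _ (by omega))
    rw [hA, hsplit]
    omega
  have two_case : e ∣ 2 → A := by
    intro h
    rcases Nat.even_or_odd' n with ⟨k, hk | hk⟩
    · exact dn (h.trans ⟨k, hk⟩)
    · exact dn1 (h.trans ⟨k, by omega⟩)
  have small : e ≤ n - 2 ∨ e ≤ 2 → A := by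
    intro h
    by_cases h2 : e ≤ 2
    · apply two_case
      interval_cases e
      · exact one_dvd _
      · exact dvd_rfl
    · exact direct e (by omega) (by omega) (dvd_mul_left _ _)
  have hpr := Nat.prime_iff.1 ht
  rw [hpr.dvd_finsetProd_iff] at hd
  obtain ⟨i, hi, hti⟩ := hd
  rw [Finset.mem_range] at hi
  have hei := (he _).1 hti
  obtain ⟨j, hj⟩ : ∃ j, j = i + 1 := ⟨_, rfl⟩
  rw [← hj] at hti hei
  by_cases hjn : j ≤ n - 2
  · right; right
    by_cases hj2 : 2 ≤ j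
    · exact direct j hj2 hjn hei
    · have hj1 : j = 1 := by omega
      rw [hj1] at hei
      exact two_case hei
  · obtain ⟨k, hk⟩ := hei
    have hk0 : k ≠ 0 := by rintro rfl; omega
    by_cases hjj : j = n
    · subst hjj
      by_cases hk1 : k = 1
      · left
        refine ⟨fun m hm => ?_, ?_⟩
        · rw [hk, hk1, mul_one]
          exact (he m).1 hm
        · rw [hsq j (by omega)] at hti
          rcases ht.dvd_mul.1 hti with h2 | h2
          · exact h2
          · exfalso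
            have h3 := Nat.le_of_dvd (by omega) ((he _).1 h2)
            rw [hk1] at hk
            omega
      · right; right
        by_cases hk2 : k = 2
        · exact dn (by rw [hk2] at hk; rw [show j = e by omega])
        · apply small
          have h4 : e * 3 ≤ e * k := Nat.mul_le_mul_left _ (by omega)
          omega
    · have hj' : j = n - 1 := by omega
      subst hj'
      by_cases hk1 : k = 1
      · right; left
        refine ⟨fun m hm => ?_, ?_⟩
        · rw [hk, hk1, mul_one]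
          exact (he m).1 hm
        · rw [hsq (n - 1) (by omega)] at hti
          rcases ht.dvd_mul.1 hti with h2 | h2
          · exact h2
          · exfalso
            have h3 := Nat.le_of_dvd (by omega) ((he _).1 h2)
            rw [hk1] at hk
            omega
      · right; right
        by_cases hk2 : k = 2
        · exact dn1 (by rw [hk2] at hk; rw [show n - 1 = e by omega])
        · apply small
          have h4 : e * 3 ≤ e * k := Nat.mul_le_mul_left _ (by omega)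
          omega

section order

variable {p f n N : ℕ}

theorem fac2 {g N A D : ℕ} (hg : g ≠ 0) (hN : N ≠ 0) (hA : A ≠ 0) (hD : D ≠ 0) (h : g * N = A * D)
    (t : ℕ) : g.factorization t + N.factorization t = A.factorization t + D.factorization t := by
  have h1 : (g * N).factorization t = (A * D).factorization t := by rw [h]
  rwa [Nat.factorization_mul hg hN, Nat.factorization_mul hA hD, Finsupp.add_apply, Finsupp.add_apply] at h1

theorem fac_odd_char (hp : p.Prime) (hp2 : p ≠ 2) (hf : 1 ≤ f) (hN : N ≠ 0)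
    (h : 2 * N = (p ^ f) ^ (n ^ 2) * ∏ i ∈ Finset.range n, ((p ^ f) ^ (2 * (i + 1)) - 1)) :
    N.factorization p = f * n ^ 2 := by
  have hq2 : 2 ≤ p ^ f := by
    calc 2 ≤ p := hp.two_le
      _ = p ^ 1 := (pow_one p).symm
      _ ≤ p ^ f := Nat.pow_le_pow_right hp.pos hf
  have h2 : ¬ p ∣ 2 := fun h0 => hp2 ((Nat.prime_dvd_prime_iff_eq hp Nat.prime_two).1 h0)
  have h3 : ¬ p ∣ ∏ i ∈ Finset.range n, ((p ^ f) ^ (2 * (i + 1)) - 1) := by
    intro h0
    rw [(Nat.prime_iff.1 hp).dvd_finsetProd_iff] at h0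
    obtain ⟨i, -, hi⟩ := h0
    exact not_dvd_pow_sub_one hp hf (by omega) hi
  have h5 := fac2 two_ne_zero hN (pow_ne_zero (n ^ 2) (show p ^ f ≠ 0 by omega)) (prod_ne_zero hq2) h p
  rw [Nat.factorization_eq_zero_of_not_dvd h2, Nat.factorization_eq_zero_of_not_dvd h3, ← pow_mul,
    hp.factorization_pow, Finsupp.single_eq_same] at h5
  omega

theorem fac_odd_odd {t : ℕ} (ht : t.Prime) (ht2 : t ≠ 2) (hp : p.Prime) (htp : t ≠ p) (hf : 1 ≤ f) (hn : 3 ≤ n)
    (hN : N ≠ 0) (h : 2 * N = (p ^ f) ^ (n ^ 2) * ∏ i ∈ Finset.range n, ((p ^ f) ^ (2 * (i + 1)) - 1)) :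
    N.factorization t = ((p ^ f) ^ n + 1).factorization t + ((p ^ f) ^ (n - 1) + 1).factorization t +
      (((p ^ f) ^ n - 1).factorization t + ((p ^ f) ^ (n - 1) - 1).factorization t +
        (∏ i ∈ Finset.range (n - 2), ((p ^ f) ^ (2 * (i + 1)) - 1)).factorization t) := by
  have hq2 : 2 ≤ p ^ f := by
    calc 2 ≤ p := hp.two_le
      _ = p ^ 1 := (pow_one p).symm
      _ ≤ p ^ f := Nat.pow_le_pow_right hp.pos hf
  have hpos : ∀ m, 1 ≤ m → 1 < (p ^ f) ^ m := fun m hm => Nat.one_lt_pow (by omega) (by omega)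
  have h2 : ¬ t ∣ 2 := fun h0 => ht2 ((Nat.prime_dvd_prime_iff_eq ht Nat.prime_two).1 h0)
  have h1 : ¬ t ∣ (p ^ f) ^ (n ^ 2) := fun h0 =>
    htp ((Nat.prime_dvd_prime_iff_eq ht hp).1 (ht.dvd_of_dvd_pow (ht.dvd_of_dvd_pow h0)))
  have h6 : ∏ i ∈ Finset.range n, ((p ^ f) ^ (2 * (i + 1)) - 1) =
      (∏ i ∈ Finset.range (n - 2), ((p ^ f) ^ (2 * (i + 1)) - 1)) *
        (((p ^ f) ^ (n - 1) + 1) * ((p ^ f) ^ (n - 1) - 1)) * (((p ^ f) ^ n + 1) * ((p ^ f) ^ n - 1)) := by
    obtain ⟨m, rfl⟩ := Nat.exists_eq_add_of_le' hn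
    have e1 : m + 3 - 2 = m + 1 := by omega
    have e2 : m + 3 - 1 = m + 2 := by omega
    rw [e1, e2, show m + 3 = m + 1 + 1 + 1 from rfl, Finset.prod_range_succ, Finset.prod_range_succ]
    congr 1
    · congr 1
      rw [mul_comm 2 (m + 1 + 1), pow_mul]
      exact Nat.sq_sub_sq ((p ^ f) ^ (m + 2)) 1
    · rw [mul_comm 2 (m + 1 + 1 + 1), pow_mul]
      exact Nat.sq_sub_sq ((p ^ f) ^ (m + 3)) 1
  have h8 : (p ^ f) ^ (n - 1) - 1 ≠ 0 := by have := hpos (n - 1) (by omega); omega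
  have h9 : (p ^ f) ^ n - 1 ≠ 0 := by have := hpos n (by omega); omega
  have h5 := fac2 two_ne_zero hN (pow_ne_zero (n ^ 2) (show p ^ f ≠ 0 by omega)) (prod_ne_zero hq2) h t
  have s1 : (p ^ f) ^ (n - 1) + 1 ≠ 0 := Nat.succ_ne_zero _
  have s2 : (p ^ f) ^ n + 1 ≠ 0 := Nat.succ_ne_zero _
  rw [Nat.factorization_eq_zero_of_not_dvd h2, Nat.factorization_eq_zero_of_not_dvd h1, h6,
    Nat.factorization_mul (mul_ne_zero (prod_ne_zero hq2) (mul_ne_zero s1 h8)) (mul_ne_zero s2 h9),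
    Nat.factorization_mul (prod_ne_zero hq2) (mul_ne_zero s1 h8),
    Nat.factorization_mul s1 h8, Nat.factorization_mul s2 h9, Finsupp.add_apply, Finsupp.add_apply, Finsupp.add_apply,
    Finsupp.add_apply] at h5
  omega

end order

end Cfsg.Agent.H898.PDOdd
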