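import Cfsg.Agent.H898.PDLin3
import Cfsg.Agent.H898.PDOddA
import Cfsg.Agent.H311.PD.Minus2

/-!
# S4246, row `POmega_{2n+1}(q)`: centralisers, normalisers, subgroups of odd order (helper898)
-/

set_option autoImplicit false
set_option linter.unusedSectionVars false

namespace Cfsg.Agent.H898.PDOdd

open QuadraticMap Module Subgroup Cfsg.Agent.LieClassical.OrthCore Cfsg.Agent.LieClassical.OrthTrans
open Cfsg.Agent.ClassicalGeometry.OrthSemi Cfsg.Agent.ClassicalGeometry.OrthAut1
open Cfsg.Agent.H200.LinFix Cfsg.Agent.H200.RowOrth Cfsg.Agent.H311.PD Cfsg.Agent.H898.PDLin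
open Cfsg.Agent.H160.PD (v v_mono v_eq_zero v_pos Fx mem_Fx out Good Two NoOdd Inc noOdd_of_uniq odd_bound_of_uniq)

variable {F V : Type*} [Field F] [AddCommGroup V] [Module F V] {Q : QuadraticForm F V} [Finite V]

/-- all the data -/
structure DatO (Q : QuadraticForm F V) (p f n : ℕ) : Prop where
  good : LieClassical.OrthTrans.Good Q
  p2 : p ≠ 2
  hf : 1 ≤ f
  card : Nat.card F = p ^ f
  hn : 3 ≤ n
  dim : finrank F V = 2 * n + 1
  char : (p : F) = 0
  ord : 2 * Nat.card (P Q) = (p ^ f) ^ (n ^ 2) * ∏ i ∈ Finset.range n, ((p ^ f) ^ (2 * (i + 1)) - 1)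
  out : out (P Q) = 2 * f
  aut : ∀ a : MulAut (P Q), ∃ M : Gam Q, a = Psi Q M
  simple : IsSimpleGroup (P Q)
  na : ¬ IsMulCommutative (P Q)

/-- the representation of a subgroup of `E Q` -/
noncomputable def rp (X : Subgroup ↥(E Q)) : ↥X →* Module.End F V := (en Q).comp X.subtype

theorem rp_apply {X : Subgroup ↥(E Q)} (g : ↥X) (v : V) : rp X g v = en Q g v := rfl

theorem rp_inj (X : Subgroup ↥(E Q)) : Function.Injective (rp X) := en_injective.comp Subtype.val_injective

theorem rp_iso (X : Subgroup ↥(E Q)) (g : ↥X) : Isom (polarBilin Q) (rp X g) := isom_en _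

theorem rp_comm {X : Subgroup ↥(E Q)} {y : ↥(E Q)} (h : X ≤ centralizer ({y} : Set ↥(E Q))) (g : ↥X) :
    rp X g * en Q y = en Q y * rp X g := by
  have h1 : (g : ↥(E Q)) * y = y * g := mem_centralizer_singleton_iff.1 (h g.2)
  change en Q g * en Q y = en Q y * en Q g
  rw [← map_mul, h1, map_mul]

section p

variable {p f n : ℕ} [hp : Fact p.Prime]

theorem v_le_of_card {X : Type*} [Group X] [Finite X] {e : ℕ} (hX : IsPGroup p X) (h : Nat.card X ≤ (p ^ f) ^ e) :
    v p X ≤ f * e := by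
  obtain ⟨k, hk⟩ := IsPGroup.iff_card.1 hX
  rw [v, hk, hp.out.factorization_pow, Finsupp.single_eq_same]
  rw [hk, ← pow_mul] at h
  exact (Nat.pow_le_pow_iff_right hp.out.one_lt).1 h

theorem v_of_psub {H : Subgroup ↥(E Q)} {e : ℕ}
    (h : ∀ X : Subgroup ↥(E Q), X ≤ H → IsPGroup p X → Nat.card X ≤ (p ^ f) ^ e) : v p H ≤ f * e := by
  have hfinE : Finite ↥(E Q) := finite_E
  obtain ⟨X, hX, hXp, hXv⟩ := exists_psub (p := p) H
  rw [← hXv]
  exact v_le_of_card hXp (h X hX hXp)

variable (D : DatO Q p f n)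
include D

theorem DatO.h2F : (2 : F) ≠ 0 := by
  intro h
  have hc : CharP F p := (CharP.charP_iff_prime_eq_zero hp.out).2 D.char
  have h1 : ((2 : ℕ) : F) = 0 := by exact_mod_cast h
  rw [CharP.cast_eq_zero_iff F p] at h1
  exact D.p2 ((Nat.prime_dvd_prime_iff_eq hp.out Nat.prime_two).1 h1)

omit hp in
theorem DatO.ns : NS (polarBilin Q) :=
  ⟨fun u v => by rw [polarBilin_apply_apply, polarBilin_apply_apply, polar_comm], polar_nondeg D.good⟩

theorem DatO.cast {t : ℕ} (ht : t.Prime) (htp : t ≠ p) : (t : F) ≠ 0 := by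
  have := Fact.mk ht
  have hc : CharP F p := (CharP.charP_iff_prime_eq_zero hp.out).2 D.char
  exact natCast_ne_of_not_dvd hp.out fun h => htp ((Nat.prime_dvd_prime_iff_eq ht hp.out).1 h)

/-- **The `p`-part of the centraliser.** -/
theorem DatO.cent_p {l : ℕ} [hl : Fact l.Prime] (hlF : (l : F) ≠ 0) {e : ℕ} (hd : Ordd l (Nat.card F) e)
    (he : 2 * n + 1 < 2 * e) {y : ↥(E Q)} (hy : y ^ l = 1) (hy1 : y ≠ 1) :
    v p (centralizer ({y} : Set ↥(E Q))) ≤ f * ((2 * n + 1 - e - 1) ^ 2 / 4) := by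
  have hfinE : Finite ↥(E Q) := finite_E
  have hfinF : Finite F := finite_F D.good
  have hfd : FiniteDimensional F V := inferInstance
  have hV := D.dim
  have hVe : finrank F V < 2 * e := by omega
  have hy' : en Q y ^ l = 1 := by rw [← map_pow, hy, map_one]
  have h1 := finrank_add (en Q y)
  rw [finrank_R_eq hd hlF hVe hy hy1, hV] at h1
  refine v_of_psub fun X hX hXp => ?_
  rw [← D.card]
  exact card_le_irr D.ns D.h2F D.char hXp (rp X) (rp_inj X) (rp_iso X) (isom_en y) hlF hy'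
    (irr_R hd hlF hVe hy) (rp_comm hX) (by omega)

/-- **The `t`-part of the centraliser.** -/
theorem DatO.cent_t {l : ℕ} [hl : Fact l.Prime] (hl2 : l ≠ 2) (hlF : (l : F) ≠ 0) {m : ℕ}
    (hd : Ordd l (Nat.card F) (2 * m)) (he : 2 * n + 1 < 2 * (2 * m)) {y : ↥(E Q)} (hy : y ^ l = 1) (hy1 : y ≠ 1)
    {t : ℕ} [ht : Fact t.Prime] {c : ℕ} (hc0 : c ≠ 0)
    (hc : ∀ X : Subgroup ↥(E Q), IsPGroup t X → X ≤ centralizer ({y} : Set ↥(E Q)) →
      (∀ g ∈ X, ∀ w ∈ R (en Q y), en Q g w = w) → Nat.card X ∣ c) :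
    v t (centralizer ({y} : Set ↥(E Q))) ≤ ((p ^ f) ^ m + 1).factorization t + c.factorization t := by
  have hfinE : Finite ↥(E Q) := finite_E
  have hfinF : Finite F := finite_F D.good
  have hfd : FiniteDimensional F V := inferInstance
  have hV := D.dim
  have hVe : finrank F V < 2 * (2 * m) := by omega
  have hy' : en Q y ^ l = 1 := by rw [← map_pow, hy, map_one]
  have hy1' : en Q y ≠ 1 := fun h => hy1 (en_injective (h.trans (map_one _).symm))
  obtain ⟨X, hX, hXt, hXv⟩ := exists_psub (p := t) (centralizer ({y} : Set ↥(E Q)))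
  rw [← hXv]
  obtain ⟨m', hm', hdvd⟩ := card_dvd_R D.ns hl2 hlF hy' hy1' (isom_en y) (irr_R hd hlF hVe hy) (rp X) (rp_comm hX)
    (rp_iso X)
  rw [finrank_R_eq hd hlF hVe hy hy1] at hm'
  have hmm : m' = m := by omega
  subst hmm
  rw [D.card] at hdvd
  set τ := res (rp X) (R (en Q y)) fun g _ hw => R_inv (rp_comm hX g) hw with hτ
  have h1 : Nat.card τ.ker ∣ c := by
    have h2 := hc (τ.ker.map X.subtype) ((hXt.to_subgroup τ.ker).map _) ((map_subtype_le _).trans hX) (by
      rintro _ ⟨g, hg, rfl⟩ w hw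
      exact mem_ker_res.1 hg w hw)
    rwa [(Nat.card_congr (τ.ker.equivMapOfInjective _ X.subtype_injective).toEquiv).symm] at h2
  have h2 : Nat.card X ∣ ((p ^ f) ^ m' + 1) * c := by
    rw [Subgroup.card_eq_card_quotient_mul_card_subgroup τ.ker]
    exact Nat.mul_dvd_mul hdvd h1
  have h3 := fac_mono (t := t) (mul_ne_zero (Nat.succ_ne_zero _) hc0) h2
  rwa [Nat.factorization_mul (Nat.succ_ne_zero _) hc0, Finsupp.add_apply] at h3

/-- a subgroup acting trivially on `R y` and on `K y` -/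
theorem DatO.eq_one_of_RK {l : ℕ} (hlF : (l : F) ≠ 0) {y : ↥(E Q)} (hy : y ^ l = 1) {g : ↥(E Q)}
    (h1 : ∀ w ∈ R (en Q y), en Q g w = w) (h2 : ∀ w ∈ K (en Q y), en Q g w = w) : g = 1 := by
  have hfd : FiniteDimensional F V := inferInstance
  have hy' : en Q y ^ l = 1 := by rw [← map_pow, hy, map_one]
  apply en_injective
  rw [map_one]
  refine LinearMap.ext fun x => ?_
  obtain ⟨a, ha, b, hb, rfl⟩ := decomp hy' hlF x
  rw [map_add, h2 a ha, h1 b hb]
  rfl

/-- elements of type `2n` -/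
theorem DatO.cent_t_first {l : ℕ} [hl : Fact l.Prime] (hl2 : l ≠ 2) (hlF : (l : F) ≠ 0)
    (hd : Ordd l (Nat.card F) (2 * n)) {y : ↥(E Q)} (hy : y ^ l = 1) (hy1 : y ≠ 1)
    {t : ℕ} [ht : Fact t.Prime] (ht2 : t ≠ 2) (htp : t ≠ p) :
    v t (centralizer ({y} : Set ↥(E Q))) ≤ ((p ^ f) ^ n + 1).factorization t := by
  have hfinE : Finite ↥(E Q) := finite_E
  have hfinF : Finite F := finite_F D.good
  have hfd : FiniteDimensional F V := inferInstance
  have hV := D.dim
  have hn := D.hn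
  have hy' : en Q y ^ l = 1 := by rw [← map_pow, hy, map_one]
  have h1 := finrank_add (en Q y)
  rw [finrank_R_eq hd hlF (by omega) hy hy1, hV] at h1
  have h2 := D.cent_t hl2 hlF hd (by omega) hy hy1 one_ne_zero (fun X hXt hX hXR => by
    rw [Nat.dvd_one, Nat.card_eq_one_iff_unique]
    have key : ∀ g ∈ X, g = 1 := fun g hg => by
      refine D.eq_one_of_RK hlF hy (hXR g hg) fun w hw => ?_
      have h3 : res (rp X) (K (en Q y)) (fun g _ hw => K_inv (rp_comm hX g) hw) ⟨g, hg⟩ = 1 := by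
        refine triv_of_le_one (ns_K D.ns (isom_en y) hlF hy') (by omega) (iso_res (rp_iso X ⟨g, hg⟩))
          (m := orderOf (⟨g, hg⟩ : ↥X)) (odd_orderOf ht2 hXt _) (natCast_orderOf_ne (D.cast ht.out htp) hXt _) ?_
        rw [← map_pow, pow_orderOf_eq_one, map_one]
      exact congrArg Subtype.val (LinearMap.congr_fun h3 ⟨w, hw⟩)
    exact ⟨⟨fun a b => Subtype.ext ((key a a.2).trans (key b b.2).symm)⟩, ⟨1⟩⟩)
  rwa [Nat.factorization_one, Finsupp.zero_apply, add_zero] at h2

/-- elements of type `2n - 2` -/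
theorem DatO.cent_t_second {l : ℕ} [hl : Fact l.Prime] (hl2 : l ≠ 2) (hlF : (l : F) ≠ 0)
    (hd : Ordd l (Nat.card F) (2 * (n - 1))) {y : ↥(E Q)} (hy : y ^ l = 1) (hy1 : y ≠ 1)
    {t : ℕ} [ht : Fact t.Prime] (ht2 : t ≠ 2) (htp : t ≠ p) :
    v t (centralizer ({y} : Set ↥(E Q))) ≤
      ((p ^ f) ^ (n - 1) + 1).factorization t + ((p ^ f) ^ 2 - 1).factorization t := by
  have hfinE : Finite ↥(E Q) := finite_E
  have hfinF : Finite F := finite_F D.good
  have hfd : FiniteDimensional F V := inferInstance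
  have hV := D.dim
  have hn := D.hn
  have hy' : en Q y ^ l = 1 := by rw [← map_pow, hy, map_one]
  have h1 := finrank_add (en Q y)
  rw [finrank_R_eq hd hlF (by omega) hy hy1, hV] at h1
  have hq : 1 < p ^ f := by
    rw [← D.card]
    exact Finite.one_lt_card
  have hq2 : 1 < (p ^ f) ^ 2 := Nat.one_lt_pow (by norm_num) hq
  refine D.cent_t hl2 hlF hd (by omega) hy hy1 (show (p ^ f) ^ 2 - 1 ≠ 0 by omega) (fun X hXt hX hXR => ?_)
  rw [← D.card]
  refine card_dvd_three (ns_K D.ns (isom_en y) hlF hy') ht2 (D.cast ht.out htp) hXt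
    (res (rp X) (K (en Q y)) (fun g _ hw => K_inv (rp_comm hX g) hw)) ?_ (fun g => iso_res (rp_iso X g)) (by omega)
  rw [← MonoidHom.ker_eq_bot_iff, eq_bot_iff]
  intro g hg
  rw [Subgroup.mem_bot]
  exact Subtype.ext (D.eq_one_of_RK hlF hy (hXR g g.2) fun w hw => mem_ker_res.1 hg w hw)

theorem DatO.v_char : v p (P Q) = f * n ^ 2 := by
  have hfinE : Finite ↥(E Q) := finite_E
  have hfinP : Finite (P Q) := inferInstance
  exact fac_odd_char hp.out D.p2 D.hf Nat.card_pos.ne' D.ord

theorem DatO.v_odd {t : ℕ} (ht : t.Prime) (ht2 : t ≠ 2) (htp : t ≠ p) :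
    v t (P Q) = ((p ^ f) ^ n + 1).factorization t + ((p ^ f) ^ (n - 1) + 1).factorization t +
      (((p ^ f) ^ n - 1).factorization t + ((p ^ f) ^ (n - 1) - 1).factorization t +
        (∏ i ∈ Finset.range (n - 2), ((p ^ f) ^ (2 * (i + 1)) - 1)).factorization t) := by
  have hfinE : Finite ↥(E Q) := finite_E
  have hfinP : Finite (P Q) := inferInstance
  exact fac_odd_odd ht ht2 hp.out htp D.hf D.hn Nat.card_pos.ne' D.ord

omit hp in
theorem DatO.out_odd {t : ℕ} (ht : t.Prime) (ht2 : t ≠ 2) :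
    (H160.PD.out (P Q)).factorization t = f.factorization t := by
  have hf := D.hf
  rw [D.out, Nat.factorization_mul two_ne_zero (by omega), Finsupp.add_apply,
    Nat.factorization_eq_zero_of_not_dvd fun h => ht2 ((Nat.prime_dvd_prime_iff_eq ht Nat.prime_two).1 h), zero_add]

theorem DatO.good_first {t : ℕ} (ht : t.Prime) (ht2 : t ≠ 2) (htp : t ≠ p)
    (hd : t ∣ (p ^ f) ^ n + 1) : (H160.PD.out (P Q)).factorization t < v t (P Q) := by
  have hn := D.hn
  have h1 := fac_prim ht ht2 hp.out D.hf (show 1 ≤ n by omega) hd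
  rw [D.out_odd ht ht2, D.v_odd ht ht2 htp]
  omega

theorem DatO.good_second {t : ℕ} (ht : t.Prime) (ht2 : t ≠ 2) (htp : t ≠ p)
    (hd : t ∣ (p ^ f) ^ (n - 1) + 1) : (H160.PD.out (P Q)).factorization t < v t (P Q) := by
  have hn := D.hn
  have h1 := fac_prim ht ht2 hp.out D.hf (show 1 ≤ n - 1 by omega) hd
  rw [D.out_odd ht ht2, D.v_odd ht ht2 htp]
  omega

theorem DatO.dvd_first {l : ℕ} (h : Prm F p f (2 * n) l) : l ∣ (p ^ f) ^ n + 1 := by
  have := Fact.mk h.prime
  have hn := D.hn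
  exact dvd_add_one (by omega) (D.card ▸ h.ord) h.dvd

theorem DatO.dvd_second {l : ℕ} (h : Prm F p f (2 * (n - 1)) l) : l ∣ (p ^ f) ^ (n - 1) + 1 := by
  have := Fact.mk h.prime
  have hn := D.hn
  exact dvd_add_one (by omega) (D.card ▸ h.ord) h.dvd

theorem DatO.uniq {e l : ℕ} (h : Prm F p f e l) (hV : finrank F V < 2 * e) : H160.PD.Uniq (P Q) l := by
  have hfinE : Finite ↥(E Q) := finite_E
  have hfinF : Finite F := finite_F D.good
  have := Fact.mk h.prime
  obtain ⟨P', hP'⟩ := cyclic_sylow D.good h.two h.cast h.ord hV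
  exact uniq_of_sylow P' hP'

/-- the prime divisors of the normalisers -/
theorem DatO.norm {e l : ℕ} (h : Prm F p f e l) (hV : finrank F V < 2 * e) {x : P Q} (hx : orderOf x = l) :
    ∃ y : ↥(E Q), y ^ l = 1 ∧ y ≠ 1 ∧ (QuotientGroup.mk y : P Q) = x ∧
      Nat.card (normalizer ((zpowers x : Subgroup (P Q)) : Set (P Q))) ∣
        Nat.card (centralizer ({y} : Set ↥(E Q))) * e := by
  have hfinE : Finite ↥(E Q) := finite_E
  have hfinF : Finite F := finite_F D.good
  have := Fact.mk h.prime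
  obtain ⟨y, hy, hy1, rfl⟩ := exists_lift_ord D.good h.prime h.two hx
  refine ⟨y, hy, hy1, rfl, ?_⟩
  have h2 := card_normalizer D.good h.two h.cast hy hy1 (irr_R h.ord h.cast hV hy)
  rwa [finrank_R_eq h.ord h.cast hV hy hy1] at h2

/-- **`NoOdd`.** -/
theorem DatO.noOdd {r s : ℕ} (hr : Prm F p f (2 * n) r) (hs : Prm F p f (2 * (n - 1)) s) :
    NoOdd (P Q) r s := by
  have hfinE : Finite ↥(E Q) := finite_E
  have hfinF : Finite F := finite_F D.good
  have hn := D.hn
  have hf := D.hf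
  have hV := D.dim
  have hrF := Fact.mk hr.prime
  have hsF := Fact.mk hs.prime
  have h1 := D.dvd_first hr
  have h2 := D.dvd_second hs
  have hrp := hr.ne_char D.char
  have hsp := hs.ne_char D.char
  have hrl : 2 * n + 1 ≤ r := by
    have h3 := hr.le
    have h4 : 1 * (2 * n) ≤ f * (2 * n) := Nat.mul_le_mul_right _ hf
    omega
  have hsl : 2 * (n - 1) + 1 ≤ s := by
    have h3 := hs.le
    have h4 : 1 * (2 * (n - 1)) ≤ f * (2 * (n - 1)) := Nat.mul_le_mul_right _ hf
    omega
  have e1 : ¬ s ∣ (p ^ f) ^ n + 1 := fun h => arith_succ (p := s) hs.two (by omega) h h2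
  have e2 : ¬ r ∣ (p ^ f) ^ (n - 1) + 1 := fun h => arith_succ (p := r) hr.two (by omega) h1 h
  have e3 : ¬ r ∣ (p ^ f) ^ 2 - 1 := fun h => by
    have h7 := Nat.le_of_dvd (by norm_num) (hr.ord 2 (by rw [D.card]; exact h))
    omega
  refine noOdd_of_uniq hr.prime hs.prime (fun h => e1 (h ▸ h1)) (D.uniq hr (by omega)) (D.uniq hs (by omega))
    (fun x hx hd => ?_) (fun x hx hd => ?_)
  · obtain ⟨y, hy, hy1, -, h3⟩ := D.norm hr (by omega) hx
    rcases hs.prime.dvd_mul.1 (hd.trans h3) with h4 | h4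
    · have h5 := D.cent_t_first hr.two hr.cast hr.ord hy hy1 (t := s) hs.two hsp
      rw [Nat.factorization_eq_zero_of_not_dvd e1] at h5
      have h6 := (v_pos hs.prime).2 h4
      omega
    · rcases hs.prime.dvd_mul.1 h4 with h5 | h5
      · exact hs.two ((Nat.prime_dvd_prime_iff_eq hs.prime Nat.prime_two).1 h5)
      · have := Nat.le_of_dvd (by omega) h5
        omega
  · obtain ⟨y, hy, hy1, -, h3⟩ := D.norm hs (by omega) hx
    rcases hr.prime.dvd_mul.1 (hd.trans h3) with h4 | h4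
    · have h5 := D.cent_t_second hs.two hs.cast hs.ord hy hy1 (t := r) hr.two hrp
      rw [Nat.factorization_eq_zero_of_not_dvd e2, Nat.factorization_eq_zero_of_not_dvd e3] at h5
      have h6 := (v_pos hr.prime).2 h4
      omega
    · have := Nat.le_of_dvd (by omega) h4
      omega

/-- an element of order `p` does not commute with an element of type `2n` -/
theorem DatO.cent_p_first {l : ℕ} (h : Prm F p f (2 * n) l) {y : ↥(E Q)} (hy : y ^ l = 1) (hy1 : y ≠ 1) :
    v p (centralizer ({y} : Set ↥(E Q))) = 0 := by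
  have := Fact.mk h.prime
  have hn := D.hn
  have h1 := D.cent_p h.cast h.ord (by omega) hy hy1
  have h2 : 2 * n + 1 - 2 * n - 1 = 0 := by omega
  rw [h2] at h1
  omega

/-- **`Inc`.** -/
theorem DatO.inc {r s : ℕ} (hr : Prm F p f (2 * n) r) (hs : Prm F p f (2 * (n - 1)) s) :
    Inc (P Q) r s := by
  have hfinE : Finite ↥(E Q) := finite_E
  have hfinF : Finite F := finite_F D.good
  have hfd : FiniteDimensional F V := inferInstance
  have hn := D.hn
  have hV := D.dim
  have hrF := Fact.mk hr.prime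
  have hsF := Fact.mk hs.prime
  have := D.simple
  intro b hb hb2 x hx hbx x' hx' hbx'
  have hbF := Fact.mk hb
  obtain ⟨t, y, ht, ht1, hbt, hy, hy1, -, hty⟩ := lift_aut D.good D.na D.aut hb hb2 hr.two
    (fun y hy => hr.irrZ D.card (by omega) y hy) hx hbx
  obtain ⟨z, hz, hz1, hzx⟩ := exists_lift_ord D.good hs.prime hs.two hx'
  have htz : t * z = z * t := by
    rw [hbt, MulAut.conj_apply, mul_inv_eq_iff_eq_mul, ← hzx] at hbx'
    exact (comm_of_mk D.good (hs.prime.odd_of_ne_two hs.two) hz hbx'.symm).symm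
  by_cases hbp : orderOf b = p
  · rw [hbp] at ht
    have h1 := D.cent_p_first hr hy hy1
    have h2 : orderOf (⟨t, mem_centralizer_singleton_iff.2 hty⟩ : centralizer ({y} : Set ↥(E Q))) = p := by
      rw [Subgroup.orderOf_mk]
      exact orderOf_eq_prime ht ht1
    have h3 : p ∣ Nat.card (centralizer ({y} : Set ↥(E Q))) := by
      rw [← h2]
      exact orderOf_dvd_natCard _
    have h4 := (v_pos hp.out).2 h3
    omega
  · have hbF' : ((orderOf b : ℕ) : F) ≠ 0 := D.cast hb hbp
    have hRy : finrank F (R (en Q y)) = 2 * n := finrank_R_eq hr.ord hr.cast (by omega) hy hy1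
    have hRz : finrank F (R (en Q z)) = 2 * (n - 1) := finrank_R_eq hs.ord hs.cast (by omega) hz hz1
    have ht' : en Q t ≠ 1 := fun h => ht1 (en_injective (h.trans (map_one _).symm))
    obtain ⟨hpn, hRt⟩ : orderOf b ∣ Nat.card F ^ n + 1 ∧ 2 * n ≤ finrank F (R (en Q t)) := by
      rcases comm_elt D.good hr.two hr.cast hy (irr_R hr.ord hr.cast (by omega) hy) ht hty with h | ⟨h, m, hm, hpm⟩
      · exfalso
        have h1 := Submodule.finrank_mono (R_le_K hr.cast hy hty h)
        have h2 := finrank_add (en Q y)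
        rw [hRy, hV] at h2
        have h3 := finrank_R_ne_one D.good hb2 hbF' ht
        apply ht'
        rw [← R_eq_bot, ← Submodule.finrank_eq_zero (R := F)]
        omega
      · rw [hRy] at hm
        have hmn : m = n := by omega
        subst hmn
        refine ⟨hpm, ?_⟩
        rw [← hRy]
        exact Submodule.finrank_mono h
    rcases comm_elt D.good hs.two hs.cast hz (irr_R hs.ord hs.cast (by omega) hz) ht htz with h | ⟨h, m, hm, hpm⟩
    · have h1 := Submodule.finrank_mono (R_le_K hs.cast hz htz h)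
      have h2 := finrank_add (en Q z)
      rw [hRz] at h2
      omega
    · rw [hRz] at hm
      have hmn : m = n - 1 := by omega
      subst hmn
      exact arith_succ (p := orderOf b) hb2 (by omega) hpn hpm

/-- **`syl`.** -/
theorem DatO.syl {e r : ℕ} (hr : Prm F p f e r) (he : 2 * n + 1 < 2 * e) {b : MulAut (P Q)}
    (hb : (orderOf b).Prime) (hb2 : orderOf b ≠ 2) (hbp : orderOf b ≠ p) {x : P Q} (hx : orderOf x = r)
    (hbx : b x = x) : v p (Fx b) ≤ f * (n * (n - 1)) := by
  have hfinE : Finite ↥(E Q) := finite_E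
  have hfinF : Finite F := finite_F D.good
  have hn := D.hn
  have hV := D.dim
  have hrF := Fact.mk hr.prime
  have := D.simple
  have hbF := Fact.mk hb
  obtain ⟨t, y, ht, ht1, hbt, hy, hy1, -, hty⟩ := lift_aut D.good D.na D.aut hb hb2 hr.two
    (fun y hy => hr.irrZ D.card (by omega) y hy) hx hbx
  have h2 := v_centralizer_mk D.good (hb.odd_of_ne_two hb2) ht p
  have h3 : v p (Fx b) ≤ v p (centralizer ({(QuotientGroup.mk t : P Q)} : Set (P Q))) := by
    rw [← Fx_conj, ← hbt]
  refine (h3.trans h2).trans (v_of_psub fun X hX hXp => ?_)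
  rw [← D.card]
  exact card_le_comm D.ns D.h2F D.char hXp (rp X) (rp_inj X) (rp_iso X) hV (isom_en t) (hb.odd_of_ne_two hb2)
    (D.cast hb hbp) (by rw [← map_pow, ht, map_one]) (fun h => ht1 (en_injective (h.trans (map_one _).symm)))
    (rp_comm hX)

/-- **The subgroups of odd order, type `2n`.** -/
theorem DatO.odd_first {r : ℕ} (hr : Prm F p f (2 * n) r) (H : Subgroup (P Q))
    (hH : Odd (Nat.card H)) (hrH : r ∣ Nat.card H) : v p H ≤ (2 * n).factorization p := by
  have hfinE : Finite ↥(E Q) := finite_E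
  have hfinF : Finite F := finite_F D.good
  have hfd : FiniteDimensional F V := inferInstance
  have hn := D.hn
  have hV := D.dim
  have hrF := Fact.mk hr.prime
  have h0 := odd_bound_of_uniq (S := P Q) (a := 0) (b := (2 * n).factorization p) hp.out hr.prime
    (hr.ne_char D.char).symm (D.uniq hr (by omega)) (fun X hX x hx hxo => ?_) (fun x hx => ?_) H hH hrH
  · omega
  · obtain ⟨y, hy, hy1, rfl⟩ := exists_lift_ord D.good hr.prime hr.two hxo
    have hy' : en Q y ^ r = 1 := by rw [← map_pow, hy, map_one]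
    have h1 := finrank_add (en Q y)
    rw [finrank_R_eq hr.ord hr.cast (by omega) hy hy1, hV] at h1
    have h2 := noNorm_of_ti D.good D.p2 D.char (ti_of_irr D.good hr.cast hy
      (irr_R hr.ord hr.cast (by omega) hy) fun v hv hvv =>
        congrArg Subtype.val (zero_of_dim_le_one (ns_K D.ns (isom_en y) hr.cast hy') (by omega)
          (w := ⟨v, hv⟩) hvv)) X hX hx
    rw [h2, v, Subgroup.card_bot, Nat.factorization_one]
    rfl
  · obtain ⟨y, hy, hy1, -, h3⟩ := D.norm hr (by omega) hx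
    refine (fac_mono (mul_ne_zero Nat.card_pos.ne' (by omega)) h3).trans ?_
    rw [Nat.factorization_mul Nat.card_pos.ne' (by omega), Finsupp.add_apply]
    have h4 := D.cent_p_first hr hy hy1
    simp only [v] at h4
    rw [h4, zero_add]

/-- **The subgroups of odd order, type `2n - 2`.** -/
theorem DatO.odd_second {r : ℕ} (hr : Prm F p f (2 * (n - 1)) r)
    (H : Subgroup (P Q)) (hH : Odd (Nat.card H)) (hrH : r ∣ Nat.card H) :
    v p H ≤ f * (2 * n - 1) + (f + (2 * (n - 1)).factorization p) := by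
  have hfinE : Finite ↥(E Q) := finite_E
  have hfinF : Finite F := finite_F D.good
  have hfd : FiniteDimensional F V := inferInstance
  have hn := D.hn
  have hV := D.dim
  have hrF := Fact.mk hr.prime
  refine odd_bound_of_uniq (S := P Q) hp.out hr.prime
    (hr.ne_char D.char).symm (D.uniq hr (by omega)) (fun X hX x hx hxo => ?_) (fun x hx => ?_) H hH hrH
  · obtain ⟨y, hy, hy1, rfl⟩ := exists_lift_ord D.good hr.prime hr.two hxo
    have hy' : en Q y ^ r = 1 := by rw [← map_pow, hy, map_one]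
    have h1 := finrank_add (en Q y)
    rw [finrank_R_eq hr.ord hr.cast (by omega) hy hy1, hV] at h1
    obtain ⟨T, hT, hmap, hnorm⟩ := Cfsg.Agent.SigZeroU5.exists_lift (Subgroup.center ↥(E Q)) le_rfl
      (not_dvd_center D.good D.p2) hX
    have hnorm' := hnorm y hx
    have hyy : ∀ w, en Q y (en Q y⁻¹ w) = w := fun w => by
      rw [← Module.End.mul_apply, ← map_mul, mul_inv_cancel, map_one, Module.End.one_apply]
    have hyy' : ∀ w, en Q y⁻¹ (en Q y w) = w := fun w => by
      rw [← Module.End.mul_apply, ← map_mul, inv_mul_cancel, map_one, Module.End.one_apply]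
    have h4 : v p T ≤ f * (2 * n - 1) := by
      apply v_le_of_card hT
      rw [← D.card]
      have h5 := card_le_norm D.ns D.h2F D.char hT (rp T) (rp_inj T) (rp_iso T) (isom_en y) hr.cast hy'
        (irr_R hr.ord hr.cast (by omega) hy) hyy hyy' (fun g => ?_) (fun g => ?_) (by omega)
      · rwa [hV, show 2 * n + 1 - 2 = 2 * n - 1 by omega] at h5
      · have h6 : y⁻¹ * (g : ↥(E Q)) * y ∈ T := by
          rw [hnorm']
          have h7 : y * (y⁻¹ * (g : ↥(E Q)) * y) * y⁻¹ = g := by group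
          rw [h7]
          exact g.2
        refine ⟨⟨_, h6⟩, fun w => ?_⟩
        rw [rp_apply, rp_apply]
        change en Q g (en Q y w) = en Q y (en Q (y⁻¹ * (g : ↥(E Q)) * y) w)
        rw [← Module.End.mul_apply, ← Module.End.mul_apply, ← map_mul, ← map_mul]
        congr 2
        group
      · have h6 : y * (g : ↥(E Q)) * y⁻¹ ∈ T := (hnorm' _).1 g.2
        refine ⟨⟨_, h6⟩, fun w => ?_⟩
        rw [rp_apply, rp_apply]
        change en Q g (en Q y⁻¹ w) = en Q y⁻¹ (en Q (y * (g : ↥(E Q)) * y⁻¹) w)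
        rw [← Module.End.mul_apply, ← Module.End.mul_apply, ← map_mul, ← map_mul]
        congr 2
        group
    refine le_trans ?_ h4
    rw [← hmap]
    exact fac_mono Nat.card_pos.ne' (Subgroup.card_map_dvd _ _)
  · obtain ⟨y, hy, hy1, -, h3⟩ := D.norm hr (by omega) hx
    refine (fac_mono (mul_ne_zero Nat.card_pos.ne' (by omega)) h3).trans ?_
    rw [Nat.factorization_mul Nat.card_pos.ne' (by omega), Finsupp.add_apply]
    have h4 := D.cent_p hr.cast hr.ord (by omega) hy hy1
    have h5 : (2 * n + 1 - 2 * (n - 1) - 1) ^ 2 / 4 = 1 := by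
      rw [show 2 * n + 1 - 2 * (n - 1) - 1 = 2 by omega]
      norm_num
    rw [h5, mul_one] at h4
    exact Nat.add_le_add_right h4 _

end p

end Cfsg.Agent.H898.PDOdd
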