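import Cfsg.Agent.H898.TE6Data
import Cfsg.Agent.TwoESix.FiInst
import Cfsg.Agent.BabyU.Setup

/-!
# ²E₆(2): the explicit elements in `twistedE6 K 2` (helper898)
-/

set_option autoImplicit false

namespace Cfsg.Agent.H898.TE6Cfg

open Cfsg.Lie Cfsg.Spor Cfsg.Agent.TwoESix.Data Cfsg.Agent.TwoESix.Iso Cfsg.Agent.TwoESix.Gens
open Cfsg.Agent.TwoESix.Rels Cfsg.Agent.TwoESix.Main Cfsg.Agent.TwoESix.FiInst
open Cfsg.Agent.Lib Cfsg.Agent.Lib.F2MatGroup Cfsg.Agent.H898.TE6Data

/-- the equations and inequalities -/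
structure Cfg {G : Type*} [Group G] (x : ℕ → G) : Prop where
  eqs : ∀ p ∈ eqs', (p.1.map x).prod = (p.2.map x).prod
  neqs : ∀ p ∈ neqs', (p.1.map x).prod ≠ (p.2.map x).prod

theorem getG_runG {G : Type*} [Group G] (ws : List (List ℕ)) (L : List G) (i : ℕ) :
    getG (runG ws L) (i + ws.length) = getG L i := by
  induction ws generalizing L i with
  | nil => rfl
  | cons w ws ih =>
    rw [runG_cons, List.length_cons, show i + (ws.length + 1) = (i + 1) + ws.length by ring, ih]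
    rfl

theorem prog_length : prog.length = 72 := by decide +kernel

theorem getG_LR (i : Fin 10) : getG LR (iT i) = T i := by
  rw [← getG_T i, LR, iT]
  have := getG_runG prog LG i
  rwa [prog_length] at this

theorem LG_mem : ∀ g ∈ LG, g ∈ Gam := by
  intro g hg
  rcases List.mem_append.1 hg with h | h
  · obtain ⟨i, rfl⟩ := List.mem_ofFn.1 h
    exact T_mem i
  · obtain ⟨i, rfl⟩ := List.mem_ofFn.1 h
    exact Subgroup.subset_closure ⟨i, rfl⟩

theorem LR_mem (i : ℕ) : getG LR i ∈ Gam := getG_mem Gam (runG_mem Gam LG_mem prog) i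

theorem evG_eq {G : Type*} [Group G] (L : List G) (w : List ℕ) : evG L w = (w.map (getG L)).prod := by
  induction w with
  | nil => rfl
  | cons i w ih => rw [evG_cons, ih, List.map_cons, List.prod_cons]

/-- **the configuration in ²E₆(2)** -/
theorem exists_cfg (K : Type*) [Field K] [Fintype K] (hK : Fintype.card K = 4) :
    ∃ (x : ℕ → twistedE6 K 2) (fi : Spor.Fi22 →* twistedE6 K 2), Cfg x ∧
      (∀ i : Fin 10, x (iT i) ∈ Cfsg.Agent.BabyU.rootClass K) ∧ Y333 (fun i : Fin 10 => x (iT i)) ∧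
      (∀ i : Fin 10, x (iT i) ≠ 1) ∧ ∀ a, fi (PresentedGroup.of a) = x (iT (nd a)) := by
  obtain ⟨w, f, h2, hw, hf, hmap, hval⟩ := exists_phi K hK
  have hmem : ∀ g ∈ Gam, f g ∈ twistedE6 K 2 := fun g hg => hmap ▸ ⟨g, hg, rfl⟩
  have hfi : ∀ x : Spor.Fi22, fiHom x ∈ Gam := by
    have h1 : (⊤ : Subgroup Spor.Fi22) ≤ Gam.comap fiHom := by
      rw [← PresentedGroup.closure_range_of, Subgroup.closure_le]
      rintro _ ⟨g, rfl⟩
      show fiHom (PresentedGroup.of g) ∈ Gam
      rw [fiHom_of]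
      exact T_mem _
    exact fun x => h1 (Subgroup.mem_top x)
  let x : ℕ → twistedE6 K 2 := fun i => ⟨f (getG LR i), hmem _ (LR_mem i)⟩
  have hx : ∀ i : Fin 10, x (iT i) = ⟨f (T i), hmem _ (T_mem i)⟩ := by
    intro i
    apply Subtype.ext
    show f (getG LR (iT i)) = f (T i)
    rw [getG_LR]
  have hprod : ∀ l : List ℕ, (((l.map x).prod : twistedE6 K 2) : GL chevE6.Idx K) = f (evG LR l) := by
    intro l
    induction l with
    | nil => rw [evG_nil, map_one]; rfl
    | cons i l ih =>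
      rw [List.map_cons, List.prod_cons, evG_cons, map_mul, ← ih]
      rfl
  refine ⟨x, (f.comp fiHom).codRestrict (twistedE6 K 2) (fun x => hmem _ (hfi x)), ⟨?_, ?_⟩, ?_, ?_, ?_, ?_⟩
  · intro p hp
    apply Subtype.ext
    rw [hprod, hprod, eqs_LR p hp]
  · intro p hp h
    apply neqs_LR p hp
    apply hf
    rw [← hprod, ← hprod, h]
  · intro i
    rw [hx]
    obtain ⟨g, hg, hgi⟩ := T_conj i
    refine ⟨⟨f g, hmem g hg⟩, ⟨f (gM 0), hmem _ (Subgroup.subset_closure ⟨0, rfl⟩)⟩, ?_, Subtype.ext ?_⟩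
    · show ((f (gM 0) : GL chevE6.Idx K) : Matrix chevE6.Idx chevE6.Idx K) = chevE6.x K e6p2 1
      rw [hval]
      simp [lw, ws, ChevalleyDatum.wordMat, Cfsg.Agent.TwoESix.Coded.cv_one]
      rfl
    · show f (T i) = f g * f (gM 0) * (f g)⁻¹
      rw [hgi, map_mul, map_mul, map_inv]
  · have : (fun i : Fin 10 => x (iT i)) = fun i => ⟨f (T i), hmem _ (T_mem i)⟩ := funext hx
    rw [this]
    exact Y333.of_injective (twistedE6 K 2).subtype Subtype.coe_injective (Y333_T.map f)
  · intro i h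
    rw [hx] at h
    apply T_ne_one i
    apply hf
    rw [map_one]
    exact congrArg Subtype.val h
  · intro a
    rw [hx]
    apply Subtype.ext
    show f (fiHom (PresentedGroup.of a)) = f (T (nd a))
    rw [fiHom_of]

end Cfsg.Agent.H898.TE6Cfg
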