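import Cfsg.Agent.TwoESix.Gens

/-!
# ²E₆(2): explicit elements around an element of order five (helper898)

A straight line program `prog` on the ten root involutions `T 0, …, T 9`, with results
`y = T3 T4 T5 T6`, `yi = y⁻¹`, `b_0, …, b_29` (root involutions collinear to `T 9`), `u_j = [b, y]`, `s_k` (products of
`b`'s), and six elements `e_0, …, e_5` generating a group `A₈` in the centralizer of `y`.
-/

set_option autoImplicit false

namespace Cfsg.Agent.H898.TE6Data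

open Cfsg.Agent.TwoESix.Data Cfsg.Agent.TwoESix.Iso Cfsg.Agent.TwoESix.Gens
open Cfsg.Agent.Lib Cfsg.Agent.Lib.F2MatGroup

/-- the program -/
def prog : List (List ℕ) := [
  [3, 4, 5, 6],
  [7, 6, 5, 4],
  [10, 9, 5, 6, 4, 5, 9, 10, 11, 10, 7, 6, 3, 4, 5, 9, 8, 5, 6, 7, 4, 5, 6, 2, 3, 4, 5, 9, 10, 9, 5, 6, 4, 5, 9, 7, 8, 5, 6, 7, 3, 4, 5, 6, 2, 3, 4, 5, 9, 10, 11, 10, 9, 5, 4, 3, 2, 6, 5, 4, 3, 7, 6, 5, 8, 7, 9, 5, 4, 6, 5, 9, 10, 9, 5, 4, 3, 2, 6, 5, 4, 7, 6, 5, 8, 9, 5, 4, 3, 6, 7, 10, 11, 10, 9, 5, 4, 6, 5, 9, 10],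
  [4, 0, 4],
  [7, 1, 7],
  [5, 2, 5],
  [10, 0, 10],
  [10, 3, 10],
  [10, 3, 10],
  [13, 4, 13],
  [17, 5, 17],
  [12, 5, 12],
  [15, 6, 15],
  [18, 3, 18],
  [15, 5, 15],
  [19, 6, 19],
  [20, 3, 20],
  [20, 5, 20],
  [24, 5, 24],
  [26, 6, 26],
  [20, 5, 20],
  [23, 8, 23],
  [29, 8, 29],
  [27, 1, 27],
  [27, 1, 27],
  [28, 1, 28],
  [28, 0, 28],
  [34, 5, 34],
  [33, 11, 33],
  [32, 1, 32],
  [36, 1, 36],
  [36, 5, 36],
  [27, 30, 27, 31],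
  [26, 31, 26, 32],
  [8, 32, 8, 33],
  [10, 33, 10, 34],
  [24, 34, 24, 35],
  [34, 35, 34, 36],
  [34, 36, 34, 37],
  [21, 37, 21, 38],
  [8, 38, 8, 39],
  [18, 39, 18, 40],
  [21, 40, 21, 41],
  [30, 41, 30, 42],
  [29, 42, 29, 43],
  [23, 43, 23, 44],
  [19, 44, 19, 45],
  [23, 45, 23, 46],
  [36],
  [17],
  [26],
  [37],
  [48],
  [27, 45],
  [50, 32],
  [41, 27],
  [27],
  [35, 51, 42],
  [54, 53],
  [46, 45, 32],
  [48, 39, 42],
  [49, 45, 53],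
  [49, 33, 52],
  [49, 57, 45],
  [71, 67, 68, 66, 67, 71, 69, 70, 68, 69, 67, 68, 66, 67, 71, 72, 73, 72, 71, 67, 66, 68, 67, 69, 68, 70, 69, 71, 67, 66, 68, 67, 71],
  [67, 68, 72, 73, 74, 68, 72, 67, 68, 69, 70, 66, 67, 68, 69, 65, 66, 67, 68, 72, 71, 67, 68, 69, 70, 66, 67, 68, 69, 65, 66, 67, 68, 72, 73, 72, 68, 69, 67, 68, 72, 70, 71, 69, 70, 66, 67, 68, 69, 65, 66, 67, 68, 72, 73, 74, 73, 72, 68, 67, 66, 65, 69, 68, 67, 66, 70, 69, 71, 70, 72, 68, 67, 69, 68, 72, 73, 72, 68, 67, 66, 65, 69, 68, 67, 66, 70, 69, 68, 67, 71, 72, 68, 67, 66, 65, 69, 68, 67, 66, 70, 69, 68, 67, 72, 68, 74, 73, 72, 68, 67],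
  [75, 74, 66, 67],
  [75, 2, 76, 68, 67, 2],
  [76, 77, 68, 2, 77, 68, 2, 77],
  [70, 69, 4, 78, 77, 70, 4, 78],
  [79, 78, 70, 5, 79, 4, 70, 5, 4],
  [80, 72, 5, 6, 80, 79, 5, 80, 6, 5]]

/-- index of `T i` in the list of results -/
def iT (i : ℕ) : ℕ := i + 72
/-- index of `y` -/
def iy : ℕ := 71
/-- index of `y⁻¹` -/
def iyi : ℕ := 70
/-- index of `b k` -/
def iB (k : ℕ) : ℕ := 69 - k
/-- index of `u j` -/
def iU (j : ℕ) : ℕ := 39 - j
/-- index of `s k` -/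
def iS (k : ℕ) : ℕ := 23 - k
/-- index of `e i` -/
def iE (i : ℕ) : ℕ := 5 - i

/-- the word of `b 0` -/
def wb : List ℕ := [8, 7, 3, 2, 1, 0, 4, 3, 2, 1, 5, 4, 3, 6, 5, 7, 3, 2, 4, 3, 7, 8, 7, 3, 2, 1, 0, 4, 3, 2, 5, 4, 3, 6, 7, 3, 2, 1, 4, 5, 8, 9, 8, 7, 3, 2, 4, 3, 7, 8]

/-- `b (k + 1)` is the conjugate of `b p` by `T g`, `(p, g) = par k` -/
def par : List (ℕ × ℕ) := [(0, 1), (0, 3), (0, 0), (3, 4), (1, 3), (2, 2), (2, 4), (2, 7), (3, 1), (3, 3), (7, 5), (6, 1), (6, 4), (10, 4), (9, 3), (10, 6), (10, 7), (12, 0), (10, 2), (11, 7), (19, 4), (20, 3), (21, 3), (23, 2), (19, 7), (14, 5), (25, 3), (26, 6), (23, 5)]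

/-- `u j` is the commutator of `b (ru j)` and `y` -/
def ru : List ℕ := [2, 4, 23, 22, 9, 0, 1, 15, 29, 20, 18, 10, 12, 19, 24, 21]

/-- `s k` is the product of the `b i`, `i ∈ sw k` -/
def sw : List (List ℕ) := [[9], [29], [21], [11], [1], [23, 5], [1, 19], [11, 25], [26], [19, 3, 12], [1, 2], [10, 11, 24], [9, 18, 15], [9, 13, 5], [10, 26, 7], [11, 3, 15]]

/-- the equations -/
def eqA : List (List ℕ × List ℕ) := [
  ([iy, iyi], []),
  ([iy, iy, iy, iy, iy], []),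
  ([iy], [iT 3, iT 4, iT 5, iT 6]),
  ([iB 0], wb.reverse.map iT ++ iT 9 :: wb.map iT),
  ([iB 11, iB 0, iB 11], [iB 0, iT 9]),
  ([iE 0, iE 1, iE 4, iE 2, iE 0, iE 5, iE 3, iE 2], [iT 9]),
  (List.flatten (List.replicate 5 [iT 1, iT 2, iT 3, iT 4]), [])]

def eqB : List (List ℕ × List ℕ) := (List.range 29).map fun k =>
  ([iB (k + 1)], [iT (par.getD k (0, 0)).2, iB (par.getD k (0, 0)).1, iT (par.getD k (0, 0)).2])

def eqU : List (List ℕ × List ℕ) := (List.range 16).map fun j =>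
  ([iU j], [iB (ru.getD j 0), iyi, iB (ru.getD j 0), iy])

def eqS : List (List ℕ × List ℕ) := (List.range 16).map fun k => ([iS k], (sw.getD k []).map iB)

def eqC : List (List ℕ × List ℕ) := (List.range 16).flatMap fun k => (List.range k).map fun j =>
  ([iS k, iU j], [iU j, iS k])

def eqD : List (List ℕ × List ℕ) := (List.range 16).map fun k => ([iS k, iU k], [iU k, iS k, iT 9])

def eqE : List (List ℕ × List ℕ) := (List.range 6).map fun i => ([iE i, iE i, iE i], [])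

def eqF : List (List ℕ × List ℕ) := (List.range 6).map fun i => ([iE i, iy], [iy, iE i])

def eqG : List (List ℕ × List ℕ) := (List.range 6).flatMap fun i => (List.range i).map fun j =>
  ([iE i, iE j, iE i, iE j], [])

def eqs' : List (List ℕ × List ℕ) := eqA ++ (eqB ++ (eqU ++ (eqS ++ (eqC ++ (eqD ++ (eqE ++ (eqF ++ eqG)))))))

def neqs' : List (List ℕ × List ℕ) := [([iy], []), ([iE 0], []), ([iT 1, iT 2, iT 3, iT 4], []), ([iT 9], [iT 6])]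

theorem check_all : check 78 (Ts ++ Ms) prog eqs' neqs' = true := by decide +kernel

/-- the results -/
def LR : List (GL (Fin 78) (ZMod 2)) := runG prog LG

theorem eqs_LR : ∀ p ∈ eqs', evG LR p.1 = evG LR p.2 := (check_sound (by norm_num) codes_LG check_all).1

theorem neqs_LR : ∀ p ∈ neqs', evG LR p.1 ≠ evG LR p.2 := (check_sound (by norm_num) codes_LG check_all).2

end Cfsg.Agent.H898.TE6Data
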