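import Mathlib

/-!
# The second coefficient of the characteristic polynomial; the sum over a 2-group (helper898)

* `e2` : the sum of the principal `2 × 2` minors, = the coefficient of degree `n - 2` of the characteristic polynomial.
* `e2_add`, `e2_list` : `e₂` of a sum.
* `sum_eq_zero` : a finite `p`-group acting in characteristic `p` on a space of smaller dimension than its order: the
  sum of its elements is 0.
-/

set_option autoImplicit false
set_option linter.unusedSectionVars false

namespace Cfsg.Agent.H898.TSETwo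

open Matrix Finset

universe u v

section e2

variable {n : Type v} {R : Type u} [Fintype n] [DecidableEq n] [CommRing R]

/-- the sum of the principal `2 × 2` minors -/
def e2 (M : Matrix n n R) : R :=
  ∑ s ∈ (univ : Finset n).powersetCard 2, (M.submatrix (Subtype.val : s → n) (Subtype.val : s → n)).det

theorem coeff_eq (M : Matrix n n R) (h : 2 ≤ Fintype.card n) : M.charpoly.coeff (Fintype.card n - 2) = e2 M := by
  rw [charpoly_coeff_eq_sum_minors M 2 h]
  unfold e2
  norm_num

theorem det_pair (M : Matrix n n R) {i j : n} (hij : i ≠ j) :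
    (M.submatrix (Subtype.val : ({i, j} : Finset n) → n) (Subtype.val : ({i, j} : Finset n) → n)).det =
      M i i * M j j - M i j * M j i := by
  have hi : i ∈ ({i, j} : Finset n) := by simp
  have hj : j ∈ ({i, j} : Finset n) := by simp
  let f : Fin 2 → ({i, j} : Finset n) := ![⟨i, hi⟩, ⟨j, hj⟩]
  have hf : Function.Bijective f := by
    constructor
    · intro a b hab
      have h1 := congrArg Subtype.val hab
      fin_cases a <;> fin_cases b
      · rfl
      · exact absurd h1 hij
      · exact absurd h1.symm hij
      · rfl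
    · rintro ⟨x, hx⟩
      rcases Finset.mem_insert.1 hx with h | h
      · exact ⟨0, Subtype.ext h.symm⟩
      · exact ⟨1, Subtype.ext (Finset.mem_singleton.1 h).symm⟩
  rw [← Matrix.det_submatrix_equiv_self (Equiv.ofBijective f hf), Matrix.det_fin_two]
  rfl

/-- the sum over the two orientations of a pair -/
theorem pair_add (A B : Matrix n n R) {s : Finset n} (hs : s ∈ (univ : Finset n).powersetCard 2) :
    ((A + B).submatrix (Subtype.val : s → n) (Subtype.val : s → n)).det =
      (A.submatrix (Subtype.val : s → n) (Subtype.val : s → n)).det +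
      (B.submatrix (Subtype.val : s → n) (Subtype.val : s → n)).det +
      ∑ p ∈ s.offDiag, (A p.1 p.1 * B p.2 p.2 - A p.1 p.2 * B p.2 p.1) := by
  obtain ⟨i, j, hij, rfl⟩ := Finset.card_eq_two.1 (Finset.mem_powersetCard.1 hs).2
  rw [det_pair _ hij, det_pair _ hij, det_pair _ hij]
  have h1 : ({i, j} : Finset n).offDiag = {(i, j), (j, i)} := by
    ext ⟨a, b⟩
    simp only [Finset.mem_offDiag, Finset.mem_insert, Finset.mem_singleton, Prod.mk.injEq]
    constructor
    · rintro ⟨rfl | rfl, rfl | rfl, h⟩
      · exact absurd rfl h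
      · exact Or.inl ⟨rfl, rfl⟩
      · exact Or.inr ⟨rfl, rfl⟩
      · exact absurd rfl h
    · rintro (⟨rfl, rfl⟩ | ⟨rfl, rfl⟩)
      · exact ⟨Or.inl rfl, Or.inr rfl, hij⟩
      · exact ⟨Or.inr rfl, Or.inl rfl, hij.symm⟩
  rw [h1, Finset.sum_pair (by
    intro h
    exact hij (Prod.mk.inj h).1)]
  simp only [Matrix.add_apply]
  ring

theorem e2_add (A B : Matrix n n R) : e2 (A + B) = e2 A + e2 B + (A.trace * B.trace - (A * B).trace) := by
  unfold e2
  rw [Finset.sum_congr rfl fun s hs => pair_add A B hs, Finset.sum_add_distrib, Finset.sum_add_distrib]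
  congr 1
  have h1 : ∑ s ∈ (univ : Finset n).powersetCard 2, ∑ p ∈ s.offDiag, (A p.1 p.1 * B p.2 p.2 - A p.1 p.2 * B p.2 p.1) =
      ∑ p ∈ (univ : Finset n).offDiag, ∑ s ∈ ({({p.1, p.2} : Finset n)} : Finset (Finset n)),
        (A p.1 p.1 * B p.2 p.2 - A p.1 p.2 * B p.2 p.1) := by
    apply Finset.sum_comm'
    rintro s ⟨a, b⟩
    simp only [Finset.mem_powersetCard, Finset.subset_univ, true_and, Finset.mem_offDiag, Finset.mem_singleton,
      Finset.mem_univ]
    constructor
    · rintro ⟨h2, ha, hb, hab⟩
      refine ⟨?_, hab⟩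
      symm
      apply Finset.eq_of_subset_of_card_le
      · intro x hx
        rcases Finset.mem_insert.1 hx with rfl | hx
        · exact ha
        · rw [Finset.mem_singleton.1 hx]; exact hb
      · rw [h2, Finset.card_pair hab]
    · rintro ⟨rfl, hab⟩
      exact ⟨Finset.card_pair hab, by simp, by simp, hab⟩
  rw [h1]
  simp only [Finset.sum_singleton]
  have h2 : ∑ p ∈ (univ : Finset n).offDiag, (A p.1 p.1 * B p.2 p.2 - A p.1 p.2 * B p.2 p.1) =
      ∑ p : n × n, (A p.1 p.1 * B p.2 p.2 - A p.1 p.2 * B p.2 p.1) := by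
    apply Finset.sum_subset (Finset.subset_univ _)
    rintro ⟨a, b⟩ _ h
    simp only [Finset.mem_offDiag, Finset.mem_univ, true_and, not_not] at h
    subst h
    ring
  rw [h2, Finset.sum_sub_distrib, Fintype.sum_prod_type, Fintype.sum_prod_type]
  congr 1
  · simp only [Matrix.trace, Matrix.diag_apply]
    rw [Finset.sum_mul_sum]

theorem e2_zero : e2 (0 : Matrix n n R) = 0 := by
  have := e2_add (0 : Matrix n n R) 0
  simp only [add_zero, Matrix.trace_zero, mul_zero, sub_zero] at this
  exact left_eq_add.1 this

/-- the mixed terms of a list -/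
def mix : List (Matrix n n R) → R
  | [] => 0
  | A :: l => (l.map fun B => A.trace * B.trace - (A * B).trace).sum + mix l

theorem e2_list : ∀ l : List (Matrix n n R), e2 l.sum = (l.map e2).sum + mix l
  | [] => by rw [List.sum_nil, e2_zero]; simp [mix]
  | A :: l => by
    have h1 : ∀ l : List (Matrix n n R), A.trace * l.sum.trace - (A * l.sum).trace =
        (l.map fun B => A.trace * B.trace - (A * B).trace).sum := by
      intro l
      induction l with
      | nil => simp
      | cons B l ih =>
        rw [List.sum_cons, List.map_cons, List.sum_cons, ← ih, Matrix.trace_add, Matrix.mul_add, Matrix.trace_add]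
        ring
    rw [List.sum_cons, e2_add, e2_list l, h1, List.map_cons, List.sum_cons, mix]
    ring

end e2

section sum

open Module

/-- **a `p`-group acting in characteristic `p` on a space of dimension less than its order** -/
theorem sum_eq_zero {P : Type*} [Group P] [Fintype P] {p : ℕ} [Fact p.Prime] (hP : IsPGroup p P) {k V : Type*}
    [Field k] [Finite k] [CharP k p] [AddCommGroup V] [Module k V] [FiniteDimensional k V] (ρ : P →* End k V)
    (h : finrank k V < Fintype.card P) : ∑ g, ρ g = 0 := by
  classical
  by_contra hne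
  have hw : ∃ w, (∑ g, ρ g) w ≠ 0 := by
    by_contra hcon
    push Not at hcon
    exact hne (LinearMap.ext hcon)
  obtain ⟨w, hw⟩ := hw
  rw [LinearMap.sum_apply] at hw
  let T : (P → k) →ₗ[k] V := ∑ g, (LinearMap.proj g).smulRight (ρ g w)
  have hT : ∀ a, T a = ∑ g, a g • ρ g w := fun a => by
    simp only [T, LinearMap.sum_apply, LinearMap.smulRight_apply, LinearMap.proj_apply]
  have hTh : ∀ (x : P) a, T (fun g => a (x⁻¹ * g)) = ρ x (T a) := by
    intro x a
    rw [hT, hT, map_sum, ← Equiv.sum_comp (Equiv.mulLeft x)]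
    refine Finset.sum_congr rfl fun g _ => ?_
    rw [map_smul, Equiv.coe_mulLeft, inv_mul_cancel_left, map_mul]
    rfl
  let act : MulAction P T.ker :=
    { smul := fun x a => ⟨fun g => a.1 (x⁻¹ * g), by
        rw [LinearMap.mem_ker, hTh, LinearMap.mem_ker.1 a.2, map_zero]⟩
      one_smul := fun a => by
        apply Subtype.ext
        funext g
        show a.1 (1⁻¹ * g) = a.1 g
        rw [inv_one, one_mul]
      mul_smul := fun x y a => by
        apply Subtype.ext
        funext g
        show a.1 ((x * y)⁻¹ * g) = a.1 (y⁻¹ * (x⁻¹ * g))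
        rw [_root_.mul_inv_rev, mul_assoc] }
  have hfin : Finite (P → k) := inferInstance
  have hfin' : Finite T.ker := inferInstance
  have hker : T.ker ≠ ⊥ := by
    intro hbot
    have h1 := LinearMap.finrank_le_finrank_of_injective (LinearMap.ker_eq_bot.1 hbot)
    rw [finrank_fintype_fun_eq_card] at h1
    omega
  have hpd : p ∣ Nat.card T.ker := by
    have : Nontrivial T.ker := (Submodule.nontrivial_iff_ne_bot).2 hker
    obtain ⟨q, hq⟩ := exists_ne (0 : T.ker)
    have hord : addOrderOf q = p := by
      apply addOrderOf_eq_prime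
      · apply Subtype.ext
        rw [Submodule.coe_smul_of_tower]
        funext g
        show p • q.1 g = 0
        rw [nsmul_eq_mul, CharP.cast_eq_zero, zero_mul]
      · exact hq
    rw [← hord]
    exact addOrderOf_dvd_natCard q
  have h0 : (0 : T.ker) ∈ MulAction.fixedPoints P T.ker := by
    intro x
    apply Subtype.ext
    rfl
  obtain ⟨b, hb, hb0⟩ := hP.exists_fixed_point_of_prime_dvd_card_of_fixed_point T.ker hpd h0
  have hconst : ∀ g, b.1 g = b.1 1 := by
    intro g
    have h1 := congrArg (fun a : T.ker => a.1 g) (hb g)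
    have h2 : b.1 (g⁻¹ * g) = b.1 g := h1
    rw [inv_mul_cancel] at h2
    exact h2.symm
  have hb1 : b.1 1 ≠ 0 := by
    intro h1
    apply hb0
    apply Subtype.ext
    funext g
    rw [hconst, h1]
    rfl
  have h2 : T b.1 = 0 := LinearMap.mem_ker.1 b.2
  rw [hT] at h2
  have h3 : ∑ g, b.1 g • ρ g w = b.1 1 • ∑ g, ρ g w := by
    rw [Finset.smul_sum]
    exact Finset.sum_congr rfl fun g _ => by rw [hconst]
  rw [h3] at h2
  exact hw ((smul_eq_zero.1 h2).resolve_left hb1)

end sum

end Cfsg.Agent.H898.TSETwo
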