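import Cfsg.Agent.H898.AltEight

/-!
# `5`-local structure of a group in which the elements of order 5 have centraliser `5 × A₈` (helper898)

`no_config`: there are no commuting independent elements `a, b` of order 5 with elements `t : a ↦ a⁻¹, b ↦ b` and
`c : a ↦ a²b³, b ↦ ab²` (`S₃` acting on `5²` with an orbit of length 3 on the subgroups of order 5).
-/

set_option autoImplicit false

namespace Cfsg.Agent.H898.TSFive

open Subgroup Equiv

universe u

/-- the centralisers of the elements of order 5 are `5 × A₈` -/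
def FiveCent (G : Type u) [Group G] : Prop :=
  ∀ x : G, orderOf x = 5 → Nonempty (↥(centralizer ({x} : Set G)) ≃* (Multiplicative (ZMod 5) × ↥(alternatingGroup (Fin 8))))

variable {G : Type u} [Group G]

/-- the derived subgroup of the centraliser -/
def D (x : G) : Subgroup G := ⁅centralizer ({x} : Set G), centralizer ({x} : Set G)⁆

theorem D_le (x : G) : D x ≤ centralizer ({x} : Set G) :=
  commutator_le.2 fun _ ha _ hb => mul_mem (mul_mem (mul_mem ha hb) (inv_mem ha)) (inv_mem hb)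

theorem comm_of_mem {x y : G} (h : y ∈ D x) : Commute x y :=
  (mem_centralizer_singleton_iff.1 (D_le x h)).symm

theorem centralizer_conj (g x : G) :
    (centralizer ({x} : Set G)).map (MulAut.conj g).toMonoidHom = centralizer ({g * x * g⁻¹} : Set G) := by
  ext y
  rw [mem_map, mem_centralizer_singleton_iff]
  constructor
  · rintro ⟨z, hz, rfl⟩
    rw [mem_centralizer_singleton_iff] at hz
    simp only [MulEquiv.coe_toMonoidHom, MulAut.conj_apply]
    calc g * z * g⁻¹ * (g * x * g⁻¹) = g * (z * x) * g⁻¹ := by group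
      _ = g * (x * z) * g⁻¹ := by rw [hz]
      _ = g * x * g⁻¹ * (g * z * g⁻¹) := by group
  · intro h
    refine ⟨g⁻¹ * y * g, ?_, by simp only [MulEquiv.coe_toMonoidHom, MulAut.conj_apply]; group⟩
    rw [mem_centralizer_singleton_iff]
    calc g⁻¹ * y * g * x = g⁻¹ * (y * (g * x * g⁻¹)) * g := by group
      _ = g⁻¹ * ((g * x * g⁻¹) * y) * g := by rw [h]
      _ = x * (g⁻¹ * y * g) := by group

theorem D_conj {x y : G} (h : y ∈ D x) (g : G) : g * y * g⁻¹ ∈ D (g * x * g⁻¹) := by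
  unfold D at h ⊢
  rw [← centralizer_conj, ← map_commutator]
  exact ⟨y, h, rfl⟩

theorem centralizer_pow {x : G} (hx : orderOf x = 5) {k : ℕ} (hk : ¬ 5 ∣ k) :
    centralizer ({x ^ k} : Set G) = centralizer ({x} : Set G) := by
  have hc : Nat.Coprime (orderOf x) k := by
    rw [hx]; exact (Nat.Prime.coprime_iff_not_dvd (by norm_num)).2 hk
  ext y
  rw [mem_centralizer_singleton_iff, mem_centralizer_singleton_iff]
  constructor
  · intro h
    obtain ⟨m, hm⟩ := exists_pow_eq_self_of_coprime hc.symm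
    have h1 : Commute y (x ^ k) := h
    have h2 := h1.pow_right m
    rw [hm] at h2
    exact h2
  · intro h
    exact Commute.pow_right (show Commute y x from h) k

theorem D_pow {x : G} (hx : orderOf x = 5) {k : ℕ} (hk : ¬ 5 ∣ k) : D (x ^ k) = D x := by
  unfold D; rw [centralizer_pow hx hk]

theorem commutator_alt : commutator ↥(alternatingGroup (Fin 8)) = ⊤ := by
  have : IsSimpleGroup ↥(alternatingGroup (Fin 8)) := alternatingGroup.isSimpleGroup (by simp)
  rcases (inferInstance : (commutator ↥(alternatingGroup (Fin 8))).Normal).eq_bot_or_eq_top with h | h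
  · exfalso
    have h1 : ∀ a b : ↥(alternatingGroup (Fin 8)), a * b = b * a := by
      intro a b
      have h2 : a * b * a⁻¹ * b⁻¹ ∈ commutator ↥(alternatingGroup (Fin 8)) :=
        commutator_mem_commutator (mem_top _) (mem_top _)
      rw [h, mem_bot] at h2
      have h3 := mul_inv_eq_one.1 h2
      rw [mul_inv_eq_iff_eq_mul] at h3
      exact h3
    have h3 : AltEight.T0 ∈ Subgroup.center ↥(alternatingGroup (Fin 8)) := by
      rw [mem_center_iff]; intro g; exact h1 g _
    rw [AltEight.center, mem_bot] at h3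
    exact AltEight.fpf_T0.ne_one h3
  · exact h

/-- the members of `D x` in terms of the isomorphism -/
theorem mem_D_iff {x : G}
    (e : ↥(centralizer ({x} : Set G)) ≃* (Multiplicative (ZMod 5) × ↥(alternatingGroup (Fin 8)))) {y : G}
    (hy : y ∈ centralizer ({x} : Set G)) : y ∈ D x ↔ (e ⟨y, hy⟩).1 = 1 := by
  have h1 : D x = (commutator ↥(centralizer ({x} : Set G))).map (centralizer ({x} : Set G)).subtype := by
    rw [map_subtype_commutator]; rfl
  have h2 : (commutator ↥(centralizer ({x} : Set G))).map e.toMonoidHom = (⊥ : Subgroup (Multiplicative (ZMod 5))).prod ⊤ := by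
    rw [commutator_def, map_commutator]
    have h3 : (⊤ : Subgroup ↥(centralizer ({x} : Set G))).map e.toMonoidHom = ⊤ :=
      Subgroup.map_top_of_surjective _ e.surjective
    rw [h3, ← top_prod_top, commutator_prod_prod, ← commutator_def, ← commutator_def, commutator_alt,
      (commutator_eq_bot_iff_center_eq_top _).2 (CommGroup.center_eq_top)]
  constructor
  · intro h
    rw [h1] at h
    obtain ⟨z, hz, hzy⟩ := h
    have h4 : e z ∈ (⊥ : Subgroup (Multiplicative (ZMod 5))).prod (⊤ : Subgroup ↥(alternatingGroup (Fin 8))) := by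
      rw [← h2]; exact ⟨z, hz, rfl⟩
    have h5 : z = ⟨y, hy⟩ := Subtype.ext hzy
    rw [h5] at h4
    exact (mem_prod.1 h4).1
  · intro h
    have h4 : e ⟨y, hy⟩ ∈ (⊥ : Subgroup (Multiplicative (ZMod 5))).prod (⊤ : Subgroup ↥(alternatingGroup (Fin 8))) :=
      mem_prod.2 ⟨h, mem_top _⟩
    rw [← h2] at h4
    obtain ⟨z, hz, hzy⟩ := h4
    have h5 : z = ⟨y, hy⟩ := e.injective hzy
    rw [h1]
    exact ⟨z, hz, congrArg Subtype.val h5⟩

variable (hG : FiveCent G)

include hG

theorem not_mem_D {x : G} (hx : orderOf x = 5) : x ∉ D x := by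
  intro h
  obtain ⟨e⟩ := hG x hx
  have hc : x ∈ centralizer ({x} : Set G) := mem_centralizer_singleton_iff.2 rfl
  have h1 := (mem_D_iff e hc).1 h
  have h2 : (e ⟨x, hc⟩).2 = 1 := by
    have h3 : (e ⟨x, hc⟩).2 ∈ Subgroup.center ↥(alternatingGroup (Fin 8)) := by
      rw [mem_center_iff]
      intro g
      obtain ⟨y, hy⟩ := e.surjective (1, g)
      have h4 : y * ⟨x, hc⟩ = ⟨x, hc⟩ * y := by
        apply Subtype.ext
        exact mem_centralizer_singleton_iff.1 y.2
      have h5 := congrArg (fun w => (e w).2) h4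
      simp only [map_mul, Prod.snd_mul, hy] at h5
      exact h5
    rw [AltEight.center, mem_bot] at h3
    exact h3
  have h3 : e ⟨x, hc⟩ = 1 := Prod.ext h1 h2
  have h4 : (⟨x, hc⟩ : ↥(centralizer ({x} : Set G))) = 1 := e.injective (by rw [h3, map_one])
  have h5 : x = 1 := congrArg Subtype.val h4
  rw [h5, orderOf_one] at hx
  norm_num at hx

/-- every element commuting with `x` is in `D x` up to a power of `x` -/
theorem exists_mul {x y : G} (hx : orderOf x = 5) (hc : Commute x y) : ∃ i : ℕ, i < 5 ∧ x ^ i * y ∈ D x := by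
  obtain ⟨e⟩ := hG x hx
  have hcx : x ∈ centralizer ({x} : Set G) := mem_centralizer_singleton_iff.2 rfl
  have hcy : y ∈ centralizer ({x} : Set G) := mem_centralizer_singleton_iff.2 hc.symm
  set ξ := (e ⟨x, hcx⟩).1 with hξ
  have hξ1 : ξ ≠ 1 := by
    intro h
    exact not_mem_D hG hx ((mem_D_iff e hcx).2 h)
  have hgen : ∀ w : Multiplicative (ZMod 5), ∃ i : ℕ, i < 5 ∧ ξ ^ i * w = 1 := by
    have key : ∀ u w : Multiplicative (ZMod 5), u ≠ 1 → ∃ i : Fin 5, u ^ (i : ℕ) * w = 1 := by decide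
    intro w
    obtain ⟨i, hi⟩ := key ξ w hξ1
    exact ⟨i, i.2, hi⟩
  obtain ⟨i, hi5, hi⟩ := hgen (e ⟨y, hcy⟩).1
  refine ⟨i, hi5, ?_⟩
  have hm : x ^ i * y ∈ centralizer ({x} : Set G) := mul_mem (pow_mem hcx i) hcy
  rw [mem_D_iff e hm]
  have h1 : (⟨x ^ i * y, hm⟩ : ↥(centralizer ({x} : Set G))) = ⟨x, hcx⟩ ^ i * ⟨y, hcy⟩ := rfl
  rw [h1, map_mul, map_pow, Prod.fst_mul, Prod.pow_fst]
  exact hi

omit hG in
/-- in `A₈` an element of order 5 is conjugate to its square -/
theorem alt_sq {y : ↥(alternatingGroup (Fin 8))} (hy : orderOf y = 5) :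
    ∃ g : ↥(alternatingGroup (Fin 8)), g * y * g⁻¹ = y ^ 2 := by
  have h1 : orderOf (y : Perm (Fin 8)) = 5 := by rw [← hy]; exact orderOf_coe y
  have hct : (y : Perm (Fin 8)).cycleType = {5} := by
    have h2 : (y : Perm (Fin 8)).cycleType.lcm = 5 := by rw [Perm.lcm_cycleType, h1]
    have h3 : ∀ n ∈ (y : Perm (Fin 8)).cycleType, n = 5 := by
      intro n hn
      have h4 : n ∣ 5 := by rw [← h2]; exact Multiset.dvd_lcm hn
      have h5 : 2 ≤ n := Perm.two_le_of_mem_cycleType hn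
      rcases (Nat.dvd_prime (by norm_num)).1 h4 with h6 | h6
      · omega
      · exact h6
    have h4 := Multiset.eq_replicate_of_mem h3
    have h5 : (y : Perm (Fin 8)).cycleType.sum ≤ 8 := by
      rw [Perm.sum_cycleType]
      exact (Finset.card_le_univ _).trans (by simp)
    rw [h4, Multiset.sum_replicate, smul_eq_mul] at h5
    have h6 : (y : Perm (Fin 8)).cycleType.card ≠ 0 := by
      intro h7
      rw [Multiset.card_eq_zero, Perm.cycleType_eq_zero] at h7
      rw [h7, orderOf_one] at h1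
      norm_num at h1
    have h7 : (y : Perm (Fin 8)).cycleType.card = 1 := by omega
    rw [h4, h7]
    rfl
  have hct2 : ((y ^ 2 : ↥(alternatingGroup (Fin 8))) : Perm (Fin 8)).cycleType = {5} := by
    have h2 : orderOf ((y ^ 2 : ↥(alternatingGroup (Fin 8))) : Perm (Fin 8)) = 5 := by
      rw [Subgroup.coe_pow, orderOf_pow, h1]; decide
    have h3 : ((y ^ 2 : ↥(alternatingGroup (Fin 8))) : Perm (Fin 8)).cycleType.lcm = 5 := by rw [Perm.lcm_cycleType, h2]
    have h3 : ∀ n ∈ ((y ^ 2 : ↥(alternatingGroup (Fin 8))) : Perm (Fin 8)).cycleType, n = 5 := by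
      intro n hn
      have h4 : n ∣ 5 := by rw [← h3]; exact Multiset.dvd_lcm hn
      have h5 : 2 ≤ n := Perm.two_le_of_mem_cycleType hn
      rcases (Nat.dvd_prime (by norm_num)).1 h4 with h6 | h6
      · omega
      · exact h6
    have h4 := Multiset.eq_replicate_of_mem h3
    have h5 : ((y ^ 2 : ↥(alternatingGroup (Fin 8))) : Perm (Fin 8)).cycleType.sum ≤ 8 := by
      rw [Perm.sum_cycleType]
      exact (Finset.card_le_univ _).trans (by simp)
    rw [h4, Multiset.sum_replicate, smul_eq_mul] at h5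
    have h6 : ((y ^ 2 : ↥(alternatingGroup (Fin 8))) : Perm (Fin 8)).cycleType.card ≠ 0 := by
      intro h7
      rw [Multiset.card_eq_zero, Perm.cycleType_eq_zero] at h7
      rw [h7, orderOf_one] at h2
      norm_num at h2
    have h7 : ((y ^ 2 : ↥(alternatingGroup (Fin 8))) : Perm (Fin 8)).cycleType.card = 1 := by omega
    rw [h4, h7]
    rfl
  have hc : IsConj (y : Perm (Fin 8)) ((y ^ 2 : ↥(alternatingGroup (Fin 8))) : Perm (Fin 8)) := by
    rw [Perm.isConj_iff_cycleType_eq, hct, hct2]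
  obtain ⟨g, hg⟩ := isConj_iff.1 hc
  -- two points fixed by `y`
  have hfix : 1 < Fintype.card (Function.fixedPoints (y : Perm (Fin 8))) := by
    have h2 := (y : Perm (Fin 8)).card_fixedPoints
    rw [h2, hct]
    decide
  obtain ⟨p, q, hpq⟩ := Fintype.one_lt_card_iff_nontrivial.1 hfix |>.exists_pair_ne
  have hpq' : (p : Fin 8) ≠ q := fun h => hpq (Subtype.ext h)
  by_cases hs : Perm.sign g = 1
  · exact ⟨⟨g, Perm.mem_alternatingGroup.2 hs⟩, Subtype.ext hg⟩
  · have hs' : Perm.sign (g * swap (p : Fin 8) q) = 1 := by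
      rw [Perm.sign_mul, Perm.sign_swap hpq']
      rcases Int.units_eq_one_or (Perm.sign g) with h | h
      · exact absurd h hs
      · rw [h]; rfl
    refine ⟨⟨g * swap (p : Fin 8) q, Perm.mem_alternatingGroup.2 hs'⟩, Subtype.ext ?_⟩
    have h3 : swap (p : Fin 8) q * (y : Perm (Fin 8)) * (swap (p : Fin 8) q)⁻¹ = y := by
      have h4 : (y : Perm (Fin 8)) * swap (p : Fin 8) q = swap (p : Fin 8) q * y := by
        have h5 := Equiv.mul_swap_eq_swap_mul (y : Perm (Fin 8)) (p : Fin 8) (q : Fin 8)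
        have h6 : (y : Perm (Fin 8)) (p : Fin 8) = p := p.2
        have h7 : (y : Perm (Fin 8)) (q : Fin 8) = q := q.2
        rw [h6, h7] at h5
        exact h5
      rw [← h4]; group
    show g * swap (p : Fin 8) q * (y : Perm (Fin 8)) * (g * swap (p : Fin 8) q)⁻¹ = _
    rw [← hg]
    calc g * swap (p : Fin 8) q * (y : Perm (Fin 8)) * (g * swap (p : Fin 8) q)⁻¹
        = g * (swap (p : Fin 8) q * (y : Perm (Fin 8)) * (swap (p : Fin 8) q)⁻¹) * g⁻¹ := by group
      _ = g * y * g⁻¹ := by rw [h3]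

/-- an element of order 5 of `D x` is squared by an element of `C(x)` -/
theorem exists_sq {x y : G} (hx : orderOf x = 5) (hy : orderOf y = 5) (h : y ∈ D x) :
    ∃ g : G, g * x * g⁻¹ = x ∧ g * y * g⁻¹ = y ^ 2 := by
  obtain ⟨e⟩ := hG x hx
  have hc : y ∈ centralizer ({x} : Set G) := D_le x h
  have h1 := (mem_D_iff e hc).1 h
  have h2 : orderOf (e ⟨y, hc⟩).2 = 5 := by
    have h3 : orderOf (e ⟨y, hc⟩) = 5 := by
      rw [e.orderOf_eq, ← hy]
      exact (orderOf_coe (⟨y, hc⟩ : ↥(centralizer ({x} : Set G)))).symm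
    rw [Prod.orderOf, h1, orderOf_one, Nat.lcm_one_left] at h3
    exact h3
  obtain ⟨g, hg⟩ := alt_sq h2
  obtain ⟨z, hz⟩ := e.surjective (1, g)
  refine ⟨z, ?_, ?_⟩
  · have h3 := mem_centralizer_singleton_iff.1 z.2
    rw [h3]; group
  · have h3 : z * ⟨y, hc⟩ * z⁻¹ = (⟨y, hc⟩ : ↥(centralizer ({x} : Set G))) ^ 2 := by
      apply e.injective
      rw [map_mul, map_mul, map_inv, map_pow, hz]
      refine Prod.ext ?_ ?_
      · rw [Prod.fst_mul, Prod.fst_mul, Prod.pow_fst, h1]; simp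
      · rw [Prod.snd_mul, Prod.snd_mul, Prod.pow_snd]; exact hg
    exact congrArg Subtype.val h3

/-- symmetry of the pairing -/
theorem symm {x y : G} (hx : orderOf x = 5) (hy : orderOf y = 5) (h : y ∈ D x) : x ∈ D y := by
  have hc : Commute x y := comm_of_mem h
  obtain ⟨i, hi5, hi⟩ := exists_mul hG hy hc.symm
  obtain ⟨g, hg1, hg2⟩ := exists_sq hG hx hy h
  have h1 := D_conj hi g
  rw [hg2, D_pow hy (by norm_num)] at h1
  have h2 : g * (y ^ i * x) * g⁻¹ = y ^ (2 * i) * x := by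
    calc g * (y ^ i * x) * g⁻¹ = (g * y * g⁻¹) ^ i * (g * x * g⁻¹) := by rw [conj_pow]; group
      _ = y ^ (2 * i) * x := by rw [hg1, hg2, ← pow_mul]
  rw [h2] at h1
  have h3 : y ^ i ∈ D y := by
    have h4 := mul_mem h1 (inv_mem hi)
    have h5 : y ^ (2 * i) * x * (y ^ i * x)⁻¹ = y ^ i := by
      rw [two_mul, pow_add]; group
    rwa [h5] at h4
  by_cases h5 : 5 ∣ i
  · have h6 : i = 0 := by omega
    rw [h6, pow_zero, one_mul] at hi
    exact hi
  · exfalso
    have h6 : orderOf (y ^ i) = 5 := by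
      rw [Nat.Coprime.orderOf_pow, hy]
      rw [hy]; exact (Nat.Prime.coprime_iff_not_dvd (by norm_num)).2 h5
    refine not_mem_D hG h6 ?_
    rw [D_pow hy h5]
    exact h3

/-! ### coordinates -/

omit hG

/-- the element with coordinates `i, j` -/
def V (a b : G) (i j : ZMod 5) : G := a ^ i.val * b ^ j.val

section coord

variable {a b : G} (ha : orderOf a = 5) (hb : orderOf b = 5) (hab : Commute a b)

theorem pow_add_val {a : G} (ha : orderOf a = 5) (i k : ZMod 5) : a ^ (i + k).val = a ^ (i.val + k.val) := by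
  have h := pow_mod_orderOf a (i.val + k.val)
  rw [ha] at h
  rw [ZMod.val_add, h]

include ha hb hab

theorem V_mul (i j k l : ZMod 5) : V a b i j * V a b k l = V a b (i + k) (j + l) := by
  unfold V
  rw [pow_add_val ha, pow_add_val hb, pow_add, pow_add]
  have h : Commute (b ^ j.val) (a ^ k.val) := (hab.pow_pow _ _).symm
  calc a ^ i.val * b ^ j.val * (a ^ k.val * b ^ l.val) = a ^ i.val * (b ^ j.val * a ^ k.val) * b ^ l.val := by group
    _ = a ^ i.val * (a ^ k.val * b ^ j.val) * b ^ l.val := by rw [h.eq]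
    _ = _ := by group

theorem V_pow (i j : ZMod 5) (n : ℕ) : V a b i j ^ n = V a b (n * i) (n * j) := by
  induction n with
  | zero => simp [V]
  | succ n ih =>
    rw [pow_succ, ih, V_mul ha hb hab]
    congr 1 <;> push_cast <;> ring

theorem conj_V {g : G} {p q r s : ZMod 5} (h1 : g * a * g⁻¹ = V a b p q) (h2 : g * b * g⁻¹ = V a b r s)
    (i j : ZMod 5) : g * V a b i j * g⁻¹ = V a b (i * p + j * r) (i * q + j * s) := by
  have h3 : g * V a b i j * g⁻¹ = (g * a * g⁻¹) ^ i.val * (g * b * g⁻¹) ^ j.val := by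
    unfold V; rw [conj_pow, conj_pow]; group
  rw [h3, h1, h2, V_pow ha hb hab, V_pow ha hb hab, V_mul ha hb hab, ZMod.natCast_zmod_val, ZMod.natCast_zmod_val]

theorem V_eq_one {t : G} (hta : t * a * t⁻¹ = a⁻¹) (htb : t * b * t⁻¹ = b) {i j : ZMod 5} (h : V a b i j = 1) :
    i = 0 ∧ j = 0 := by
  have hpa : ∀ k : ZMod 5, a ^ k.val = 1 → k = 0 := by
    intro k hk
    have h1 := orderOf_dvd_of_pow_eq_one hk
    rw [ha] at h1
    have h2 := Nat.eq_zero_of_dvd_of_lt h1 k.val_lt
    exact (ZMod.val_eq_zero k).1 h2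
  have hpb : ∀ k : ZMod 5, b ^ k.val = 1 → k = 0 := by
    intro k hk
    have h1 := orderOf_dvd_of_pow_eq_one hk
    rw [hb] at h1
    have h2 := Nat.eq_zero_of_dvd_of_lt h1 k.val_lt
    exact (ZMod.val_eq_zero k).1 h2
  have h1 : a⁻¹ = V a b (-1) 0 := by
    have h2 : V a b (-1) 0 * a = 1 := by
      have h3 : V a b 1 0 = a := by
        show a ^ 1 * b ^ 0 = a
        simp
      calc V a b (-1) 0 * a = V a b (-1) 0 * V a b 1 0 := by rw [h3]
        _ = V a b (-1 + 1) (0 + 0) := V_mul ha hb hab _ _ _ _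
        _ = 1 := by
          rw [neg_add_cancel, add_zero]
          show a ^ 0 * b ^ 0 = 1
          simp
    exact (eq_inv_of_mul_eq_one_left h2).symm
  have h2 : b = V a b 0 1 := by
    show b = a ^ 0 * b ^ 1
    simp
  have h3 := conj_V ha hb hab (hta.trans h1) (htb.trans h2) i j
  rw [h, mul_one, mul_inv_cancel] at h3
  have h4 := V_mul ha hb hab i j (i * -1 + j * 0) (i * 0 + j * 1)
  rw [h, ← h3, mul_one] at h4
  have h5 : V a b (i + (i * -1 + j * 0)) (j + (i * 0 + j * 1)) = b ^ (2 * j).val := by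
    have h6 : i + (i * -1 + j * 0) = 0 := by ring
    have h7 : j + (i * 0 + j * 1) = 2 * j := by ring
    rw [h6, h7]
    show a ^ 0 * _ = _
    simp
  rw [h5] at h4
  have h6 := hpb _ h4.symm
  have h7 : j = 0 := by
    revert h6
    generalize j = j
    revert j
    decide
  rw [h7] at h
  refine ⟨hpa i ?_, h7⟩
  have h8 : V a b i 0 = a ^ i.val := by
    show a ^ i.val * b ^ 0 = _
    simp
  rw [← h8]; exact h

end coord

/-- **No `S₃`-orbit of length 3.** -/
theorem no_config (hG : FiveCent G) {a b t c : G} (ha : orderOf a = 5) (hb : orderOf b = 5) (hab : Commute a b)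
    (hta : t * a * t⁻¹ = a⁻¹) (htb : t * b * t⁻¹ = b) (hca : c * a * c⁻¹ = a ^ 2 * b ^ 3)
    (hcb : c * b * c⁻¹ = a * b ^ 2) : False := by
  have hV1 : ∀ i j : ZMod 5, V a b i j = 1 → i = 0 ∧ j = 0 := fun i j h => V_eq_one ha hb hab hta htb h
  have hVa : V a b 1 0 = a := by
    show a ^ 1 * b ^ 0 = a
    simp
  have hVb : V a b 0 1 = b := by
    show a ^ 0 * b ^ 1 = b
    simp
  have hord : ∀ i j : ZMod 5, ¬ (i = 0 ∧ j = 0) → orderOf (V a b i j) = 5 := by
    intro i j hij
    have h5 : ((5 : ℕ) : ZMod 5) = 0 := by decide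
    have : Fact (Nat.Prime 5) := ⟨by norm_num⟩
    refine orderOf_eq_prime ?_ (fun h => hij (hV1 i j h))
    rw [V_pow ha hb hab]
    rw [h5, zero_mul, zero_mul]
    show a ^ 0 * b ^ 0 = 1
    simp
  have radd : ∀ {i j k l k' l' : ZMod 5}, V a b k l ∈ D (V a b i j) → V a b k' l' ∈ D (V a b i j) →
      V a b (k + k') (l + l') ∈ D (V a b i j) := by
    intro i j k l k' l' h h'
    rw [← V_mul ha hb hab]; exact mul_mem h h'
  have rsmul : ∀ {i j k l : ZMod 5} (n : ℕ), V a b k l ∈ D (V a b i j) → V a b (n * k) (n * l) ∈ D (V a b i j) := by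
    intro i j k l n h
    rw [← V_pow ha hb hab]; exact pow_mem h n
  have rscale : ∀ {i j k l : ZMod 5} (n : ℕ), ¬ 5 ∣ n → ¬ (i = 0 ∧ j = 0) → V a b k l ∈ D (V a b i j) →
      V a b k l ∈ D (V a b (n * i) (n * j)) := by
    intro i j k l n hn hij h
    rw [← V_pow ha hb hab, D_pow (hord i j hij) hn]; exact h
  have rsymm : ∀ {i j k l : ZMod 5}, ¬ (i = 0 ∧ j = 0) → ¬ (k = 0 ∧ l = 0) → V a b k l ∈ D (V a b i j) →
      V a b i j ∈ D (V a b k l) := by
    intro i j k l hij hkl h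
    exact symm hG (hord i j hij) (hord k l hkl) h
  have rne : ∀ {i j : ZMod 5}, ¬ (i = 0 ∧ j = 0) → V a b i j ∉ D (V a b i j) := by
    intro i j hij
    exact not_mem_D hG (hord i j hij)
  have rconj : ∀ {g : G} {p q r s : ZMod 5}, g * a * g⁻¹ = V a b p q → g * b * g⁻¹ = V a b r s →
      ∀ {i j k l : ZMod 5}, V a b k l ∈ D (V a b i j) →
        V a b (k * p + l * r) (k * q + l * s) ∈ D (V a b (i * p + j * r) (i * q + j * s)) := by
    intro g p q r s h1 h2 i j k l h
    have h3 := D_conj h g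
    rw [conj_V ha hb hab h1 h2, conj_V ha hb hab h1 h2] at h3
    exact h3
  have hinv : a⁻¹ = V a b 4 0 := by
    have h1 : V a b 4 0 * V a b 1 0 = 1 := by
      rw [V_mul ha hb hab]
      show a ^ 0 * b ^ 0 = 1
      simp
    rw [hVa] at h1
    exact (eq_inv_of_mul_eq_one_left h1).symm
  have ht1 : t * a * t⁻¹ = V a b 4 0 := hta.trans hinv
  have ht2 : t * b * t⁻¹ = V a b 0 1 := htb.trans hVb.symm
  have hc1 : c * a * c⁻¹ = V a b 2 3 := hca
  have hc2 : c * b * c⁻¹ = V a b 1 2 := by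
    rw [hcb]
    show a * b ^ 2 = a ^ 1 * b ^ 2
    rw [pow_one]
  have n10 : ¬ ((1 : ZMod 5) = 0 ∧ (0 : ZMod 5) = 0) := by decide
  have n01 : ¬ ((0 : ZMod 5) = 0 ∧ (1 : ZMod 5) = 0) := by decide
  have n11 : ¬ ((1 : ZMod 5) = 0 ∧ (1 : ZMod 5) = 0) := by decide
  have n12 : ¬ ((1 : ZMod 5) = 0 ∧ (2 : ZMod 5) = 0) := by decide
  have n13 : ¬ ((1 : ZMod 5) = 0 ∧ (3 : ZMod 5) = 0) := by decide
  have n14 : ¬ ((1 : ZMod 5) = 0 ∧ (4 : ZMod 5) = 0) := by decide
  -- step 1: `b ∈ D a`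
  have s1 : V a b 0 1 ∈ D (V a b 1 0) := by
    obtain ⟨i, -, hi⟩ := exists_mul hG (hord 1 0 n10) (y := V a b 0 1) (by rw [hVa, hVb]; exact hab)
    rw [V_pow ha hb hab, V_mul ha hb hab] at hi
    have h1 := rconj ht1 ht2 hi
    have h2 := rscale 4 (by norm_num) (by
      have : ¬ ((4 : ZMod 5) = 0 ∧ (0 : ZMod 5) = 0) := by decide
      simpa using this) h1
    have h3 : V a b 1 0 = V a b (((4 : ℕ) : ZMod 5) * (1 * 4 + 0 * 0)) (((4 : ℕ) : ZMod 5) * (1 * 0 + 0 * 1)) := by
      have e1 : (((4 : ℕ) : ZMod 5) * (1 * 4 + 0 * 0)) = 1 := by decide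
      have e2 : (((4 : ℕ) : ZMod 5) * (1 * 0 + 0 * 1)) = 0 := by decide
      rw [e1, e2]
    rw [← h3] at h2
    have h4 := rsmul 3 (radd hi h2)
    have e3 : ∀ i : ZMod 5, ((3 : ℕ) : ZMod 5) * (i * 1 + 0 + ((i * 1 + 0) * 4 + (i * 0 + 1) * 0)) = 0 := by decide
    have e4 : ∀ i : ZMod 5, ((3 : ℕ) : ZMod 5) * (i * 0 + 1 + ((i * 1 + 0) * 0 + (i * 0 + 1) * 1)) = 1 := by decide
    rw [e3, e4] at h4
    exact h4
  have s1' : V a b 1 0 ∈ D (V a b 0 1) := rsymm n10 n01 s1
  -- the element squaring `b` and centralising `a`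
  obtain ⟨d, hd1, hd2⟩ := exists_sq hG (hord 1 0 n10) (hord 0 1 n01) s1
  rw [hVa] at hd1
  rw [hVb] at hd2
  have hd1' : d * a * d⁻¹ = V a b 1 0 := hd1.trans hVa.symm
  have hd2' : d * b * d⁻¹ = V a b 0 2 := by
    rw [hd2]
    show b ^ 2 = a ^ 0 * b ^ 2
    simp
  have rd : ∀ {i j k l : ZMod 5}, V a b k l ∈ D (V a b i j) → V a b k (l * 2) ∈ D (V a b i (j * 2)) := by
    intro i j k l h
    have h1 := rconj hd1' hd2' h
    simpa using h1
  -- contradiction from two independent elements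
  have two : ∀ {i j k l k' l' : ZMod 5}, ¬ (i = 0 ∧ j = 0) → V a b k l ∈ D (V a b i j) →
      V a b k' l' ∈ D (V a b i j) → k * l' - k' * l ≠ 0 → False := by
    intro i j k l k' l' hij h h' hne
    have key : ∀ i j k l k' l' : ZMod 5, k * l' - k' * l ≠ 0 →
        ∃ m n : Fin 5, ((m : ℕ) : ZMod 5) * k + ((n : ℕ) : ZMod 5) * k' = i ∧
          ((m : ℕ) : ZMod 5) * l + ((n : ℕ) : ZMod 5) * l' = j := by
      intro i j k l k' l' hne
      have cast5 : ∀ z : ZMod 5, ∃ m : Fin 5, ((m : ℕ) : ZMod 5) = z := by decide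
      have hp : Fact (Nat.Prime 5) := ⟨by norm_num⟩
      set w := (k * l' - k' * l)⁻¹ with hw
      have hw1 : w * (k * l' - k' * l) = 1 := inv_mul_cancel₀ hne
      obtain ⟨m, hm⟩ := cast5 (w * (i * l' - k' * j))
      obtain ⟨n, hn⟩ := cast5 (w * (k * j - i * l))
      refine ⟨m, n, ?_, ?_⟩
      · rw [hm, hn]
        linear_combination i * hw1
      · rw [hm, hn]
        linear_combination j * hw1
    obtain ⟨m, n, h1, h2⟩ := key i j k l k' l' hne
    have h3 := radd (rsmul (m : ℕ) h) (rsmul (n : ℕ) h')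
    rw [h1, h2] at h3
    exact rne hij h3
  -- step 2: `ab⁻¹ ∈ D (ab)`
  have s2 : V a b 1 4 ∈ D (V a b 1 1) := by
    obtain ⟨i, hi5, hi⟩ := exists_mul hG (hord 1 1 n11) (y := V a b 0 1) (by
      show V a b 1 1 * V a b 0 1 = V a b 0 1 * V a b 1 1
      rw [V_mul ha hb hab, V_mul ha hb hab, add_comm (1 : ZMod 5) 0, add_comm (1 : ZMod 5) 1])
    rw [V_pow ha hb hab, V_mul ha hb hab] at hi
    interval_cases i
    · exfalso
      have h1 : V a b 0 1 ∈ D (V a b 1 1) := by simpa using hi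
      have h2 := rsymm n11 n01 h1
      exact two n01 h2 s1' (by decide)
    · exfalso
      have h1 : V a b 1 2 ∈ D (V a b 1 1) := by
        have e1 : ((1 : ℕ) : ZMod 5) * 1 + 0 = 1 := by decide
        have e2 : ((1 : ℕ) : ZMod 5) * 1 + 1 = 2 := by decide
        rw [e1, e2] at hi; exact hi
      have h2 := rsymm n11 n12 h1
      have h3 := rd h1
      rw [one_mul] at h3
      exact two n12 h2 h3 (by decide)
    · have h1 := rsmul 3 hi
      have e1 : ((3 : ℕ) : ZMod 5) * (((2 : ℕ) : ZMod 5) * 1 + 0) = 1 := by decide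
      have e2 : ((3 : ℕ) : ZMod 5) * (((2 : ℕ) : ZMod 5) * 1 + 1) = 4 := by decide
      rw [e1, e2] at h1
      exact h1
    · exfalso
      have h0 := rsmul 2 hi
      have h1 : V a b 1 3 ∈ D (V a b 1 1) := by
        have e1 : ((2 : ℕ) : ZMod 5) * (((3 : ℕ) : ZMod 5) * 1 + 0) = 1 := by decide
        have e2 : ((2 : ℕ) : ZMod 5) * (((3 : ℕ) : ZMod 5) * 1 + 1) = 3 := by decide
        rw [e1, e2] at h0; exact h0
      have h2 := rsymm n11 n13 h1
      have h3 := rd (rd (rd h1))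
      have e3 : (1 : ZMod 5) * 2 * 2 * 2 = 3 := by decide
      rw [e3] at h3
      exact two n13 h2 h3 (by decide)
    · exfalso
      have h0 := rsmul 4 hi
      have h1 : V a b 1 0 ∈ D (V a b 1 1) := by
        have e1 : ((4 : ℕ) : ZMod 5) * (((4 : ℕ) : ZMod 5) * 1 + 0) = 1 := by decide
        have e2 : ((4 : ℕ) : ZMod 5) * (((4 : ℕ) : ZMod 5) * 1 + 1) = 0 := by decide
        rw [e1, e2] at h0; exact h0
      have h2 := rsymm n11 n10 h1
      exact two n10 h2 s1 (by decide)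
  have s2' : V a b 1 1 ∈ D (V a b 1 4) := rsymm n11 n14 s2
  -- step 3: apply `c`
  have h1 := rscale 3 (by norm_num) (by decide) (rconj hc1 hc2 s1)
  have e1 : ((3 : ℕ) : ZMod 5) * (1 * 2 + 0 * 1) = 1 := by decide
  have e2 : ((3 : ℕ) : ZMod 5) * (1 * 3 + 0 * 2) = 4 := by decide
  rw [e1, e2] at h1
  have e3 : (0 : ZMod 5) * 2 + 1 * 1 = 1 := by decide
  have e4 : (0 : ZMod 5) * 3 + 1 * 2 = 2 := by decide
  rw [e3, e4] at h1
  exact two n14 s2' h1 (by decide)

end Cfsg.Agent.H898.TSFive
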