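import Cfsg.Agent.H898.TSFive
import Cfsg.Agent.H898.TE6Main
import Cfsg.Agent.H944.TS.Iface
import Cfsg.Agent.H921.SporJ2
import Cfsg.Agent.H921.SporSuz
import Cfsg.Agent.S5746

/-!
# `²E₆(2)` has no subgroup `J₂`, `G₂(4)`, `Suz`, `PSU₃(4)` (helper898, S5741 tasks 987, 988)
-/

set_option autoImplicit false
set_option maxRecDepth 100000

namespace Cfsg.Agent.H898.TSFive

open Subgroup Equiv Cfsg.Agent.OrdDiv Cfsg.Agent.H944.TS

universe u v

/-- the configuration excluded by `no_config` -/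
def HasConf (X : Type v) [Group X] : Prop :=
  ∃ a b t c : X, orderOf a = 5 ∧ orderOf b = 5 ∧ Commute a b ∧ t * a * t⁻¹ = a⁻¹ ∧ t * b * t⁻¹ = b ∧
    c * a * c⁻¹ = a ^ 2 * b ^ 3 ∧ c * b * c⁻¹ = a * b ^ 2

theorem HasConf.map {X : Type v} {Y : Type u} [Group X] [Group Y] (f : X →* Y) (hf : Function.Injective f)
    (h : HasConf X) : HasConf Y := by
  obtain ⟨a, b, t, c, h1, h2, h3, h4, h5, h6, h7⟩ := h
  refine ⟨f a, f b, f t, f c, ?_, ?_, h3.map f, ?_, ?_, ?_, ?_⟩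
  · rw [orderOf_injective f hf, h1]
  · rw [orderOf_injective f hf, h2]
  · rw [← map_inv, ← map_mul, ← map_mul, h4, map_inv]
  · rw [← map_inv, ← map_mul, ← map_mul, h5]
  · rw [← map_inv, ← map_mul, ← map_mul, h6, map_mul, map_pow, map_pow]
  · rw [← map_inv, ← map_mul, ← map_mul, h7, map_mul, map_pow]

theorem fiveCent {K : Type u} [Field K] [Fintype K] (hK : Fintype.card K = 4) :
    FiveCent ↥(Cfsg.Lie.twistedE6 K 2) := (Cfsg.Agent.H898.TE6Main.main hK).2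

theorem notE_of_conf {K : Type u} [Field K] [Fintype K] (hK : Fintype.card K = 4) {g : Grp}
    (h : ∀ (X : Type u) [Group X], Real g X → HasConf X) : NotE K g := by
  intro L hL
  obtain ⟨a, b, t, c, h1, h2, h3, h4, h5, h6, h7⟩ := (h ↥L hL).map L.subtype L.subtype_injective
  exact no_config (fiveCent hK) h1 h2 h3 h4 h5 h6 h7

/-! ### words -/

/-- the check for the configuration -/
def chkConf {T : Type v} [Group T] (w : Cfsg.Agent.H921.Spor.Wd T) (A B t c : List ℕ) : Bool :=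
  w.eq (A ++ A ++ A ++ A ++ A) [] && w.eq (B ++ B ++ B ++ B ++ B) [] && w.ne A && w.ne B && w.eq (A ++ B) (B ++ A) &&
    w.eq (A ++ t ++ A) t && w.eq (t ++ B) (B ++ t) && w.eq (c ++ A) (A ++ A ++ B ++ B ++ B ++ c) &&
    w.eq (c ++ B) (A ++ B ++ B ++ c)

theorem hasConf_of_chk {T : Type v} [Group T] (w : Cfsg.Agent.H921.Spor.Wd T) (A B t c : List ℕ)
    (h : chkConf w A B t c = true) : HasConf T := by
  simp only [chkConf, Bool.and_eq_true] at h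
  obtain ⟨⟨⟨⟨⟨⟨⟨⟨h1, h2⟩, h3⟩, h4⟩, h5⟩, h6⟩, h7⟩, h8⟩, h9⟩ := h
  have e1 := w.eq_sound h1
  have e2 := w.eq_sound h2
  have e3 := w.ne_sound h3
  have e4 := w.ne_sound h4
  have e5 := w.eq_sound h5
  have e6 := w.eq_sound h6
  have e7 := w.eq_sound h7
  have e8 := w.eq_sound h8
  have e9 := w.eq_sound h9
  simp only [w.app, w.nil] at e1 e2 e5 e6 e7 e8 e9
  have : Fact (Nat.Prime 5) := ⟨by norm_num⟩
  refine ⟨w.W A, w.W B, w.W t, w.W c, ?_, ?_, e5, ?_, ?_, ?_, ?_⟩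
  · refine orderOf_eq_prime ?_ e3
    rw [← e1]; simp only [pow_succ, pow_zero, one_mul]
  · refine orderOf_eq_prime ?_ e4
    rw [← e2]; simp only [pow_succ, pow_zero, one_mul]
  · rw [mul_inv_eq_iff_eq_mul, eq_inv_mul_iff_mul_eq]
    rw [← mul_assoc]; exact e6
  · rw [mul_inv_eq_iff_eq_mul]; exact e7
  · rw [mul_inv_eq_iff_eq_mul, e8]; simp only [pow_succ, pow_zero, one_mul, mul_assoc]
  · rw [mul_inv_eq_iff_eq_mul, e9]; simp only [pow_succ, pow_zero, one_mul, mul_assoc]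

/-! ### `J₂` -/

def wA : List ℕ := [4, 3, 0, 1, 2, 0, 3, 2, 3, 2, 1, 0, 2, 3, 2, 4, 1, 3, 2, 1, 0, 3, 4, 1, 3, 4, 2, 3, 0, 1, 2, 0, 1,
  3, 2, 3, 2, 4, 1, 0, 3, 1, 2, 3, 4]
def wB : List ℕ := [0, 3, 4, 2, 3, 2, 1, 0, 3, 4, 3, 1, 2, 3, 2, 1, 4, 3, 1, 2, 0, 1, 3, 0, 1, 2]
def wC : List ℕ := [3, 1, 0, 2, 1, 3, 0, 2, 4, 1, 3, 2, 3, 2, 4, 1, 2, 1, 0, 3, 1, 0, 2, 1, 3, 4, 3, 2, 3, 0, 1, 3, 0,
  1, 2]
def wT : List ℕ := [4, 3, 0, 1, 2, 3, 2, 0, 1, 2, 3, 2, 4, 3, 2, 1, 2, 3, 4, 2, 3, 0, 1, 0, 1, 0, 2, 1, 0, 3, 2, 1, 0,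
  3, 1, 0, 2, 1, 3]

theorem conf_J2 : HasConf Cfsg.Spor.J2 := by
  have h := hasConf_of_chk Cfsg.Agent.H921.Spor.J2.wd wA wB wT wC (by decide +kernel)
  obtain ⟨e⟩ := Cfsg.Agent.H921.Spor.J2.exists_iso
  exact h.map e.symm.toMonoidHom e.symm.injective

/-! ### `Suz` -/

/-- the words in the letters `7 = a, …, 11 = e` -/
def sh (L : List ℕ) : List ℕ := L.map (· + 7)

theorem conf_Suz : HasConf Cfsg.Spor.Suz :=
  hasConf_of_chk Cfsg.Agent.H921.Spor.Suz.wd (sh wA) (sh wB) (sh wT) (sh wC) (by decide +kernel)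

/-! ### the exclusions -/

theorem not_J2 {K : Type u} [Field K] [Fintype K] (hK : Fintype.card K = 4) : NotE K .j2 :=
  notE_of_conf hK fun _ _ h => conf_J2.map h.some.symm.toMonoidHom h.some.symm.injective

theorem not_Suz {K : Type u} [Field K] [Fintype K] (hK : Fintype.card K = 4) : NotE K .suz :=
  notE_of_conf hK fun _ _ h => conf_Suz.map h.some.symm.toMonoidHom h.some.symm.injective

theorem conf_G24 {F : Type} [Field F] [Fintype F] (hF : Fintype.card F = 4) : HasConf ↥(Cfsg.Lie.chevG2.group F) := by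
  obtain ⟨H, -, hJ, -⟩ := Cfsg.Agent.S5746.result hF
  exact (conf_J2.map hJ.some.symm.toMonoidHom hJ.some.symm.injective).map H.subtype H.subtype_injective

theorem not_G24 {K : Type u} [Field K] [Fintype K] (hK : Fintype.card K = 4) : NotE K (.g2 4) := by
  refine notE_of_conf hK ?_
  rintro X _ ⟨F, i1, i2, hF, ⟨e⟩⟩
  exact (conf_G24 hF).map e.symm.toMonoidHom e.symm.injective

/-- `J₂ ≤ G₂(4)` -/
theorem sub_G24_J2 : Sub.{u} (.g2 4) .j2 := by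
  rintro X _ ⟨F, i1, i2, hF, ⟨e⟩⟩
  obtain ⟨H, -, ⟨hJ⟩, -⟩ := Cfsg.Agent.S5746.result hF
  refine ⟨H.map e.symm.toMonoidHom, ⟨?_⟩⟩
  exact (H.equivMapOfInjective _ e.symm.injective).symm.trans hJ

end Cfsg.Agent.H898.TSFive
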