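import Cfsg.Agent.H898.TSFiveNot

/-!
# `²E₆(2)` has no subgroup `PSU₃(4)` (helper898, S5741 task 987)
-/

set_option autoImplicit false

namespace Cfsg.Agent.H898.TSFive

open Subgroup Equiv Matrix Cfsg.Agent.OrdDiv Cfsg.Agent.H944.TS

universe u v

variable {F : Type} [Field F]

/-- a monomial matrix -/
def mon (d : Fin 3 → F) (σ : Perm (Fin 3)) : Matrix (Fin 3) (Fin 3) F := fun i j => if σ i = j then d i else 0

theorem mon_mulVec (d : Fin 3 → F) (σ : Perm (Fin 3)) (v : Fin 3 → F) (i : Fin 3) :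
    (mon d σ *ᵥ v) i = d i * v (σ i) := by
  unfold mon Matrix.mulVec dotProduct
  simp

theorem mon_mul (d d' : Fin 3 → F) (σ τ : Perm (Fin 3)) : mon d σ * mon d' τ = mon (fun i => d i * d' (σ i)) (τ * σ) := by
  ext i j
  rw [Matrix.mul_apply]
  unfold mon
  rw [Finset.sum_eq_single (σ i)]
  · by_cases h : τ (σ i) = j
    · simp [h, Perm.mul_apply]
    · simp [h, Perm.mul_apply]
  · intro b _ hb
    rw [if_neg (fun h => hb h.symm), zero_mul]
  · intro h
    exact absurd (Finset.mem_univ _) h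

theorem mon_one : mon (fun _ => (1 : F)) 1 = 1 := by
  ext i j
  by_cases h : i = j
  · subst h
    simp [mon]
  · simp [mon, h]

/-- the element of `SU₃(4)` given by a monomial matrix -/
def el (d : Fin 3 → F) (σ : Perm (Fin 3)) (h : (mon d σ).det = 1) (hd : ∀ i, d i ^ 5 = 1) : SU 3 F 4 :=
  ⟨⟨mon d σ, h⟩, by
    intro u v
    show hermForm 3 F 4 (mon d σ *ᵥ u) (mon d σ *ᵥ v) = hermForm 3 F 4 u v
    unfold hermForm
    have h1 : ∀ i, (mon d σ *ᵥ u) i * (mon d σ *ᵥ v) i ^ 4 = u (σ i) * v (σ i) ^ 4 := by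
      intro i
      rw [mon_mulVec, mon_mulVec]
      linear_combination u (σ i) * v (σ i) ^ 4 * hd i
    simp only [h1]
    exact Equiv.sum_comp σ (fun i => u i * v i ^ 4)⟩

theorem el_ext {x y : SU 3 F 4} (h : (x.1.1 : Matrix (Fin 3) (Fin 3) F) = y.1.1) : x = y :=
  Subtype.ext (Subtype.ext h)

/-- a criterion for the order in a central quotient -/
theorem orderOf_mk {H : Type v} [Group H] {a g : H} (h5 : a ^ 5 = 1) (hg : g * a * g⁻¹ ≠ a) :
    orderOf (QuotientGroup.mk (s := center H) a) = 5 := by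
  have : Fact (Nat.Prime 5) := ⟨by norm_num⟩
  refine orderOf_eq_prime ?_ ?_
  · rw [← QuotientGroup.mk_pow, h5, QuotientGroup.mk_one]
  · intro h
    rw [QuotientGroup.eq_one_iff, mem_center_iff] at h
    exact hg (by rw [h g]; group)

theorem hasConf_quot {H : Type v} [Group H] {a b t c : H} (ha : a * a * a * a * a = 1) (hb : b * b * b * b * b = 1)
    (hab : a * b = b * a) (h1 : a * t * a = t) (h2 : t * b = b * t) (h3 : c * a = a * a * b * b * b * c)
    (h4 : c * b = a * b * b * c) (ha' : t * a ≠ a * t) (hb' : c * b ≠ b * c) : HasConf (H ⧸ center H) := by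
  have ha : a ^ 5 = 1 := by rw [← ha]; simp only [pow_succ, pow_zero, one_mul]
  have hb : b ^ 5 = 1 := by rw [← hb]; simp only [pow_succ, pow_zero, one_mul]
  have h1 : t * a * t⁻¹ = a⁻¹ := by
    rw [mul_inv_eq_iff_eq_mul, eq_inv_mul_iff_mul_eq, ← mul_assoc]; exact h1
  have h2 : t * b * t⁻¹ = b := by rw [mul_inv_eq_iff_eq_mul]; exact h2
  have h3 : c * a * c⁻¹ = a ^ 2 * b ^ 3 := by
    rw [mul_inv_eq_iff_eq_mul, h3]; simp only [pow_succ, pow_zero, one_mul, mul_assoc]
  have h4 : c * b * c⁻¹ = a * b ^ 2 := by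
    rw [mul_inv_eq_iff_eq_mul, h4]; simp only [pow_succ, pow_zero, one_mul, mul_assoc]
  have ha' : t * a * t⁻¹ ≠ a := fun h => ha' (by rw [mul_inv_eq_iff_eq_mul] at h; exact h)
  have hb' : c * b * c⁻¹ ≠ b := fun h => hb' (by rw [mul_inv_eq_iff_eq_mul] at h; exact h)
  refine ⟨QuotientGroup.mk a, QuotientGroup.mk b, QuotientGroup.mk t, QuotientGroup.mk c, orderOf_mk ha ha',
    orderOf_mk hb hb', ?_, ?_, ?_, ?_, ?_⟩
  · show QuotientGroup.mk a * QuotientGroup.mk b = QuotientGroup.mk b * QuotientGroup.mk a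
    rw [← QuotientGroup.mk_mul, hab, QuotientGroup.mk_mul]
  · rw [← QuotientGroup.mk_inv, ← QuotientGroup.mk_mul, ← QuotientGroup.mk_mul, h1, QuotientGroup.mk_inv]
  · rw [← QuotientGroup.mk_inv, ← QuotientGroup.mk_mul, ← QuotientGroup.mk_mul, h2]
  · rw [← QuotientGroup.mk_inv, ← QuotientGroup.mk_mul, ← QuotientGroup.mk_mul, h3, QuotientGroup.mk_mul,
      QuotientGroup.mk_pow, QuotientGroup.mk_pow]
  · rw [← QuotientGroup.mk_inv, ← QuotientGroup.mk_mul, ← QuotientGroup.mk_mul, h4, QuotientGroup.mk_mul,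
      QuotientGroup.mk_pow]

theorem conf_PSU [Fintype F] (hF : Fintype.card F = 4 ^ 2) : HasConf (PSU 3 F 4) := by
  classical
  have h2 : (2 : F) = 0 := by
    have h3 : ((Fintype.card F : ℕ) : F) = 0 := FiniteField.cast_card_eq_zero F
    rw [hF] at h3
    push_cast at h3
    have h4 : (2 : F) ^ 4 = 0 := by linear_combination h3
    exact pow_eq_zero_iff (by norm_num) |>.1 h4
  obtain ⟨α, hα5, hα1⟩ : ∃ α : F, α ^ 5 = 1 ∧ α ≠ 1 := by
    have : Fact (Nat.Prime 5) := ⟨by norm_num⟩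
    have h3 : 5 ∣ Fintype.card Fˣ := by rw [Fintype.card_units, hF]; norm_num
    obtain ⟨x, hx⟩ := exists_prime_orderOf_dvd_card 5 h3
    refine ⟨(x : F), ?_, ?_⟩
    · rw [← Units.val_pow_eq_pow_val, ← hx, pow_orderOf_eq_one, Units.val_one]
    · intro h
      have h4 : x = 1 := Units.ext h
      rw [h4, orderOf_one] at hx
      norm_num at hx
  have hα2 : α ^ 2 ≠ 1 := by
    intro h
    apply hα1
    linear_combination hα5 - (α ^ 3 + α) * h
  have hα3 : α ^ 3 ≠ 1 := by
    intro h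
    apply hα2
    linear_combination hα5 - α ^ 2 * h
  have neg1 : (-1 : F) = 1 := by linear_combination -h2
  -- `a = diag(α, α⁻¹, 1)`, `b = diag(α, α, α⁻²)`
  have hda : (mon (![α, α ^ 4, 1] : Fin 3 → F) 1).det = 1 := by
    rw [Matrix.det_fin_three]
    simp [mon]
    linear_combination hα5
  have hdb : (mon (![α, α, α ^ 3] : Fin 3 → F) 1).det = 1 := by
    rw [Matrix.det_fin_three]
    simp [mon]
    linear_combination hα5
  have hdt : (mon (fun _ => (1 : F)) (swap 0 1)).det = 1 := by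
    rw [Matrix.det_fin_three]
    have e0 : (swap (0 : Fin 3) 1) 0 = 1 := by decide
    have e1 : (swap (0 : Fin 3) 1) 1 = 0 := by decide
    have e2 : (swap (0 : Fin 3) 1) 2 = 2 := by decide
    simp [mon, e0, e1, e2, neg1]
  let κ : Perm (Fin 3) := swap 1 2 * swap 0 1
  have hdc : (mon (fun _ => (1 : F)) κ).det = 1 := by
    rw [Matrix.det_fin_three]
    have e0 : κ 0 = 2 := by decide
    have e1 : κ 1 = 0 := by decide
    have e2 : κ 2 = 1 := by decide
    simp [mon, e0, e1, e2]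
  have h5a : ∀ i, (![α, α ^ 4, 1] : Fin 3 → F) i ^ 5 = 1 := by
    intro i
    fin_cases i
    · exact hα5
    · show (α ^ 4) ^ 5 = 1
      linear_combination (α ^ 15 + α ^ 10 + α ^ 5 + 1) * hα5
    · show (1 : F) ^ 5 = 1
      exact one_pow 5
  have h5b : ∀ i, (![α, α, α ^ 3] : Fin 3 → F) i ^ 5 = 1 := by
    intro i
    fin_cases i
    · exact hα5
    · exact hα5
    · show (α ^ 3) ^ 5 = 1
      linear_combination (α ^ 10 + α ^ 5 + 1) * hα5
  have h51 : ∀ i : Fin 3, ((fun _ => (1 : F)) : Fin 3 → F) i ^ 5 = 1 := fun i => one_pow 5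
  have key : ∀ {d d' : Fin 3 → F} {σ τ : Perm (Fin 3)}, d 0 = d' 0 → d 1 = d' 1 → d 2 = d' 2 → σ = τ →
      mon d σ = mon d' τ := by
    intro d d' σ τ h0 h1 h2 h3
    have h4 : d = d' := by
      funext i
      fin_cases i
      · exact h0
      · exact h1
      · exact h2
    rw [h4, h3]
  refine hasConf_quot (a := el _ _ hda h5a) (b := el _ _ hdb h5b) (t := el _ _ hdt h51) (c := el _ _ hdc h51)
    ?_ ?_ ?_ ?_ ?_ ?_ ?_ ?_ ?_
  · apply el_ext
    show mon _ _ * mon _ _ * mon _ _ * mon _ _ * mon _ _ = (1 : Matrix (Fin 3) (Fin 3) F)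
    rw [← mon_one]
    simp only [mon_mul, one_mul, mul_one, Perm.one_apply]
    refine key ?_ ?_ ?_ rfl
    · show α * α * α * α * α = 1
      linear_combination hα5
    · show α ^ 4 * α ^ 4 * α ^ 4 * α ^ 4 * α ^ 4 = 1
      linear_combination (α ^ 15 + α ^ 10 + α ^ 5 + 1) * hα5
    · show (1 : F) * 1 * 1 * 1 * 1 = 1
      ring
  · apply el_ext
    show mon _ _ * mon _ _ * mon _ _ * mon _ _ * mon _ _ = (1 : Matrix (Fin 3) (Fin 3) F)
    rw [← mon_one]
    simp only [mon_mul, one_mul, mul_one, Perm.one_apply]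
    refine key ?_ ?_ ?_ rfl
    · show α * α * α * α * α = 1
      linear_combination hα5
    · show α * α * α * α * α = 1
      linear_combination hα5
    · show α ^ 3 * α ^ 3 * α ^ 3 * α ^ 3 * α ^ 3 = 1
      linear_combination (α ^ 10 + α ^ 5 + 1) * hα5
  · apply el_ext
    show mon _ _ * mon _ _ = mon _ _ * mon _ _
    simp only [mon_mul, one_mul, mul_one, Perm.one_apply]
    refine key ?_ ?_ ?_ rfl
    · exact mul_comm _ _
    · exact mul_comm _ _
    · exact mul_comm _ _
  · apply el_ext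
    show mon _ _ * mon _ _ * mon _ _ = mon _ _
    simp only [mon_mul, one_mul, mul_one, Perm.one_apply]
    refine key ?_ ?_ ?_ rfl
    · show α * α ^ 4 = 1
      linear_combination hα5
    · show α ^ 4 * α = 1
      linear_combination hα5
    · show (1 : F) * 1 = 1
      ring
  · apply el_ext
    show mon _ _ * mon _ _ = mon _ _ * mon _ _
    simp only [mon_mul, one_mul, mul_one, Perm.one_apply]
    refine key ?_ ?_ ?_ rfl
    · rfl
    · rfl
    · rfl
  · apply el_ext
    show mon _ _ * mon _ _ = mon _ _ * mon _ _ * mon _ _ * mon _ _ * mon _ _ * mon _ _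
    simp only [mon_mul, one_mul, mul_one, Perm.one_apply]
    refine key ?_ ?_ ?_ rfl
    · show (1 : F) = α * α * α * α * α
      linear_combination -hα5
    · show α = α ^ 4 * α ^ 4 * α * α * α
      linear_combination (-(α ^ 6) - α) * hα5
    · show α ^ 4 = 1 * 1 * α ^ 3 * α ^ 3 * α ^ 3
      linear_combination (-(α ^ 4)) * hα5
  · apply el_ext
    show mon _ _ * mon _ _ = mon _ _ * mon _ _ * mon _ _ * mon _ _
    simp only [mon_mul, one_mul, mul_one, Perm.one_apply]
    refine key ?_ ?_ ?_ rfl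
    · show α ^ 3 = α * α * α
      ring
    · show α = α ^ 4 * α * α
      linear_combination (-α) * hα5
    · show α = 1 * α ^ 3 * α ^ 3
      linear_combination (-α) * hα5
  · intro h
    have h1 := congrArg (fun x : SU 3 F 4 => (x.1.1 : Matrix (Fin 3) (Fin 3) F) 0 1) h
    have h3 : (mon (fun _ => (1 : F)) (swap 0 1) * mon (![α, α ^ 4, 1] : Fin 3 → F) 1) 0 1 =
        (mon (![α, α ^ 4, 1] : Fin 3 → F) 1 * mon (fun _ => (1 : F)) (swap 0 1)) 0 1 := h1
    rw [mon_mul, mon_mul] at h3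
    have h4 : α ^ 4 = α := by
      have e0 : (swap (0 : Fin 3) 1) 0 = 1 := by decide
      simpa [mon, e0] using h3
    apply hα3
    have h5 : α ≠ 0 := by
      intro h6
      rw [h6] at hα5
      norm_num at hα5
    have h6 : α * (α ^ 3 - 1) = 0 := by linear_combination h4
    rcases mul_eq_zero.1 h6 with h7 | h7
    · exact absurd h7 h5
    · linear_combination h7
  · intro h
    have h1 := congrArg (fun x : SU 3 F 4 => (x.1.1 : Matrix (Fin 3) (Fin 3) F) 0 2) h
    have h3 : (mon (fun _ => (1 : F)) κ * mon (![α, α, α ^ 3] : Fin 3 → F) 1) 0 2 =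
        (mon (![α, α, α ^ 3] : Fin 3 → F) 1 * mon (fun _ => (1 : F)) κ) 0 2 := h1
    rw [mon_mul, mon_mul] at h3
    have h4 : α ^ 3 = α := by
      have e0 : κ 0 = 2 := by decide
      simpa [mon, e0] using h3
    apply hα2
    have h5 : α ≠ 0 := by
      intro h6
      rw [h6] at hα5
      norm_num at hα5
    have h6 : α * (α ^ 2 - 1) = 0 := by linear_combination h4
    rcases mul_eq_zero.1 h6 with h7 | h7
    · exact absurd h7 h5
    · linear_combination h7

theorem not_PSU {K : Type u} [Field K] [Fintype K] (hK : Fintype.card K = 4) : NotE K (.psu 3 4) := by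
  refine notE_of_conf hK ?_
  rintro X _ ⟨F, i1, i2, hF, ⟨e⟩⟩
  exact (conf_PSU hF).map e.symm.toMonoidHom e.symm.injective

end Cfsg.Agent.H898.TSFive
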