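import Cfsg.Agent.H898.TSInvData
import Cfsg.Agent.TwoESix.Iso
import Cfsg.Agent.H83.TwESix
import Cfsg.Agent.GpExc.Field

/-!
# The involutions of `²E₆(2)` on the 78-dimensional module (helper898)

`rank_inv`: an involution `t` of `twistedE6 K 2`, `|K| = 4`, has `rank (t - 1) ∈ {22, 32, 38}`.
-/

set_option autoImplicit false
set_option maxRecDepth 100000

namespace Cfsg.Agent.H898.TSInv

open Cfsg.Lie Cfsg.Agent.Lib Cfsg.Agent.TwoESix.Base Cfsg.Agent.TwoESix.Coded Cfsg.Agent.TwoESix.Iso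
  Cfsg.Agent.ChevalleyStructure.Elts Cfsg.Agent.H83.ChevInv Cfsg.Agent.H83.TwESix
open Cfsg.Agent.ChevalleyStructure.SparseEng
open Cfsg.Agent.Nodes.RGDTwE6 (hp)

universe u

/-- the partial identity of rank `r` -/
def E (r : ℕ) : ℕ := F2Mat.one 78 % 2 ^ (78 * r)

theorem toMat_E {r : ℕ} : F2Mat.toMat 78 (E r) = Matrix.diagonal (fun i : Fin 78 => if (i : ℕ) < r then 1 else 0) := by
  ext i j
  rw [F2Mat.toMat_apply, E, Nat.testBit_mod_two_pow, Matrix.diagonal_apply]
  have h1 : F2Mat.bz ((F2Mat.one 78).testBit (78 * i + j)) = (1 : Matrix (Fin 78) (Fin 78) (ZMod 2)) i j := by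
    rw [← F2Mat.toMat_apply, F2Mat.toMat_one]
  by_cases hr : (i : ℕ) < r
  · have h2 : 78 * (i : ℕ) + j < 78 * r := by have := j.2; omega
    rw [decide_eq_true h2, Bool.true_and, h1, Matrix.one_apply, if_pos hr]
  · have h2 : ¬ 78 * (i : ℕ) + j < 78 * r := by omega
    rw [decide_eq_false h2, Bool.false_and, if_neg hr]
    by_cases hij : i = j <;> simp [hij, F2Mat.bz]

/-- the words -/
def ls : ℕ → List ℕ
  | 0 => [71]
  | 1 => [66, 68]
  | _ => [53, 68, 66]

/-- the ranks -/
def rk : ℕ → ℕ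
  | 0 => 22
  | 1 => 32
  | _ => 38

/-- coded words -/
def cw (k : ℕ) : List (ℕ × ℕ) := (ls k).map fun r => (r, 1)

theorem chk_act : ((List.range 3).all fun k => (cw k).all fun p => Nat.blt p.2 4 && actOk chevE6 p.1) = true := by
  decide +kernel

theorem chk_gen : ((List.range 3).all fun k => genOk (cw k) (TSInvData.m k)) = true := by decide +kernel

theorem chk_u : ((List.range 3).all fun k => Nat.beq (F2Mat.mul 78 (F2Mat.mul 78 (TSInvData.u k)
    (Nat.xor (TSInvData.m k) (F2Mat.one 78))) (TSInvData.w k)) (E (rk k))) = true := by decide +kernel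

theorem chk_x : ((List.range 3).all fun k => Nat.beq (F2Mat.mul 78 (F2Mat.mul 78 (TSInvData.x k)
    (E (rk k))) (TSInvData.y k)) (Nat.xor (TSInvData.m k) (F2Mat.one 78))) = true := by decide +kernel


theorem toMat_xor (n a b : ℕ) : F2Mat.toMat n (Nat.xor a b) = F2Mat.toMat n a + F2Mat.toMat n b := by
  ext i j
  rw [F2Mat.toMat_apply, Matrix.add_apply, F2Mat.toMat_apply, F2Mat.toMat_apply]
  have h : (Nat.xor a b).testBit (n * i + j) = (a.testBit (n * i + j) ^^ b.testBit (n * i + j)) := Nat.testBit_xor a b _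
  rw [h]
  cases a.testBit (n * i + j) <;> cases b.testBit (n * i + j) <;> decide

variable {K : Type u} [Field K]

theorem rank_E (h2 : (2 : K) = 0) {r : ℕ} (hr : r ≤ 78) : ((F2Mat.toMat 78 (E r)).map (cst h2)).rank = r := by
  classical
  have h1 : (F2Mat.toMat 78 (E r)).map (cst h2) = Matrix.diagonal (fun i : Fin 78 => if (i : ℕ) < r then (1 : K) else 0) := by
    rw [toMat_E]
    ext i j
    rw [Matrix.map_apply, Matrix.diagonal_apply, Matrix.diagonal_apply]
    by_cases hij : i = j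
    · by_cases hi : (i : ℕ) < r <;> simp [hij]
    · simp [hij]
  rw [h1, Matrix.rank_diagonal]
  have h3 : Fintype.card {i : Fin 78 // (if (i : ℕ) < r then (1 : K) else 0) ≠ 0} =
      Fintype.card {i : Fin 78 // (i : ℕ) < r} := by
    apply Fintype.card_congr
    apply Equiv.subtypeEquivRight
    intro i
    by_cases hi : (i : ℕ) < r <;> simp [hi]
  rw [h3]
  have h4 : Fintype.card {i : Fin 78 // (i : ℕ) < r} = Fintype.card (Fin r) := by
    apply Fintype.card_congr
    exact
      { toFun := fun i => ⟨i.1, i.2⟩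
        invFun := fun i => ⟨⟨i, lt_of_lt_of_le i.2 hr⟩, i.2⟩
        left_inv := fun i => rfl
        right_inv := fun i => rfl }
  rw [h4, Fintype.card_fin]

theorem rank_code (h2 : (2 : K) = 0) {k : ℕ} (hk : k < 3) :
    ((F2Mat.toMat 78 (TSInvData.m k)).map (cst h2) - 1).rank = rk k := by
  have hmod : (F2Mat.toMat 78 (Nat.xor (TSInvData.m k) (F2Mat.one 78))).map (cst h2) =
      (F2Mat.toMat 78 (TSInvData.m k)).map (cst h2) - 1 := by
    rw [toMat_xor, F2Mat.toMat_one]
    ext i j
    rw [Matrix.map_apply, Matrix.add_apply, map_add, Matrix.sub_apply, Matrix.map_apply]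
    have h3 : ∀ x : K, x + x = 0 := fun x => by linear_combination x * h2
    have h4 : cst h2 ((1 : Matrix (Fin 78) (Fin 78) (ZMod 2)) i j) = (1 : Matrix (Fin 78) (Fin 78) K) i j := by
      rw [Matrix.one_apply, Matrix.one_apply]
      by_cases hij : i = j <;> simp [hij]
    rw [h4]
    linear_combination h3 ((1 : Matrix (Fin 78) (Fin 78) K) i j)
  have hr : rk k ≤ 78 := by interval_cases k <;> decide
  have hu := Nat.eq_of_beq_eq_true (List.all_eq_true.1 chk_u k (List.mem_range.2 hk))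
  have hx := Nat.eq_of_beq_eq_true (List.all_eq_true.1 chk_x k (List.mem_range.2 hk))
  have hu' := congrArg (fun a => (F2Mat.toMat 78 a).map (cst h2)) hu
  have hx' := congrArg (fun a => (F2Mat.toMat 78 a).map (cst h2)) hx
  simp only [F2Mat.toMat_mul, Matrix.map_mul] at hu' hx'
  rw [hmod] at hu' hx'
  apply le_antisymm
  · rw [← hx']
    calc _ ≤ _ := Matrix.rank_mul_le_left _ _
      _ ≤ _ := Matrix.rank_mul_le_right _ _
      _ = rk k := rank_E h2 hr
  · rw [← rank_E h2 hr, ← hu']
    calc _ ≤ _ := Matrix.rank_mul_le_left _ _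
      _ ≤ _ := Matrix.rank_mul_le_right _ _

theorem wordMat_cw (w : K) (k : ℕ) : chevE6.wordMat K ((cw k).map fun p => (p.1, cv w p.2)) =
    ((PX hp.inList K (ls k) : GL chevE6.Idx K) : Matrix chevE6.Idx chevE6.Idx K) := by
  have key : ∀ L : List ℕ, chevE6.wordMat K ((L.map fun r => (r, 1)).map fun p : ℕ × ℕ => (p.1, cv w p.2)) =
      ((PX hp.inList K L : GL chevE6.Idx K) : Matrix chevE6.Idx chevE6.Idx K) := by
    intro L
    induction L with
    | nil => rfl
    | cons r L ih =>
      rw [PX_cons, Units.val_mul, ← ih]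
      show (List.map _ _).prod = _
      rw [List.map_cons, List.map_cons, List.map_cons, List.prod_cons, coe_xG]
      show chevE6.x K r (cv w 1) * _ = _
      rw [cv_one]
      rfl
  exact key (ls k)

theorem rank_rep (h2 : (2 : K) = 0) {w : K} (hw : w * w = w + 1) {k : ℕ} (hk : k < 3) :
    (((PX hp.inList K (ls k) : GL chevE6.Idx K) : Matrix chevE6.Idx chevE6.Idx K) - 1).rank = rk k := by
  have hl : ∀ p ∈ cw k, p.2 < 4 ∧ actOk chevE6 p.1 = true := by
    intro p hp
    have h3 := List.all_eq_true.1 (List.all_eq_true.1 chk_act k (List.mem_range.2 hk)) p hp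
    rw [Bool.and_eq_true, Nat.blt_eq] at h3
    exact h3
  have hg := List.all_eq_true.1 chk_gen k (List.mem_range.2 hk)
  have h3 := word_mul_P h2 w hw (cw k) hl (TSInvData.m k) hg
  rw [wordMat_cw] at h3
  obtain ⟨Q, hPQ, hQP⟩ := exists_Q h2 w hw
  set A := ((PX hp.inList K (ls k) : GL chevE6.Idx K) : Matrix chevE6.Idx chevE6.Idx K)
  set M := (F2Mat.toMat 78 (TSInvData.m k)).map (cst h2) with hM
  have h4 : (A - 1) * P w = P w * (M - 1) := by rw [Matrix.sub_mul, Matrix.mul_sub, h3, Matrix.one_mul, Matrix.mul_one]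
  rw [← rank_code h2 hk, ← hM]
  apply le_antisymm
  · have h5 : A - 1 = P w * (M - 1) * Q := by rw [← h4, Matrix.mul_assoc, hPQ, Matrix.mul_one]
    rw [h5]
    exact (Matrix.rank_mul_le_left _ _).trans (Matrix.rank_mul_le_right _ _)
  · have h5 : M - 1 = Q * (A - 1) * P w := by rw [Matrix.mul_assoc, h4, ← Matrix.mul_assoc, hQP, Matrix.one_mul]
    rw [h5]
    exact (Matrix.rank_mul_le_left _ _).trans (Matrix.rank_mul_le_right _ _)

theorem map_PX {k : Type*} [Field k] (f : K →+* k) (L : List ℕ) :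
    Cfsg.Agent.GpExc.Field.glMap chevE6 f (PX hp.inList K L) = PX hp.inList k L := by
  induction L with
  | nil => rw [PX_nil, PX_nil, map_one]
  | cons r L ih => rw [PX_cons, PX_cons, map_mul, ih, Cfsg.Agent.GpExc.Field.glMap_xG, map_one]

/-- **The ranks of the involutions.** -/
theorem rank_inv {K : Type u} [Field K] [Fintype K] (hK : Fintype.card K = 4) {t : ↥(twistedE6 K 2)}
    (ht : orderOf t = 2) {k : Type*} [Field k] (f : K →+* k) :
    ((((t : GL chevE6.Idx K) : Matrix chevE6.Idx chevE6.Idx K)).map f - 1).rank = 22 ∨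
    ((((t : GL chevE6.Idx K) : Matrix chevE6.Idx chevE6.Idx K)).map f - 1).rank = 32 ∨
    ((((t : GL chevE6.Idx K) : Matrix chevE6.Idx chevE6.Idx K)).map f - 1).rank = 38 := by
  obtain ⟨h2, w, hw, -⟩ := exists_w K hK
  have : CharP K 2 := CharTwo.of_one_ne_zero_of_two_eq_zero one_ne_zero h2
  have htt : (t : GL chevE6.Idx K) * t = 1 := by
    have h3 := pow_orderOf_eq_one t
    rw [ht, pow_two] at h3
    exact congrArg Subtype.val h3
  have hk2 : (2 : k) = 0 := by rw [← map_ofNat f 2, h2, map_zero]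
  have hkw : f w * f w = f w + 1 := by rw [← map_mul, hw, map_add, map_one]
  have key : ∀ j < 3, ∀ g : GL chevE6.Idx K, g * (t : GL chevE6.Idx K) * g⁻¹ = PX hp.inList K (ls j) →
      ((((t : GL chevE6.Idx K) : Matrix chevE6.Idx chevE6.Idx K)).map f - 1).rank = rk j := by
    intro j hj g hg
    have h3 := congrArg (Cfsg.Agent.GpExc.Field.glMap chevE6 f) hg
    rw [map_PX, map_mul, map_mul, map_inv] at h3
    set T := Cfsg.Agent.GpExc.Field.glMap chevE6 f (t : GL chevE6.Idx K) with hT
    set g' := Cfsg.Agent.GpExc.Field.glMap chevE6 f g with hg'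
    have hT' : ((((t : GL chevE6.Idx K) : Matrix chevE6.Idx chevE6.Idx K)).map f) =
        (T : Matrix chevE6.Idx chevE6.Idx k) := by
      rw [hT, Cfsg.Agent.GpExc.Field.coe_glMap]
    rw [hT', ← rank_rep hk2 hkw hj, ← h3]
    have e1 : ((g' * T * g'⁻¹ : GL chevE6.Idx k) : Matrix chevE6.Idx chevE6.Idx k) - 1 =
        (g' : Matrix chevE6.Idx chevE6.Idx k) * ((T : Matrix chevE6.Idx chevE6.Idx k) - 1) *
          ((g'⁻¹ : GL chevE6.Idx k) : Matrix chevE6.Idx chevE6.Idx k) := by
      rw [Matrix.mul_sub, Matrix.sub_mul, Matrix.mul_one, ← Units.val_mul, ← Units.val_mul, ← Units.val_mul,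
        mul_inv_cancel, Units.val_one]
    have e2 : (T : Matrix chevE6.Idx chevE6.Idx k) - 1 =
        ((g'⁻¹ : GL chevE6.Idx k) : Matrix chevE6.Idx chevE6.Idx k) *
          (((g' * T * g'⁻¹ : GL chevE6.Idx k) : Matrix chevE6.Idx chevE6.Idx k) - 1) *
          (g' : Matrix chevE6.Idx chevE6.Idx k) := by
      rw [Matrix.mul_sub, Matrix.sub_mul, Matrix.mul_one, ← Units.val_mul, ← Units.val_mul, ← Units.val_mul]
      have e3 : g'⁻¹ * (g' * T * g'⁻¹) * g' = T := by group
      rw [e3, inv_mul_cancel, Units.val_one]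
    apply le_antisymm
    · conv_lhs => rw [e2]
      exact (Matrix.rank_mul_le_left _ _).trans (Matrix.rank_mul_le_right _ _)
    · conv_lhs => rw [e1]
      exact (Matrix.rank_mul_le_left _ _).trans (Matrix.rank_mul_le_right _ _)
  rcases exists_rep (q := 2) hK t.2 htt with h3 | ⟨R, hR, g, -, hg⟩
  · exfalso
    have h4 : t = 1 := Subtype.ext h3
    rw [h4, orderOf_one] at ht
    norm_num at ht
  · simp only [reps, List.mem_cons, List.not_mem_nil, or_false] at hR
    rcases hR with rfl | rfl | rfl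
    · exact Or.inl (key 0 (by norm_num) g hg)
    · exact Or.inr (Or.inl (key 1 (by norm_num) g hg))
    · exact Or.inr (Or.inr (key 2 (by norm_num) g hg))

end Cfsg.Agent.H898.TSInv
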