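import Mathlib

/-!
# Ranks of idempotents and fixed spaces in characteristic 2 (helper898)

* `rk_add` : ranks of orthogonal idempotents.
* `four_subgroups` : for a group `3²` acting in characteristic 2 the dimensions of the fixed spaces of the four
  subgroups of order 3 (relative to a commuting idempotent).
* `two_rk_le` : `N² = 0`, range in `W`: `2 rk ≤ dim W`.
-/

set_option autoImplicit false

namespace Cfsg.Agent.H898.TSRank

open Module

variable {k V : Type*} [Field k] [AddCommGroup V] [Module k V]

/-- the rank -/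
noncomputable def rk (f : End k V) : ℕ := finrank k f.range

/-- the dimension of the fixed space -/
noncomputable def fx (f : End k V) : ℕ := finrank k (f - 1).ker

theorem mem_fx {f : End k V} {v : V} : v ∈ (f - 1).ker ↔ f v = v := by
  rw [LinearMap.mem_ker, LinearMap.sub_apply, Module.End.one_apply, sub_eq_zero]

theorem rk_sub_one [FiniteDimensional k V] (f : End k V) : rk (f - 1) + fx f = finrank k V :=
  LinearMap.finrank_range_add_finrank_ker _

theorem rk_zero : rk (0 : End k V) = 0 := by
  unfold rk
  rw [LinearMap.range_zero, finrank_bot]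

theorem eq_zero_of_rk [FiniteDimensional k V] {f : End k V} (h : rk f = 0) : f = 0 := by
  unfold rk at h
  rw [Submodule.finrank_eq_zero] at h
  exact LinearMap.range_eq_bot.1 h

theorem rk_add [FiniteDimensional k V] {p q : End k V} (hp : p * p = p) (hq : q * q = q) (hpq : p * q = 0)
    (hqp : q * p = 0) : rk (p + q) = rk p + rk q := by
  have ap : ∀ v, p (p v) = p v := fun v => LinearMap.congr_fun hp v
  have aq : ∀ v, q (q v) = q v := fun v => LinearMap.congr_fun hq v
  have apq : ∀ v, p (q v) = 0 := fun v => LinearMap.congr_fun hpq v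
  have aqp : ∀ v, q (p v) = 0 := fun v => LinearMap.congr_fun hqp v
  have h1 : (p + q).range = p.range ⊔ q.range := by
    apply le_antisymm
    · rintro _ ⟨v, rfl⟩
      rw [LinearMap.add_apply]
      exact Submodule.add_mem_sup ⟨v, rfl⟩ ⟨v, rfl⟩
    · apply sup_le
      · rintro _ ⟨v, rfl⟩
        refine ⟨p v, ?_⟩
        rw [LinearMap.add_apply, ap, aqp, add_zero]
      · rintro _ ⟨v, rfl⟩
        refine ⟨q v, ?_⟩
        rw [LinearMap.add_apply, apq, aq, zero_add]
  have h2 : p.range ⊓ q.range = ⊥ := by
    rw [eq_bot_iff]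
    rintro x ⟨⟨v, rfl⟩, ⟨w, hw⟩⟩
    rw [Submodule.mem_bot, ← ap v, ← hw, apq]
  unfold rk
  have h3 := Submodule.finrank_sup_add_finrank_inf_eq p.range q.range
  rw [h2, finrank_bot, add_zero] at h3
  rw [h1, h3]

/-- the rank of the "norm" of an element of order 3, in characteristic 2 -/
theorem rk_three [FiniteDimensional k V] (h2 : (2 : k) = 0) {a : End k V} (ha : a ^ 3 = 1) :
    rk (1 + a + a ^ 2) = fx a := by
  have hh : (2 : End k V) = 0 := by
    have := map_ofNat (algebraMap k (End k V)) 2
    rw [h2, map_zero] at this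
    exact this.symm
  have e1 : a * (1 + a + a ^ 2) = 1 + a + a ^ 2 := by
    have : a * a ^ 2 = 1 := by rw [← pow_succ', ha]
    rw [mul_add, mul_add, mul_one, this, ← pow_two]
    abel
  have : (1 + a + a ^ 2).range = (a - 1).ker := by
    ext v
    rw [mem_fx]
    constructor
    · rintro ⟨w, rfl⟩
      exact LinearMap.congr_fun e1 w
    · intro hv
      refine ⟨v, ?_⟩
      have h4 : (a ^ 2) v = v := by rw [pow_two, Module.End.mul_apply, hv, hv]
      rw [LinearMap.add_apply, LinearMap.add_apply, Module.End.one_apply, hv, h4]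
      have h5 : (2 : End k V) v = v + v := by
        have : (2 : End k V) = 1 + 1 := by norm_num
        rw [this, LinearMap.add_apply, Module.End.one_apply]
      have h6 : v + v = 0 := by rw [← h5, hh, LinearMap.zero_apply]
      rw [h6, zero_add]
  unfold rk fx
  rw [this]

section four

variable {R : Type*} [CommRing R]

/-- the norm element -/
def nm (a : R) : R := 1 + a + a ^ 2

theorem nm_sq (h2 : (2 : R) = 0) {a : R} (ha : a ^ 3 = 1) : nm a * nm a = nm a := by
  unfold nm
  linear_combination (a + 2) * ha + (1 + a + a ^ 2) * h2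

/-- **the four subgroups of `3²`**: a commutative ring of characteristic 2 acting, `π` an idempotent, `u³ = v³ = 1` -/
theorem four_subgroups [FiniteDimensional k V] (h2 : (2 : R) = 0) (θ : R →+* End k V) {π u v : R} (hπ : π * π = π)
    (hu : u ^ 3 = 1) (hv : v ^ 3 = 1) :
    rk (θ π) + 3 * rk (θ (π * (nm u * nm v))) =
      rk (θ (π * nm u)) + rk (θ (π * nm v)) + rk (θ (π * nm (u * v))) + rk (θ (π * nm (u * v ^ 2))) := by
  set E : R := π * (nm u * nm v) with hE
  have huv : (u * v) ^ 3 = 1 := by rw [mul_pow, hu, hv, one_mul]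
  have huv2 : (u * v ^ 2) ^ 3 = 1 := by
    rw [mul_pow, hu, ← pow_mul, mul_comm 2 3, pow_mul, hv, one_pow, one_mul]
  have eE : E * E = E := by
    have h1 := nm_sq h2 hu
    have h3 := nm_sq h2 hv
    calc E * E = (π * π) * ((nm u * nm u) * (nm v * nm v)) := by rw [hE]; ring
      _ = E := by rw [hπ, h1, h3]
  -- products
  have m1 : nm u * nm (u * v) = nm u * nm v := by
    unfold nm
    linear_combination (v + v ^ 2 * u + v ^ 2) * hu
  have m2 : nm u * nm (u * v ^ 2) = nm u * nm v := by
    unfold nm
    linear_combination (v ^ 2 + v ^ 4 * u + v ^ 4) * hu + (v + v * u + v * u ^ 2) * hv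
  have m3 : nm v * nm (u * v) = nm u * nm v := by
    unfold nm
    linear_combination (u + u ^ 2 * v + u ^ 2) * hv
  have m4 : nm v * nm (u * v ^ 2) = nm u * nm v := by
    unfold nm
    linear_combination (u + u * v + u ^ 2 * (v + v ^ 2 + v ^ 3) + u ^ 2) * hv
  have m5 : nm (u * v) * nm (u * v ^ 2) = nm u * nm v := by
    unfold nm
    linear_combination (v ^ 5 + v ^ 4 + u * v ^ 6) * hu + (u ^ 2 * v + u ^ 2 + v ^ 2 + v + u * (v ^ 3 + 1)) * hv
  -- idempotents
  have q1 : (π * nm u) * (π * nm u) = π * nm u := by
    calc _ = (π * π) * (nm u * nm u) := by ring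
      _ = _ := by rw [hπ, nm_sq h2 hu]
  have q2 : (π * nm v) * (π * nm v) = π * nm v := by
    calc _ = (π * π) * (nm v * nm v) := by ring
      _ = _ := by rw [hπ, nm_sq h2 hv]
  have q3 : (π * nm (u * v)) * (π * nm (u * v)) = π * nm (u * v) := by
    calc _ = (π * π) * (nm (u * v) * nm (u * v)) := by ring
      _ = _ := by rw [hπ, nm_sq h2 huv]
  have q4 : (π * nm (u * v ^ 2)) * (π * nm (u * v ^ 2)) = π * nm (u * v ^ 2) := by
    calc _ = (π * π) * (nm (u * v ^ 2) * nm (u * v ^ 2)) := by ring
      _ = _ := by rw [hπ, nm_sq h2 huv2]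
  have q12 : (π * nm u) * (π * nm v) = E := by
    calc _ = (π * π) * (nm u * nm v) := by ring
      _ = _ := by rw [hπ]
  have q13 : (π * nm u) * (π * nm (u * v)) = E := by
    calc _ = (π * π) * (nm u * nm (u * v)) := by ring
      _ = _ := by rw [hπ, m1]
  have q14 : (π * nm u) * (π * nm (u * v ^ 2)) = E := by
    calc _ = (π * π) * (nm u * nm (u * v ^ 2)) := by ring
      _ = _ := by rw [hπ, m2]
  have q23 : (π * nm v) * (π * nm (u * v)) = E := by
    calc _ = (π * π) * (nm v * nm (u * v)) := by ring
      _ = _ := by rw [hπ, m3]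
  have q24 : (π * nm v) * (π * nm (u * v ^ 2)) = E := by
    calc _ = (π * π) * (nm v * nm (u * v ^ 2)) := by ring
      _ = _ := by rw [hπ, m4]
  have q34 : (π * nm (u * v)) * (π * nm (u * v ^ 2)) = E := by
    calc _ = (π * π) * (nm (u * v) * nm (u * v ^ 2)) := by ring
      _ = _ := by rw [hπ, m5]
  have E1 : (π * nm u) * E = E := by
    calc _ = (π * π) * ((nm u * nm u) * nm v) := by rw [hE]; ring
      _ = _ := by rw [hπ, nm_sq h2 hu]
  have E2 : (π * nm v) * E = E := by
    calc _ = (π * π) * (nm u * (nm v * nm v)) := by rw [hE]; ring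
      _ = _ := by rw [hπ, nm_sq h2 hv]
  have E3 : (π * nm (u * v)) * E = E := by
    calc _ = (π * π) * ((nm u * nm (u * v)) * nm v) := by rw [hE]; ring
      _ = (π * π) * (nm u * (nm v * nm v)) := by rw [m1]; ring
      _ = _ := by rw [hπ, nm_sq h2 hv]
  have E4 : (π * nm (u * v ^ 2)) * E = E := by
    calc _ = (π * π) * ((nm u * nm (u * v ^ 2)) * nm v) := by rw [hE]; ring
      _ = (π * π) * (nm u * (nm v * nm v)) := by rw [m2]; ring
      _ = _ := by rw [hπ, nm_sq h2 hv]
  have hsum : π = E + ((π * nm u - E) + ((π * nm v - E) + ((π * nm (u * v) - E) + (π * nm (u * v ^ 2) - E)))) := by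
    rw [hE]
    unfold nm
    linear_combination (-π * u ^ 2 * v) * hv + (-π + π * ((1 + u + u ^ 2) * (1 + v + v ^ 2))) * h2
  have split : ∀ q : R, q * q = q → q * E = E → rk (θ q) = rk (θ (q - E)) + rk (θ E) := by
    intro q hq hqE
    have : θ q = θ (q - E) + θ E := by rw [← map_add, sub_add_cancel]
    rw [this]
    apply rk_add
    · rw [← map_mul]; congr 1; linear_combination hq - 2 * hqE + eE
    · rw [← map_mul, eE]
    · rw [← map_mul]
      rw [show (q - E) * E = 0 by linear_combination hqE - eE, map_zero]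
    · rw [← map_mul]
      rw [show E * (q - E) = 0 by linear_combination hqE - eE, map_zero]
  rw [split _ q1 E1, split _ q2 E2, split _ q3 E3, split _ q4 E4]
  have tot : rk (θ π) = rk (θ E) + (rk (θ (π * nm u - E)) + (rk (θ (π * nm v - E)) +
      (rk (θ (π * nm (u * v) - E)) + rk (θ (π * nm (u * v ^ 2) - E))))) := by
    conv_lhs => rw [hsum]
    generalize π * nm u = a at *
    generalize π * nm v = b at *
    generalize π * nm (u * v) = c at *
    generalize π * nm (u * v ^ 2) = d at *
    rw [map_add, map_add, map_add, map_add]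
    have z : ∀ x y : R, x * y = 0 → θ x * θ y = 0 := fun x y h => by rw [← map_mul, h, map_zero]
    have ia : (a - E) * (a - E) = a - E := by linear_combination q1 - 2 * E1 + eE
    have ib : (b - E) * (b - E) = b - E := by linear_combination q2 - 2 * E2 + eE
    have ic : (c - E) * (c - E) = c - E := by linear_combination q3 - 2 * E3 + eE
    have id' : (d - E) * (d - E) = d - E := by linear_combination q4 - 2 * E4 + eE
    have iab : (a - E) * (b - E) = 0 := by linear_combination q12 - E1 - E2 + eE
    have iac : (a - E) * (c - E) = 0 := by linear_combination q13 - E1 - E3 + eE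
    have iad : (a - E) * (d - E) = 0 := by linear_combination q14 - E1 - E4 + eE
    have ibc : (b - E) * (c - E) = 0 := by linear_combination q23 - E2 - E3 + eE
    have ibd : (b - E) * (d - E) = 0 := by linear_combination q24 - E2 - E4 + eE
    have icd : (c - E) * (d - E) = 0 := by linear_combination q34 - E3 - E4 + eE
    have iEa : E * (a - E) = 0 := by linear_combination E1 - eE
    have iEb : E * (b - E) = 0 := by linear_combination E2 - eE
    have iEc : E * (c - E) = 0 := by linear_combination E3 - eE
    have iEd : E * (d - E) = 0 := by linear_combination E4 - eE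
    rw [← map_add θ (c - E) (d - E), ← map_add θ (b - E), ← map_add θ (a - E)]
    rw [rk_add, map_add, rk_add, map_add, rk_add, map_add, rk_add]
    all_goals rw [← map_mul]
    all_goals first
      | (refine congrArg θ ?_; linear_combination id')
      | (refine congrArg θ ?_; linear_combination ic)
      | (refine congrArg θ ?_; linear_combination ib)
      | (refine congrArg θ ?_; linear_combination ia)
      | (refine congrArg θ ?_; linear_combination eE)
      | (refine congrArg θ ?_; linear_combination ic + id' + 2 * icd)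
      | (refine congrArg θ ?_; linear_combination ib + ic + id' + 2 * icd + 2 * ibc + 2 * ibd)
      | (refine congrArg θ ?_; linear_combination ia + ib + ic + id' + 2 * icd + 2 * ibc + 2 * ibd +
          2 * iab + 2 * iac + 2 * iad)
      | (rw [← map_zero θ]; refine congrArg θ ?_; linear_combination icd)
      | (rw [← map_zero θ]; refine congrArg θ ?_; linear_combination ibc + ibd)
      | (rw [← map_zero θ]; refine congrArg θ ?_; linear_combination iab + iac + iad)
      | (rw [← map_zero θ]; refine congrArg θ ?_; linear_combination iEa + iEb + iEc + iEd)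
  rw [tot]
  ring

end four

theorem finrank_sup_le [FiniteDimensional k V] {ι : Type*} (s : Finset ι) (f : ι → Submodule k V) :
    finrank k (s.sup f : Submodule k V) ≤ ∑ i ∈ s, finrank k (f i) := by
  classical
  induction s using Finset.induction_on with
  | empty => simp
  | insert a s ha ih =>
    rw [Finset.sup_insert, Finset.sum_insert ha]
    exact (Submodule.finrank_add_le_finrank_add_finrank _ _).trans (Nat.add_le_add_left ih _)

/-- an involution (in characteristic 2) preserving `W` -/
theorem two_finrank_map_le [FiniteDimensional k V] (h2 : (2 : k) = 0) {z : End k V} (hz : z * z = 1)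
    (W : Submodule k V) (hW : ∀ v ∈ W, z v ∈ W) : 2 * finrank k (W.map (z - 1)) ≤ finrank k W := by
  have hzz : ∀ v, z (z v) = v := fun v => LinearMap.congr_fun hz v
  have hvv : ∀ v : V, v + v = 0 := fun v => by
    have : v + v = (2 : k) • v := by rw [two_smul]
    rw [this, h2, zero_smul]
  have h1 : W.map (z - 1) ≤ W ⊓ (z - 1).ker := by
    rintro _ ⟨v, hv, rfl⟩
    refine ⟨?_, ?_⟩
    · rw [LinearMap.sub_apply, Module.End.one_apply]
      exact W.sub_mem (hW v hv) hv
    · refine (mem_fx (f := z)).2 ?_
      rw [LinearMap.sub_apply, Module.End.one_apply, map_sub, hzz]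
      have := hvv (z v - v)
      rw [add_eq_zero_iff_eq_neg] at this
      rw [this, neg_sub]
  have h3 := LinearMap.finrank_range_add_finrank_ker ((z - 1).domRestrict W)
  rw [LinearMap.range_domRestrict] at h3
  have h4 : finrank k (W ⊓ (z - 1).ker : Submodule k V) ≤ finrank k ((z - 1).domRestrict W).ker := by
    let f : (W ⊓ (z - 1).ker : Submodule k V) →ₗ[k] ((z - 1).domRestrict W).ker :=
      LinearMap.codRestrict _ (Submodule.inclusion inf_le_left) (fun x => by
        rw [LinearMap.mem_ker, LinearMap.domRestrict_apply]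
        exact LinearMap.mem_ker.1 x.2.2)
    refine LinearMap.finrank_le_finrank_of_injective (f := f) ?_
    intro x y hxy
    apply Subtype.ext
    exact congrArg (fun t : ((z - 1).domRestrict W).ker => ((t : W) : V)) hxy
  have h5 := (Submodule.finrank_mono h1).trans h4
  omega

/-- **an involution commuting with an element of order 7** -/
theorem rk_le_sum_seven [FiniteDimensional k V] (h2 : (2 : k) = 0) {z c : End k V} (hz : z * z = 1)
    (hc : c ^ 7 = 1) (hzc : z * c = c * z) {ζ : k} (hζ : IsPrimitiveRoot ζ 7) :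
    rk (z - 1) ≤ ∑ i ∈ Finset.range 7, finrank k (c.eigenspace (ζ ^ i)) / 2 := by
  -- the projections
  let π : ℕ → End k V := fun i => ∑ j ∈ Finset.range 7, (ζ ^ (6 * i * j)) • c ^ j
  have hζ7 : ζ ^ 7 = 1 := hζ.pow_eq_one
  have cπ : ∀ i v, c (π i v) = ζ ^ i • π i v := by
    intro i v
    have e : c * π i = ζ ^ i • π i := by
      simp only [π, Finset.sum_range_succ, Finset.sum_range_zero, zero_add, mul_add, mul_smul_comm, smul_add,
        ← pow_succ', smul_smul]
      rw [show c ^ (6 + 1) = c ^ 0 by rw [pow_zero]; exact hc]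
      have p : ∀ n, ζ ^ (i * (7 * n)) = 1 := fun n => by
        rw [mul_comm, mul_assoc, pow_mul, hζ7, one_pow]
      have q : ∀ m n r : ℕ, m = n + i * (7 * r) → ζ ^ m = ζ ^ n := fun m n r h => by
        rw [h, pow_add, p, mul_one]
      have e0 : ζ ^ i * ζ ^ (6 * i * 1) = ζ ^ (6 * i * 0) := by
        rw [← pow_add]; exact q _ _ 1 (by ring)
      have e1 : ζ ^ i * ζ ^ (6 * i * 2) = ζ ^ (6 * i * 1) := by
        rw [← pow_add]; exact q _ _ 1 (by ring)
      have e2 : ζ ^ i * ζ ^ (6 * i * 3) = ζ ^ (6 * i * 2) := by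
        rw [← pow_add]; exact q _ _ 1 (by ring)
      have e3 : ζ ^ i * ζ ^ (6 * i * 4) = ζ ^ (6 * i * 3) := by
        rw [← pow_add]; exact q _ _ 1 (by ring)
      have e4 : ζ ^ i * ζ ^ (6 * i * 5) = ζ ^ (6 * i * 4) := by
        rw [← pow_add]; exact q _ _ 1 (by ring)
      have e5 : ζ ^ i * ζ ^ (6 * i * 6) = ζ ^ (6 * i * 5) := by
        rw [← pow_add]; exact q _ _ 1 (by ring)
      have e6 : ζ ^ i * ζ ^ (6 * i * 0) = ζ ^ (6 * i * 6) := by
        rw [← pow_add]; exact (q _ _ 5 (by ring)).symm
      rw [e0, e1, e2, e3, e4, e5, e6]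
      abel
    exact LinearMap.congr_fun e v
  have sπ : ∑ i ∈ Finset.range 7, π i = 1 := by
    have hs : ∀ j, 0 < j → j < 7 → ∑ i ∈ Finset.range 7, ζ ^ (6 * i * j) = 0 := by
      intro j h0 h7
      have h3 : ζ ^ (6 * j) ≠ 1 := by
        intro h
        rw [hζ.pow_eq_one_iff_dvd] at h
        omega
      have h4 := geom_sum_mul (ζ ^ (6 * j)) 7
      have h5 : (ζ ^ (6 * j)) ^ 7 = 1 := by
        rw [← pow_mul, mul_comm, pow_mul, hζ7, one_pow]
      rw [h5, sub_self, mul_eq_zero, sub_eq_zero] at h4
      rcases h4 with h4 | h4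
      · rw [← h4]
        refine Finset.sum_congr rfl fun i _ => ?_
        rw [← pow_mul]; congr 1; ring
      · exact absurd h4 h3
    simp only [π]
    rw [Finset.sum_comm]
    rw [Finset.sum_eq_single 0]
    · simp only [mul_zero, pow_zero, one_smul, Finset.sum_const, Finset.card_range]
      have : (7 : ℕ) • (1 : End k V) = (7 : k) • 1 := by
        rw [← Nat.cast_smul_eq_nsmul k]; norm_num
      rw [this, show (7 : k) = 1 by linear_combination 3 * h2, one_smul]
    · intro j hj h0
      rw [← Finset.sum_smul, hs j (Nat.pos_of_ne_zero h0) (Finset.mem_range.1 hj), zero_smul]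
    · intro h; exact absurd (Finset.mem_range.2 (by norm_num)) h
  have hle : (z - 1).range ≤ (Finset.range 7).sup fun i => (c.eigenspace (ζ ^ i)).map (z - 1) := by
    rintro _ ⟨v, rfl⟩
    have hv : v = ∑ i ∈ Finset.range 7, π i v := by
      calc v = (1 : End k V) v := rfl
        _ = (∑ i ∈ Finset.range 7, π i) v := by rw [sπ]
        _ = _ := LinearMap.sum_apply _ _ _
    rw [hv, map_sum]
    refine Submodule.sum_mem _ fun i hi => ?_
    have h8 := Finset.le_sup (f := fun i => (c.eigenspace (ζ ^ i)).map (z - 1)) hi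
    exact h8 ⟨π i v, Module.End.mem_eigenspace_iff.2 (cπ i v), rfl⟩
  have h6 : rk (z - 1) ≤ _ := Submodule.finrank_mono hle
  refine h6.trans ((finrank_sup_le (k := k) (V := V) (Finset.range 7)
    fun i => (c.eigenspace (ζ ^ i)).map (z - 1)).trans ?_)
  refine Finset.sum_le_sum fun i _ => ?_
  have h9 := two_finrank_map_le h2 hz (c.eigenspace (ζ ^ i)) fun v hv => by
    rw [Module.End.mem_eigenspace_iff] at hv ⊢
    have : c (z v) = z (c v) := (LinearMap.congr_fun hzc v).symm
    rw [this, hv, map_smul]
  omega

end Cfsg.Agent.H898.TSRank
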