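import Mathlib
import Cfsg.Agent.H898.TSRank
import Cfsg.Agent.H565.Scott
import Cfsg.Agent.S0801

/-!
# `L₂(27)` on a 78-dimensional module in characteristic 2 (helper898)

`false_of` : there is no 78-dimensional module in characteristic 2 for `SL₂(27)` with `-1` acting trivially such that the
elements of order 3 have a fixed space of dimension 46, 36, 30, 28 or 24, those of order 7 one of dimension ≥ 18, or 12 with
all other eigenspaces of dimension 11, and the involutions of `L₂(27)` one of dimension 56, 46 or 40.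
-/

set_option autoImplicit false
set_option linter.unusedVariables false
set_option linter.unusedSectionVars false

namespace Cfsg.Agent.H898.TSL27

open Module Matrix Cfsg.Agent.H898.TSRank
open scoped MatrixGroups

section field

variable {F : Type*} [Field F] [Fintype F] (hF : Fintype.card F = 27)

include hF in
theorem charThree : (3 : F) = 0 := by
  have h := FiniteField.cast_card_eq_zero F
  rw [hF] at h
  have : (3 : F) ^ 3 = 0 := by
    rw [← h]; norm_num
  exact pow_eq_zero_iff (three_ne_zero) |>.1 this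

open Polynomial in
include hF in
/-- a root of `X³ + X² + X + 2` -/
theorem exists_root : ∃ r : F, r ^ 3 + r ^ 2 + r + 2 = 0 := by
  by_contra hcon
  push Not at hcon
  have h3 : (3 : F[X]) = 0 := by
    have := congrArg (C (R := F)) (charThree hF)
    rwa [map_ofNat, map_zero] at this
  let q : F[X] := X ^ 24 - X ^ 23 - X ^ 21 + X ^ 19 + X ^ 18 + X ^ 17 - X ^ 16 + X ^ 15 + X ^ 14 + X ^ 11 - X ^ 10 - X ^ 8 + X ^ 6 + X ^ 5 + X ^ 4 - X ^ 3 + X ^ 2 + X
  have hq : (X ^ 27 - X : F[X]) = (X ^ 3 + X ^ 2 + X + 2) * q := by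
    linear_combination (X ^ 23 - X ^ 20 - X ^ 19 - X ^ 18 - X ^ 17 - X ^ 15 - X ^ 14 + X ^ 10 - X ^ 7 - X ^ 6 - X ^ 5 - X ^ 4 - X ^ 2 - X) * h3
  have hz : ∀ x : F, q.eval x = 0 := by
    intro x
    have h1 := congrArg (eval x) hq
    rw [eval_sub, eval_pow, eval_X, eval_mul] at h1
    have h2 : x ^ 27 = x := by rw [← hF]; exact FiniteField.pow_card x
    rw [h2, sub_self] at h1
    have h4 : (X ^ 3 + X ^ 2 + X + 2 : F[X]).eval x = x ^ 3 + x ^ 2 + x + 2 := by
      simp
    rw [h4] at h1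
    exact (mul_eq_zero.1 h1.symm).resolve_left (hcon x)
  have hd : q.natDegree = 24 := by
    show (X ^ 24 - X ^ 23 - X ^ 21 + X ^ 19 + X ^ 18 + X ^ 17 - X ^ 16 + X ^ 15 + X ^ 14 + X ^ 11 - X ^ 10 - X ^ 8 + X ^ 6 + X ^ 5 + X ^ 4 - X ^ 3 + X ^ 2 + X : F[X]).natDegree = 24
    compute_degree!
  have h0 : q = 0 := by
    apply eq_zero_of_natDegree_lt_card_of_eval_eq_zero q (f := (id : F → F)) Function.injective_id
    · intro i; exact hz i
    · rw [hd, hF]; norm_num
  rw [h0, natDegree_zero] at hd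
  norm_num at hd

end field

theorem mk4 {F : Type*} {a b c d a' b' c' d' : F} (h1 : a = a') (h2 : b = b') (h3 : c = c') (h4 : d = d') :
    (!![a, b; c, d] : Matrix (Fin 2) (Fin 2) F) = !![a', b'; c', d'] := by
  rw [h1, h2, h3, h4]

section mats

variable {F : Type*} [Field F] {r : F} (hr : r ^ 3 + r ^ 2 + r + 2 = 0) (h3 : (3 : F) = 0)

include hr h3

theorem mul_c : (!![0, r; -r ^ 2 - r - 1, 0] : Matrix (Fin 2) (Fin 2) F) * !![1, 0; 1, 1] = !![r, r; -r ^ 2 - r - 1, 0] := by
  rw [Matrix.mul_fin_two]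
  refine mk4 ?_ ?_ ?_ ?_
  · linear_combination (0) * hr + (0) * h3
  · linear_combination (0) * hr + (0) * h3
  · linear_combination (0) * hr + (0) * h3
  · linear_combination (0) * hr + (0) * h3

theorem mul_c2 : (!![r, r; -r ^ 2 - r - 1, 0] : Matrix (Fin 2) (Fin 2) F) * !![r, r; -r ^ 2 - r - 1, 0] = !![r ^ 2 - 1, r ^ 2; -1, -1] := by
  rw [Matrix.mul_fin_two]
  refine mk4 ?_ ?_ ?_ ?_
  · linear_combination (-1) * hr + (1) * h3
  · linear_combination (0) * hr + (0) * h3
  · linear_combination (-1) * hr + (1) * h3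
  · linear_combination (-1) * hr + (1) * h3

theorem mul_c3 : (!![r ^ 2 - 1, r ^ 2; -1, -1] : Matrix (Fin 2) (Fin 2) F) * !![r, r; -r ^ 2 - r - 1, 0] = !![-r ^ 2 + 1, -r ^ 2 + r + 1; r ^ 2 + 1, -r] := by
  rw [Matrix.mul_fin_two]
  refine mk4 ?_ ?_ ?_ ?_
  · linear_combination (-r + 1) * hr + (-1) * h3
  · linear_combination (1) * hr + (-r - 1) * h3
  · linear_combination (0) * hr + (0) * h3
  · linear_combination (0) * hr + (0) * h3

theorem mul_c4 : (!![r ^ 2 - 1, r ^ 2; -1, -1] : Matrix (Fin 2) (Fin 2) F) * !![r ^ 2 - 1, r ^ 2; -1, -1] = !![-r, r ^ 2 - r - 1; -r ^ 2 - 1, -r ^ 2 + 1] := by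
  rw [Matrix.mul_fin_two]
  refine mk4 ?_ ?_ ?_ ?_
  · linear_combination (r - 1) * hr + (-r ^ 2 + 1) * h3
  · linear_combination (r - 1) * hr + (-r ^ 2 + 1) * h3
  · linear_combination (0) * hr + (1) * h3
  · linear_combination (0) * hr + (0) * h3

theorem mul_c7 : (!![-r, r ^ 2 - r - 1; -r ^ 2 - 1, -r ^ 2 + 1] : Matrix (Fin 2) (Fin 2) F) * !![-r ^ 2 + 1, -r ^ 2 + r + 1; r ^ 2 + 1, -r] = !![1, 0; 0, 1] := by
  rw [Matrix.mul_fin_two]
  refine mk4 ?_ ?_ ?_ ?_
  · linear_combination (r - 1) * hr + (-r) * h3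
  · linear_combination (0) * hr + (0) * h3
  · linear_combination (0) * hr + (0) * h3
  · linear_combination (r - 1) * hr + (-r) * h3

theorem mul_hc : (!![r ^ 2 + 1, -1; r, r ^ 2 - 1] : Matrix (Fin 2) (Fin 2) F) * !![r, r; -r ^ 2 - r - 1, 0] = !![r - 1, -r ^ 2 + 1; -r ^ 2 + 1, r ^ 2] := by
  rw [Matrix.mul_fin_two]
  refine mk4 ?_ ?_ ?_ ?_
  · linear_combination (1) * hr + (0) * h3
  · linear_combination (1) * hr + (-1) * h3
  · linear_combination (-r) * hr + (r ^ 2 + r) * h3
  · linear_combination (0) * hr + (0) * h3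

theorem mul_ch : (!![-r, -r + 1; -r - 1, -r] : Matrix (Fin 2) (Fin 2) F) * !![r ^ 2 + 1, -1; r, r ^ 2 - 1] = !![r - 1, -r ^ 2 + 1; -r ^ 2 + 1, r ^ 2] := by
  rw [Matrix.mul_fin_two]
  refine mk4 ?_ ?_ ?_ ?_
  · linear_combination (-1) * hr + (1) * h3
  · linear_combination (-1) * hr + (r ^ 2 + r) * h3
  · linear_combination (-1) * hr + (0) * h3
  · linear_combination (-1) * hr + (r + 1) * h3

theorem mul_c0z : (!![-r, -r + 1; -r - 1, -r] : Matrix (Fin 2) (Fin 2) F) * !![0, r; -r ^ 2 - r - 1, 0] = !![-r ^ 2 - r, -r ^ 2; 1, -r ^ 2 - r] := by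
  rw [Matrix.mul_fin_two]
  refine mk4 ?_ ?_ ?_ ?_
  · linear_combination (1) * hr + (-1) * h3
  · linear_combination (0) * hr + (0) * h3
  · linear_combination (1) * hr + (-1) * h3
  · linear_combination (0) * hr + (0) * h3

theorem mul_zc0 : (!![0, r; -r ^ 2 - r - 1, 0] : Matrix (Fin 2) (Fin 2) F) * !![-r, -r + 1; -r - 1, -r] = !![-r ^ 2 - r, -r ^ 2; 1, -r ^ 2 - r] := by
  rw [Matrix.mul_fin_two]
  refine mk4 ?_ ?_ ?_ ?_
  · linear_combination (0) * hr + (0) * h3
  · linear_combination (0) * hr + (0) * h3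
  · linear_combination (1) * hr + (-1) * h3
  · linear_combination (1) * hr + (-1) * h3

theorem mul_zz : (!![0, r; -r ^ 2 - r - 1, 0] : Matrix (Fin 2) (Fin 2) F) * !![0, r; -r ^ 2 - r - 1, 0] = !![-1, 0; 0, -1] := by
  rw [Matrix.mul_fin_two]
  refine mk4 ?_ ?_ ?_ ?_
  · linear_combination (-1) * hr + (1) * h3
  · linear_combination (0) * hr + (0) * h3
  · linear_combination (0) * hr + (0) * h3
  · linear_combination (-1) * hr + (1) * h3

theorem mul_uz : (!![1, -r ^ 2; 0, 1] : Matrix (Fin 2) (Fin 2) F) * !![0, r; -r ^ 2 - r - 1, 0] = !![r, r; -r ^ 2 - r - 1, 0] := by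
  rw [Matrix.mul_fin_two]
  refine mk4 ?_ ?_ ?_ ?_
  · linear_combination (r) * hr + (-r) * h3
  · linear_combination (0) * hr + (0) * h3
  · linear_combination (0) * hr + (0) * h3
  · linear_combination (0) * hr + (0) * h3

theorem det_z : (!![0, r; -r ^ 2 - r - 1, 0] : Matrix (Fin 2) (Fin 2) F).det = 1 := by
  rw [Matrix.det_fin_two_of]
  linear_combination (1) * hr + (-1) * h3

theorem det_h : (!![r ^ 2 + 1, -1; r, r ^ 2 - 1] : Matrix (Fin 2) (Fin 2) F).det = 1 := by
  rw [Matrix.det_fin_two_of]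
  linear_combination (r - 1) * hr + (0) * h3

theorem det_c0 : (!![-r, -r + 1; -r - 1, -r] : Matrix (Fin 2) (Fin 2) F).det = 1 := by
  rw [Matrix.det_fin_two_of]
  ring

theorem ne_of_inv {x y : F} (h : x * y = 1) : x ≠ 0 := by
  rintro rfl
  rw [zero_mul] at h
  exact zero_ne_one h

/-- the independence of `1, r, r²` -/
theorem indep : (r ≠ 0 ∧ 1 + r ≠ 0 ∧ 1 + 2 * r ≠ 0) ∧ (r ^ 2 ≠ 0 ∧ 1 + r ^ 2 ≠ 0 ∧ 1 + 2 * r ^ 2 ≠ 0) ∧
    (r ^ 2 + r ≠ 0 ∧ 1 + (r ^ 2 + r) ≠ 0 ∧ 1 + 2 * (r ^ 2 + r) ≠ 0) ∧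
    (2 * r ^ 2 + r ≠ 0 ∧ 1 + (2 * r ^ 2 + r) ≠ 0 ∧ 1 + 2 * (2 * r ^ 2 + r) ≠ 0) := by
  refine ⟨⟨?_, ?_, ?_⟩, ⟨?_, ?_, ?_⟩, ⟨?_, ?_, ?_⟩, ⟨?_, ?_, ?_⟩⟩
  · refine ne_of_inv hr h3 (y := r ^ 2 + r + 1) ?_
    linear_combination (1) * hr + (-1) * h3
  · refine ne_of_inv hr h3 (y := -r ^ 2 - 1) ?_
    linear_combination (-1) * hr + (0) * h3
  · refine ne_of_inv hr h3 (y := -r ^ 2 + r) ?_
    linear_combination (-2) * hr + (r ^ 2 + r + 1) * h3
  · refine ne_of_inv hr h3 (y := r ^ 2 - r - 1) ?_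
    linear_combination (r - 2) * hr + (1) * h3
  · refine ne_of_inv hr h3 (y := -r - 1) ?_
    linear_combination (-1) * hr + (0) * h3
  · refine ne_of_inv hr h3 (y := -r ^ 2 - r + 1) ?_
    linear_combination (-2 * r) * hr + (r ^ 2 + r) * h3
  · refine ne_of_inv hr h3 (y := -r ^ 2 + r - 1) ?_
    linear_combination (-r + 1) * hr + (-1) * h3
  · refine ne_of_inv hr h3 (y := r) ?_
    linear_combination (1) * hr + (-1) * h3
  · refine ne_of_inv hr h3 (y := -r ^ 2 + 1) ?_
    linear_combination (-2 * r) * hr + (r ^ 2 + 2 * r) * h3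
  · refine ne_of_inv hr h3 (y := -r + 1) ?_
    linear_combination (-2) * hr + (r ^ 2 + r + 1) * h3
  · refine ne_of_inv hr h3 (y := -r ^ 2) ?_
    linear_combination (-2 * r + 1) * hr + (r - 1) * h3
  · refine ne_of_inv hr h3 (y := -r ^ 2 - r) ?_
    linear_combination (-4 * r - 2) * hr + (r ^ 2 + 3 * r + 1) * h3

end mats

section gen

variable {F : Type*} [Field F] [Fintype F] (hF : Fintype.card F = 27) {r : F} (hr : r ^ 3 + r ^ 2 + r + 2 = 0)

include hF hr

theorem closure_top : Subfield.closure ({-r ^ 2} : Set F) = ⊤ := by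
  classical
  have h3 := charThree hF
  set K : Subfield F := Subfield.closure ({-r ^ 2} : Set F) with hK
  have hm : -r ^ 2 ∈ K := Subfield.subset_closure rfl
  let _ : Fintype K := Fintype.ofFinite K
  have h1 : Fintype.card F = Fintype.card K ^ Module.finrank K F := Module.card_eq_pow_finrank
  rw [hF] at h1
  have h2 : (⟨-r ^ 2, hm⟩ : K) ^ Fintype.card K = ⟨-r ^ 2, hm⟩ := FiniteField.pow_card _
  have h4 : (-r ^ 2) ^ Fintype.card K = -r ^ 2 := congrArg Subtype.val h2
  have h5 : Fintype.card K = 3 ∨ Fintype.card K = 27 := by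
    have hn : Module.finrank K F ≤ 4 := by
      by_contra hcon
      have : 2 ^ 5 ≤ Fintype.card K ^ Module.finrank K F :=
        (Nat.pow_le_pow_left Fintype.one_lt_card 5).trans
          (Nat.pow_le_pow_right Fintype.card_pos (by omega))
      omega
    have hc : Fintype.card K ≤ 27 := by
      rw [← hF]
      exact Fintype.card_le_of_injective (fun x : K => (x : F)) Subtype.val_injective
    generalize Fintype.card K = a at *
    generalize Module.finrank K F = n at *
    interval_cases n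
    · exfalso
      rw [pow_zero] at h1
      omega
    · right
      rw [pow_one] at h1
      exact h1.symm
    · exfalso
      have : a ≤ 5 ∨ 6 ≤ a := by omega
      rcases this with h | h <;> nlinarith
    · left
      have : a ≤ 2 ∨ a = 3 ∨ 4 ≤ a := by omega
      rcases this with h | h | h
      · exfalso
        have := Nat.pow_le_pow_left h 3
        omega
      · exact h
      · exfalso
        have := Nat.pow_le_pow_left h 3
        omega
    · exfalso
      have : a ≤ 2 ∨ 3 ≤ a := by omega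
      rcases this with h | h
      · have := Nat.pow_le_pow_left h 4
        omega
      · have := Nat.pow_le_pow_left h 4
        omega
  rcases h5 with h5 | h5
  · exfalso
    rw [h5] at h4
    have : (1 : F) = 0 := by
      linear_combination (-r ^ 2 - r) * h4 - ((r ^ 5 - r ^ 3 - r ^ 2 + r + 1) * hr + (-r - 1) * h3)
    exact one_ne_zero this
  · rw [eq_top_iff]
    intro x _
    by_contra hx
    have h6 : Fintype.card K < Fintype.card F := by
      refine Fintype.card_lt_of_injective_of_notMem (fun x : K => (x : F)) Subtype.val_injective (b := x) ?_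
      rintro ⟨y, rfl⟩
      exact hx y.2
    omega

/-- the generation of `SL₂(27)` by a `(2,3,7)`-pair -/
theorem gen_top (H : Subgroup SL(2, F)) {z l : SL(2, F)}
    (hz : (z : Matrix (Fin 2) (Fin 2) F) = !![0, r; -r ^ 2 - r - 1, 0])
    (hl : (l : Matrix (Fin 2) (Fin 2) F) = !![1, 0; 1, 1]) (hzH : z ∈ H) (hlH : l ∈ H) : H = ⊤ := by
  have h3 := charThree hF
  have hind := (indep hr h3).2.1.1
  have h2 : (2 : F) ≠ 0 := by
    intro h
    have : (1 : F) = 0 := by linear_combination h3 - h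
    exact one_ne_zero this
  rcases Cfsg.Agent.S0801.result h2 (-r ^ 2) (neg_ne_zero.2 hind) (closure_top hF hr) with ⟨h, -⟩ | ⟨h, -⟩
  · rw [eq_top_iff, ← h, Subgroup.closure_le]
    rintro g (hg | hg)
    · have : g = l := Subtype.ext (hg.trans hl.symm)
      rw [this]; exact hlH
    · have : g = z * l * z⁻¹ := by
        rw [eq_mul_inv_iff_mul_eq]
        apply Subtype.ext
        rw [Matrix.SpecialLinearGroup.coe_mul, Matrix.SpecialLinearGroup.coe_mul, hg, hz, hl, mul_uz hr h3,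
          mul_c hr h3]
      rw [this]
      exact H.mul_mem (H.mul_mem hzH hlH) (H.inv_mem hzH)
  · rw [hF] at h
    norm_num at h

end gen


section rep

variable {G : Type*} [Group G] {k V : Type*} [Field k] [AddCommGroup V] [Module k V] (ρ : G →* End k V)

theorem rho_inv_apply (g : G) (v : V) : ρ g⁻¹ (ρ g v) = v := by
  have : ρ g⁻¹ * ρ g = 1 := by rw [← map_mul, inv_mul_cancel, map_one]
  exact LinearMap.congr_fun this v

theorem rho_apply_inv (g : G) (v : V) : ρ g (ρ g⁻¹ v) = v := by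
  have : ρ g * ρ g⁻¹ = 1 := by rw [← map_mul, mul_inv_cancel, map_one]
  exact LinearMap.congr_fun this v

theorem rho_mul_apply (g h : G) (v : V) : ρ (g * h) v = ρ g (ρ h v) := by
  rw [map_mul]; rfl

theorem fx_le [FiniteDimensional k V] (g h : G) : fx (ρ h) ≤ fx (ρ (g * h * g⁻¹)) := by
  let f : (ρ h - 1).ker →ₗ[k] (ρ (g * h * g⁻¹) - 1).ker :=
    LinearMap.codRestrict _ ((ρ g).domRestrict _) (fun x => by
      rw [mem_fx, LinearMap.domRestrict_apply, rho_mul_apply, rho_mul_apply, rho_inv_apply,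
        mem_fx.1 x.2])
  refine LinearMap.finrank_le_finrank_of_injective (f := f) ?_
  intro x y hxy
  apply Subtype.ext
  have h1 : ρ g x = ρ g y := congrArg Subtype.val hxy
  have h2 := congrArg (ρ g⁻¹) h1
  rwa [rho_inv_apply, rho_inv_apply] at h2

theorem fx_conj [FiniteDimensional k V] (g h : G) : fx (ρ (g * h * g⁻¹)) = fx (ρ h) := by
  refine le_antisymm ?_ (fx_le ρ g h)
  have := fx_le ρ g⁻¹ (g * h * g⁻¹)
  rwa [show g⁻¹ * (g * h * g⁻¹) * g⁻¹⁻¹ = h by group] at this

theorem fx_inv (g : G) : fx (ρ g⁻¹) = fx (ρ g) := by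
  unfold fx
  have : (ρ g⁻¹ - 1).ker = (ρ g - 1).ker := by
    ext v
    rw [mem_fx, mem_fx]
    constructor
    · intro h
      conv_lhs => rw [← h]
      rw [rho_apply_inv]
    · intro h
      conv_lhs => rw [← h]
      rw [rho_inv_apply]
  rw [this]

/-- Scott's lemma, for a pair without fixed vectors and cofixed vectors -/
theorem scott_bound [FiniteDimensional k V] {x y : G}
    (hF : ∀ v, ρ x v = v → ρ y v = v → v = 0)
    (hR : ∀ S : Submodule k V, (∀ v, ρ x v - v ∈ S) → (∀ v, ρ y v - v ∈ S) → S = ⊤) :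
    fx (ρ x) + fx (ρ y) + fx (ρ (x * y)) ≤ finrank k V := by
  have h1 : ρ x * ρ y * ρ (x * y)⁻¹ = 1 := by
    rw [← map_mul, ← map_mul, mul_inv_cancel, map_one]
  have h2 := Cfsg.Agent.H565.Scott.scott h1 (⊥ : Submodule k V) ⊤
    (fun v a b => by rw [Submodule.mem_bot]; exact hF v a b)
    (fun S a b => by rw [hR S a b])
  rw [finrank_top, finrank_bot, zero_add] at h2
  have h3 := rk_sub_one (ρ x)
  have h4 := rk_sub_one (ρ y)
  have h5 := rk_sub_one (ρ (x * y)⁻¹)
  rw [fx_inv] at h5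
  unfold rk at h3 h4 h5
  omega

end rep

section low

variable {F : Type*} [Field F]

/-- lower unitriangular matrices -/
def low (x : F) : SL(2, F) := ⟨!![1, 0; x, 1], by simp [Matrix.det_fin_two]⟩

theorem coe_low (x : F) : (low x : Matrix (Fin 2) (Fin 2) F) = !![1, 0; x, 1] := rfl

theorem low_add (x y : F) : low (x + y) = low x * low y := by
  apply Subtype.ext
  rw [Matrix.SpecialLinearGroup.coe_mul, coe_low, coe_low, coe_low, Matrix.mul_fin_two]
  refine mk4 ?_ ?_ ?_ ?_ <;> ring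

theorem low_zero : low (0 : F) = 1 := by
  apply Subtype.ext
  rw [Matrix.SpecialLinearGroup.coe_one, coe_low, Matrix.one_fin_two]

theorem low_neg (x : F) : low (-x) = (low x)⁻¹ := by
  rw [eq_inv_iff_mul_eq_one, ← low_add, neg_add_cancel, low_zero]

theorem low_cube (h3 : (3 : F) = 0) (x : F) : low x ^ 3 = 1 := by
  rw [pow_succ, pow_two, ← low_add, ← low_add, show x + x + x = 3 * x by ring, h3, zero_mul, low_zero]

theorem low_ne_one {x : F} (hx : x ≠ 0) : low x ≠ 1 := by
  intro h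
  have h1 := congrArg (fun g : SL(2, F) => (g : Matrix (Fin 2) (Fin 2) F) 1 0) h
  simp only [coe_low, Matrix.SpecialLinearGroup.coe_one] at h1
  exact hx (by simpa using h1)

/-- diagonal matrices -/
def dg (a : F) (ha : a ≠ 0) : SL(2, F) := ⟨!![a, 0; 0, a⁻¹], by simp [Matrix.det_fin_two, ha]⟩

theorem dg_conj {a : F} (ha : a ≠ 0) (x : F) : dg a ha * low (a ^ 2 * x) * (dg a ha)⁻¹ = low x := by
  rw [mul_inv_eq_iff_eq_mul]
  apply Subtype.ext
  rw [Matrix.SpecialLinearGroup.coe_mul, Matrix.SpecialLinearGroup.coe_mul, coe_low, coe_low]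
  show (!![a, 0; 0, a⁻¹] : Matrix (Fin 2) (Fin 2) F) * _ = _ * !![a, 0; 0, a⁻¹]
  rw [Matrix.mul_fin_two, Matrix.mul_fin_two]
  refine mk4 ?_ ?_ ?_ ?_ <;> field_simp <;> ring

end low

section main

variable {F : Type*} [Field F] [Fintype F] (hF : Fintype.card F = 27)
variable {k V : Type*} [Field k] [AddCommGroup V] [Module k V] [FiniteDimensional k V]
variable (h2 : (2 : k) = 0) (ρ : SL(2, F) →* End k V)

include hF in
theorem fx_low {x : F} (hx : x ≠ 0) : fx (ρ (low x)) = fx (ρ (low 1)) := by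
  have key : ∀ a : F, a ≠ 0 → fx (ρ (low (a ^ 2))) = fx (ρ (low 1)) := by
    intro a ha
    rw [← dg_conj ha 1, mul_one, fx_conj]
  have h3 : IsSquare x ∨ IsSquare (-x) := by
    classical
    by_cases h : IsSquare x
    · exact Or.inl h
    · right
      have h4 : ¬ IsSquare (-1 : F) := by
        rw [FiniteField.isSquare_neg_one_iff, hF]
        norm_num
      rw [← quadraticChar_one_iff_isSquare (neg_ne_zero.2 hx), neg_eq_neg_one_mul, map_mul,
        quadraticChar_neg_one_iff_not_isSquare.2 h4, quadraticChar_neg_one_iff_not_isSquare.2 h]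
      norm_num
  rcases h3 with ⟨a, ha⟩ | ⟨a, ha⟩
  · have ha0 : a ≠ 0 := by
      rintro rfl; exact hx (by rw [ha, mul_zero])
    rw [ha, ← pow_two, key a ha0]
  · have ha0 : a ≠ 0 := by
      rintro rfl; exact (neg_ne_zero.2 hx) (by rw [ha, mul_zero])
    rw [← fx_inv, ← low_neg, ha, ← pow_two, key a ha0]

/-- the action of the group algebra of the lower unitriangular group -/
noncomputable def th : MonoidAlgebra k (Multiplicative F) →ₐ[k] End k V :=
  MonoidAlgebra.lift k (End k V) (Multiplicative F)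
    { toFun := fun x => ρ (low (Multiplicative.toAdd x))
      map_one' := by
        show ρ (low 0) = 1
        rw [low_zero, map_one]
      map_mul' := fun x y => by
        show ρ (low (Multiplicative.toAdd x + Multiplicative.toAdd y)) = _
        rw [low_add, map_mul] }

/-- basis elements -/
noncomputable def tt (k : Type*) [Field k] (x : F) : MonoidAlgebra k (Multiplicative F) :=
  MonoidAlgebra.of k (Multiplicative F) (Multiplicative.ofAdd x)

theorem th_tt (x : F) : th ρ (tt k x) = ρ (low x) := by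
  unfold th tt
  rw [MonoidAlgebra.lift_of]
  rfl

theorem tt_add (x y : F) : tt k (x + y) = tt k x * tt k y := by
  unfold tt
  rw [ofAdd_add, map_mul]

theorem tt_cube (h3 : (3 : F) = 0) (x : F) : tt k x ^ 3 = 1 := by
  rw [pow_succ, pow_two, ← tt_add, ← tt_add, show x + x + x = 3 * x by ring, h3, zero_mul]
  unfold tt
  rw [ofAdd_zero, map_one]

theorem two_eq_zero (h2 : (2 : k) = 0) : (2 : MonoidAlgebra k (Multiplicative F)) = 0 := by
  have := map_ofNat (algebraMap k (MonoidAlgebra k (Multiplicative F))) 2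
  rw [h2, map_zero] at this
  exact this.symm

include hF h2 in
theorem rk_nm (x : F) (hx : x ≠ 0) : rk (th ρ (nm (tt k x))) = fx (ρ (low 1)) := by
  have h3 := charThree hF
  unfold nm
  rw [map_add, map_add, map_one, map_pow, th_tt, rk_three h2, fx_low hF ρ hx]
  rw [← map_pow, low_cube h3, map_one]

include hF h2 in
theorem rk_nm_two (x : F) (hx : x ≠ 0 ∧ 1 + x ≠ 0 ∧ 1 + 2 * x ≠ 0) :
    finrank k V + 3 * rk (th ρ (nm (tt k 1) * nm (tt k x))) = 4 * fx (ρ (low 1)) := by
  have h3 := charThree hF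
  have h := four_subgroups (two_eq_zero (F := F) h2) ((th ρ : _ →ₐ[k] End k V) : _ →+* End k V) (π := 1)
    (u := tt k 1) (v := tt k x) (one_mul 1) (tt_cube h3 1) (tt_cube h3 x)
  simp only [one_mul] at h
  rw [pow_two, ← tt_add, ← tt_add, ← tt_add, show (1 : F) + (x + x) = 1 + 2 * x by ring] at h
  simp only [RingHom.coe_coe] at h
  rw [rk_nm hF h2 ρ 1 one_ne_zero, rk_nm hF h2 ρ x hx.1, rk_nm hF h2 ρ _ hx.2.1, rk_nm hF h2 ρ _ hx.2.2, map_one] at h
  have h4 : rk (1 : End k V) = finrank k V := by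
    unfold rk
    have : (1 : End k V).range = ⊤ := LinearMap.range_id
    rw [this, finrank_top]
  omega

include hF h2 in
/-- **the elements of order 3 and the Sylow 3-subgroup** -/
theorem unip {r : F} (hr : r ^ 3 + r ^ 2 + r + 2 = 0) (hV : finrank k V = 78)
    (hd : fx (ρ (low 1)) = 46 ∨ fx (ρ (low 1)) = 36 ∨ fx (ρ (low 1)) = 30 ∨ fx (ρ (low 1)) = 28 ∨
      fx (ρ (low 1)) = 24) :
    fx (ρ (low 1)) = 24 ∧ th ρ (nm (tt k 1) * (nm (tt k r) * nm (tt k (r ^ 2)))) = 0 := by
  have h3 := charThree hF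
  obtain ⟨i1, i2, i3, i4⟩ := indep hr h3
  have a1 := rk_nm_two hF h2 ρ _ i1
  have a2 := rk_nm_two hF h2 ρ _ i2
  have a3 := rk_nm_two hF h2 ρ _ i3
  have a4 := rk_nm_two hF h2 ρ _ i4
  have h := four_subgroups (two_eq_zero (F := F) h2) ((th ρ : _ →ₐ[k] End k V) : _ →+* End k V)
    (π := nm (tt k 1)) (u := tt k r) (v := tt k (r ^ 2)) (nm_sq (two_eq_zero h2) (tt_cube h3 1)) (tt_cube h3 _)
    (tt_cube h3 _)
  rw [pow_two (tt k (r ^ 2)), ← tt_add, ← tt_add, ← tt_add, show r + (r ^ 2 + r ^ 2) = 2 * r ^ 2 + r by ring,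
    add_comm r (r ^ 2)] at h
  simp only [RingHom.coe_coe] at h
  rw [rk_nm hF h2 ρ 1 one_ne_zero] at h
  rw [hV] at a1 a2 a3 a4
  generalize rk (th ρ (nm (tt k 1) * nm (tt k r))) = b1 at *
  generalize rk (th ρ (nm (tt k 1) * nm (tt k (r ^ 2)))) = b2 at *
  generalize rk (th ρ (nm (tt k 1) * nm (tt k (r ^ 2 + r)))) = b3 at *
  generalize rk (th ρ (nm (tt k 1) * nm (tt k (2 * r ^ 2 + r)))) = b4 at *
  have key : fx (ρ (low 1)) = 24 ∧ rk (th ρ (nm (tt k 1) * (nm (tt k r) * nm (tt k (r ^ 2))))) = 0 := by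
    rcases hd with hd | hd | hd | hd | hd <;> rw [hd] at a1 a2 a3 a4 h ⊢ <;> omega
  exact ⟨key.1, eq_zero_of_rk key.2⟩

/-- `nm` acts as `1` on a fixed vector -/
theorem th_nm_apply (h2 : (2 : k) = 0) {x : F} {v : V} (hv : ρ (low x) v = v) : th ρ (nm (tt k x)) v = v := by
  unfold nm
  rw [map_add, map_add, map_one, map_pow, th_tt, LinearMap.add_apply, LinearMap.add_apply, pow_two,
    Module.End.mul_apply, hv, hv, Module.End.one_apply]
  have : v + v + v = v + (2 : k) • v := by rw [two_smul, add_assoc]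
  rw [this, h2, zero_smul, add_zero]

theorem th_nm_sub_mem (h2 : (2 : k) = 0) {S : Submodule k V} {x : F} (hS : ∀ v, ρ (low x) v - v ∈ S) (v : V) :
    th ρ (nm (tt k x)) v - v ∈ S := by
  unfold nm
  rw [map_add, map_add, map_one, map_pow, th_tt, LinearMap.add_apply, LinearMap.add_apply, pow_two,
    Module.End.mul_apply, Module.End.one_apply]
  have : v + ρ (low x) v + ρ (low x) (ρ (low x) v) - v =
      (ρ (low x) (ρ (low x) v) - ρ (low x) v) + (2 : k) • ρ (low x) v := by
    rw [two_smul]; abel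
  rw [this, h2, zero_smul, add_zero]
  exact hS _

include hF h2 in
/-- **`L₂(27)` has no 78-dimensional module with these fixed spaces** -/
theorem false_of (hρ : ρ (-1) = 1) {ζ : k} (hζ : IsPrimitiveRoot ζ 7) (hV : finrank k V = 78)
    (f2 : ∀ g : SL(2, F), g ^ 2 = -1 → fx (ρ g) = 56 ∨ fx (ρ g) = 46 ∨ fx (ρ g) = 40)
    (f3 : ∀ g : SL(2, F), g ^ 3 = 1 → g ≠ 1 → fx (ρ g) = 46 ∨ fx (ρ g) = 36 ∨ fx (ρ g) = 30 ∨ fx (ρ g) = 28 ∨
      fx (ρ g) = 24)
    (f7 : ∀ g : SL(2, F), g ^ 7 = 1 → g ≠ 1 → 18 ≤ fx (ρ g) ∨ (fx (ρ g) = 12 ∧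
      ∀ i, 0 < i → i < 7 → finrank k ((ρ g).eigenspace (ζ ^ i)) = 11)) : False := by
  obtain ⟨r, hr⟩ := exists_root hF
  have h3 := charThree hF
  obtain ⟨d24, hE⟩ := unip hF h2 ρ hr hV (f3 _ (low_cube h3 1) (low_ne_one one_ne_zero))
  let z : SL(2, F) := ⟨_, det_z hr h3⟩
  let h : SL(2, F) := ⟨_, det_h hr h3⟩
  let c0 : SL(2, F) := ⟨_, det_c0 hr h3⟩
  have hz : (z : Matrix (Fin 2) (Fin 2) F) = !![0, r; -r ^ 2 - r - 1, 0] := rfl
  have hh : (h : Matrix (Fin 2) (Fin 2) F) = !![r ^ 2 + 1, -1; r, r ^ 2 - 1] := rfl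
  have hc0 : (c0 : Matrix (Fin 2) (Fin 2) F) = !![-r, -r + 1; -r - 1, -r] := rfl
  let c : SL(2, F) := z * low 1
  have hc : (c : Matrix (Fin 2) (Fin 2) F) = !![r, r; -r ^ 2 - r - 1, 0] := by
    rw [Matrix.SpecialLinearGroup.coe_mul, hz, coe_low, mul_c hr h3]
  have zz : z ^ 2 = -1 := by
    apply Subtype.ext
    rw [pow_two, Matrix.SpecialLinearGroup.coe_mul, hz, mul_zz hr h3, Matrix.SpecialLinearGroup.coe_neg,
      Matrix.SpecialLinearGroup.coe_one, Matrix.one_fin_two]
    ext i j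
    fin_cases i <;> fin_cases j <;> simp
  have c7 : c ^ 7 = 1 := by
    have : c ^ 7 = (c * c) * (c * c) * ((c * c) * c) := by
      simp only [pow_succ, pow_zero, one_mul, mul_assoc]
    rw [this]
    apply Subtype.ext
    simp only [Matrix.SpecialLinearGroup.coe_mul, hc, Matrix.SpecialLinearGroup.coe_one]
    rw [mul_c2 hr h3, mul_c3 hr h3, mul_c4 hr h3, mul_c7 hr h3, Matrix.one_fin_two]
  have c_ne : c ≠ 1 := by
    intro h1
    have h4 := congrArg (fun g : SL(2, F) => (g : Matrix (Fin 2) (Fin 2) F) 1 1) h1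
    simp only [hc, Matrix.SpecialLinearGroup.coe_one] at h4
    simp at h4
  have hconj : h * c * h⁻¹ = c0 := by
    rw [mul_inv_eq_iff_eq_mul]
    apply Subtype.ext
    rw [Matrix.SpecialLinearGroup.coe_mul h c, Matrix.SpecialLinearGroup.coe_mul c0 h, hh, hc, hc0, mul_hc hr h3,
      mul_ch hr h3]
  have hcomm : z * c0 = c0 * z := by
    apply Subtype.ext
    rw [Matrix.SpecialLinearGroup.coe_mul z c0, Matrix.SpecialLinearGroup.coe_mul c0 z, hz, hc0, mul_zc0 hr h3,
      mul_c0z hr h3]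
  have c07 : c0 ^ 7 = 1 := by
    rw [← hconj, conj_pow, c7, mul_one, mul_inv_cancel]
  have c0_ne : c0 ≠ 1 := by
    rw [← hconj]
    intro h1
    rw [mul_inv_eq_one, mul_eq_left] at h1
    exact c_ne h1
  have hfc : fx (ρ c0) = fx (ρ c) := by rw [← hconj, fx_conj]
  -- Scott
  have hs := scott_bound ρ (x := z) (y := low 1) (fun v h4 h5 => ?_) (fun S h4 h5 => ?_)
  · rw [hV, d24] at hs
    change fx (ρ z) + 24 + fx (ρ c) ≤ 78 at hs
    have b2 := f2 z zz
    rcases f7 c0 c07 c0_ne with h7 | ⟨h7, h8⟩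
    · omega
    · have hzz : ρ z * ρ z = 1 := by rw [← map_mul, ← pow_two, zz, hρ]
      have hcc : ρ c0 ^ 7 = 1 := by rw [← map_pow, c07, map_one]
      have hzc : ρ z * ρ c0 = ρ c0 * ρ z := by rw [← map_mul, hcomm, map_mul]
      have h9 := rk_le_sum_seven h2 hzz hcc hzc hζ
      have h10 : (ρ c0).eigenspace (ζ ^ 0) = (ρ c0 - 1).ker := by
        ext v
        rw [Module.End.mem_eigenspace_iff, mem_fx, pow_zero, one_smul]
      rw [Finset.sum_range_succ', h10] at h9
      simp only [Finset.sum_range_succ, Finset.sum_range_zero, zero_add] at h9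
      rw [h8 1 (by norm_num) (by norm_num), h8 (1 + 1) (by norm_num) (by norm_num),
        h8 (2 + 1) (by norm_num) (by norm_num), h8 (3 + 1) (by norm_num) (by norm_num),
        h8 (4 + 1) (by norm_num) (by norm_num), h8 (5 + 1) (by norm_num) (by norm_num)] at h9
      have h11 := rk_sub_one (ρ z)
      unfold fx at h7
      rw [h7] at h9
      rw [hV] at h11
      have h12 : fx (ρ c) = 12 := by rw [← hfc]; exact h7
      omega
  · let H : Subgroup SL(2, F) :=
      { carrier := {g | ρ g v = v}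
        one_mem' := by
          show ρ 1 v = v
          rw [map_one]; rfl
        mul_mem' := fun {a b} ha hb => by
          show ρ (a * b) v = v
          rw [rho_mul_apply, show ρ b v = v from hb, show ρ a v = v from ha]
        inv_mem' := fun {a} ha => by
          show ρ a⁻¹ v = v
          conv_lhs => rw [← show ρ a v = v from ha]
          rw [rho_inv_apply] }
    have htop := gen_top hF hr H hz (coe_low 1) h4 h5
    have hfix : ∀ x, ρ (low x) v = v := fun x => by
      have : low x ∈ H := by rw [htop]; exact Subgroup.mem_top _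
      exact this
    have h6 := LinearMap.congr_fun hE v
    rw [map_mul, map_mul, Module.End.mul_apply, Module.End.mul_apply, th_nm_apply ρ h2 (hfix _),
      th_nm_apply ρ h2 (hfix _), th_nm_apply ρ h2 (hfix _)] at h6
    exact h6
  · let H : Subgroup SL(2, F) :=
      { carrier := {g | ∀ v, ρ g v - v ∈ S}
        one_mem' := fun v => by
          rw [map_one, Module.End.one_apply, sub_self]; exact S.zero_mem
        mul_mem' := fun {a b} ha hb v => by
          have : ρ (a * b) v - v = (ρ a (ρ b v) - ρ b v) + (ρ b v - v) := by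
            rw [rho_mul_apply]; abel
          rw [this]
          exact S.add_mem (ha _) (hb _)
        inv_mem' := fun {a} ha v => by
          have := ha (ρ a⁻¹ v)
          rw [rho_apply_inv] at this
          rw [← neg_sub]
          exact S.neg_mem this }
    have htop := gen_top hF hr H hz (coe_low 1) h4 h5
    have hfix : ∀ x, ∀ v, ρ (low x) v - v ∈ S := fun x => by
      have : low x ∈ H := by rw [htop]; exact Subgroup.mem_top _
      exact this
    rw [eq_top_iff]
    intro v _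
    have h6 := LinearMap.congr_fun hE v
    rw [map_mul, map_mul, Module.End.mul_apply, Module.End.mul_apply, LinearMap.zero_apply] at h6
    set v1 := th ρ (nm (tt k (r ^ 2))) v with hv1
    set v2 := th ρ (nm (tt k r)) v1 with hv2
    have s1 : v1 - v ∈ S := th_nm_sub_mem ρ h2 (hfix _) v
    have s2 : v2 - v1 ∈ S := th_nm_sub_mem ρ h2 (hfix _) v1
    have s3 : th ρ (nm (tt k 1)) v2 - v2 ∈ S := th_nm_sub_mem ρ h2 (hfix _) v2
    rw [h6, zero_sub] at s3
    have : v = -((v1 - v) + (v2 - v1) + -v2) := by abel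
    rw [this]
    exact S.neg_mem (S.add_mem (S.add_mem s1 s2) s3)

end main

end Cfsg.Agent.H898.TSL27
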