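import Mathlib
import Cfsg.Agent.H898.TSRank

/-!
# Multiplicities of eigenvalues from the characteristic polynomial (helper898)

`A ^ N = 1`, `N` invertible, `charpoly A * (X - 1) ^ b = (X - 1) ^ a * (X ^ N - 1) ^ b`: over every extension field the
fixed space has dimension `a`, and the eigenspaces for the other `N`-th roots of unity have dimension `b`.
-/

set_option autoImplicit false

namespace Cfsg.Agent.H898.TSMult

open Module Polynomial Cfsg.Agent.H898.TSRank

variable {k V : Type*} [Field k] [AddCommGroup V] [Module k V] [FiniteDimensional k V]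

theorem finrank_eigenspace {E : End k V} {N : ℕ} (hN : (N : k) ≠ 0) (hE : E ^ N = 1) (μ : k) :
    finrank k (E.eigenspace μ) = E.charpoly.rootMultiplicity μ := by
  have hsep : (X ^ N - 1 : k[X]).Separable := (X_pow_sub_one_separable_iff).2 hN
  have hss : E.IsSemisimple := by
    refine End.isSemisimple_of_squarefree_aeval_eq_zero hsep.squarefree ?_
    rw [map_sub, map_pow, aeval_X, map_one, hE, sub_self]
  have h1 : E.maxGenEigenspace μ = E.eigenspace μ :=
    ((End.isFinitelySemisimple_iff_isSemisimple).2 hss).maxGenEigenspace_eq_eigenspace μ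
  rw [← h1, LinearMap.finrank_maxGenEigenspace_eq]

theorem mult_of {P : k[X]} (hP : P ≠ 0) {N a b : ℕ} (hN : (N : k) ≠ 0)
    (h : P * (X - 1) ^ b = (X - 1) ^ a * (X ^ N - 1) ^ b) :
    P.rootMultiplicity 1 = a ∧ ∀ ζ : k, ζ ^ N = 1 → ζ ≠ 1 → P.rootMultiplicity ζ = b := by
  classical
  have hN0 : N ≠ 0 := by
    rintro rfl
    exact hN Nat.cast_zero
  have hX : (X - 1 : k[X]) ≠ 0 := X_sub_C_ne_zero 1
  have hXN : (X ^ N - 1 : k[X]) ≠ 0 := by
    have := X_pow_sub_C_ne_zero (Nat.pos_of_ne_zero hN0) (1 : k)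
    rwa [C_1] at this
  have hsep : (X ^ N - 1 : k[X]).Separable := (X_pow_sub_one_separable_iff).2 hN
  have hr := congrArg roots h
  rw [roots_mul (mul_ne_zero hP (pow_ne_zero _ hX)), roots_mul (mul_ne_zero (pow_ne_zero _ hX) (pow_ne_zero _ hXN)),
    roots_pow, roots_pow, roots_pow] at hr
  have hr1 : (X - 1 : k[X]).roots = {1} := by
    have := roots_X_sub_C (1 : k)
    rwa [C_1] at this
  rw [hr1] at hr
  have hroot : ∀ ζ : k, ζ ^ N = 1 → (X ^ N - 1 : k[X]).roots.count ζ = 1 := by
    intro ζ hζ
    apply le_antisymm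
    · rw [count_roots]
      exact rootMultiplicity_le_one_of_separable hsep ζ
    · rw [Nat.one_le_iff_ne_zero, ← Nat.pos_iff_ne_zero, Multiset.count_pos, mem_roots hXN, IsRoot.def, eval_sub,
        eval_pow, eval_X, eval_one, hζ, sub_self]
  constructor
  · have h1 := congrArg (Multiset.count 1) hr
    rw [Multiset.count_add, Multiset.count_add, Multiset.count_nsmul, Multiset.count_nsmul, Multiset.count_nsmul,
      Multiset.count_singleton_self, hroot 1 (one_pow N), count_roots] at h1
    omega
  · intro ζ hζ hne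
    have h1 := congrArg (Multiset.count ζ) hr
    rw [Multiset.count_add, Multiset.count_add, Multiset.count_nsmul, Multiset.count_nsmul, Multiset.count_nsmul,
      Multiset.count_singleton, if_neg hne, hroot ζ hζ, count_roots] at h1
    omega

/-- **Multiplicities.** -/
theorem finrank_of {ι K : Type*} [Fintype ι] [DecidableEq ι] [Field K] (f : K →+* k) {A : Matrix ι ι K} {N a b : ℕ}
    (hN : (N : k) ≠ 0) (hA : A ^ N = 1) (h : A.charpoly * (X - 1) ^ b = (X - 1) ^ a * (X ^ N - 1) ^ b) :
    fx (Matrix.toLin' (A.map f)) = a ∧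
      ∀ ζ : k, ζ ^ N = 1 → ζ ≠ 1 → finrank k (End.eigenspace (Matrix.toLin' (A.map f)) ζ) = b := by
  have hE : (Matrix.toLin' (A.map f)) ^ N = 1 := by
    rw [← Matrix.toLin'_pow]
    have h1 : (A.map f) ^ N = 1 := by
      have := congrArg f.mapMatrix hA
      rwa [map_pow, map_one] at this
    rw [h1, Matrix.toLin'_one]
    rfl
  have hc : (Matrix.toLin' (A.map f)).charpoly = (A.map f).charpoly := by
    rw [← LinearMap.charpoly_toMatrix (Matrix.toLin' (A.map f)) (Pi.basisFun k ι), LinearMap.toMatrix_eq_toMatrix',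
      LinearMap.toMatrix'_toLin']
  have h2 : (A.map f).charpoly * (X - 1) ^ b = (X - 1) ^ a * (X ^ N - 1) ^ b := by
    rw [Matrix.charpoly_map]
    have := congrArg (Polynomial.map f) h
    simpa only [Polynomial.map_mul, Polynomial.map_pow, Polynomial.map_sub, Polynomial.map_X, Polynomial.map_one]
      using this
  obtain ⟨h3, h4⟩ := mult_of (Matrix.charpoly_monic _).ne_zero hN h2
  refine ⟨?_, fun ζ hζ hne => ?_⟩
  · have h5 := finrank_eigenspace hN hE 1
    rw [hc, h3] at h5
    rw [← h5]
    unfold fx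
    have h6 : End.eigenspace (Matrix.toLin' (A.map f)) 1 = (Matrix.toLin' (A.map f) - 1).ker := by
      ext v
      rw [End.mem_eigenspace_iff, mem_fx, one_smul]
    rw [h6]
  · rw [finrank_eigenspace hN hE, hc, h4 ζ hζ hne]

end Cfsg.Agent.H898.TSMult
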