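import Mathlib
import Cfsg.Agent.H898.TSL27
import Cfsg.Agent.H898.TSMult
import Cfsg.Agent.H898.TSInv
import Cfsg.Agent.H944.TS.Iface
import Cfsg.Agent.H944.TS.EigMain

/-!
# `L₂(27)` is not a subgroup of `²E₆(2)` (S5741, task 992; helper898)
-/

set_option autoImplicit false

namespace Cfsg.Agent.H898.TSNotL27

open Cfsg Cfsg.Lie Cfsg.Agent.OrdDiv Cfsg.Agent.H944.TS Cfsg.Agent.H898.TSRank Module
open scoped MatrixGroups

universe u

/-- elements of the centre of `SL₂` -/
theorem sq_of_center {F : Type*} [Field F] {g : SL(2, F)} (hg : g ∈ Subgroup.center SL(2, F)) : g ^ 2 = 1 := by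
  rw [Matrix.SpecialLinearGroup.mem_center_iff] at hg
  obtain ⟨r, hr, h⟩ := hg
  rw [Fintype.card_fin] at hr
  apply Subtype.ext
  rw [Matrix.SpecialLinearGroup.coe_pow, ← h, ← map_pow, hr, map_one]
  rfl

theorem charTwo {K : Type*} [Field K] [Fintype K] (hK : Fintype.card K = 4) : CharP K 2 := by
  obtain ⟨p, hp⟩ := CharP.exists K
  have hp2 : p ∣ 2 ^ 2 := by
    have h0 := FiniteField.cast_card_eq_zero K
    rw [hK] at h0
    exact (CharP.cast_eq_zero_iff K p (2 ^ 2)).1 (by exact_mod_cast h0)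
  have hpp : p.Prime := (CharP.char_is_prime_or_zero K p).resolve_right (CharP.char_ne_zero_of_finite K p)
  have : p = 2 := (Nat.prime_dvd_prime_iff_eq hpp Nat.prime_two).1 (hpp.dvd_of_dvd_pow hp2)
  rwa [this] at hp

section rho

variable {K : Type u} [Field K] {ι G : Type*} [Fintype ι] [DecidableEq ι] [Group G] {k : Type*} [Field k] (f : K →+* k)
  (ψ : G →* GL ι K)

/-- the representation over an extension field -/
noncomputable def rep : G →* End k (ι → k) :=
  ((Matrix.toLinAlgEquiv' : Matrix ι ι k ≃ₐ[k] End k (ι → k)) : Matrix ι ι k →* End k (ι → k)).comp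
    ((f.mapMatrix : Matrix ι ι K →+* Matrix ι ι k).toMonoidHom.comp ((Units.coeHom _).comp ψ))

theorem rep_apply (g : G) : rep f ψ g = Matrix.toLin' ((ψ g : Matrix ι ι K).map f) := rfl

theorem rk_rep (g : G) : rk (rep f ψ g - 1) = (((ψ g : Matrix ι ι K)).map f - 1).rank := by
  rw [rep_apply]
  unfold rk
  have : Matrix.toLin' ((ψ g : Matrix ι ι K).map f) - 1 = Matrix.toLin' ((ψ g : Matrix ι ι K).map f - 1) := by
    rw [map_sub, Matrix.toLin'_one]
    rfl
  rw [this, Matrix.rank, Matrix.toLin'_apply']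

end rho

open Polynomial in
/-- multiplicities in the representation -/
theorem fx_of {K : Type u} [Field K] {G : Type*} [Group G] {k : Type*} [Field k] (h2k : (2 : k) = 0) (f : K →+* k)
    {ι : Type} [Fintype ι] [DecidableEq ι]
    (φ : G →* GL ι K) {N a b : ℕ} (hN : N % 2 = 1) {g : G} (hg : g ^ N = 1)
    (h : Eig.CP ((φ g : GL ι K) : Matrix ι ι K) N a b) :
    fx (rep f φ g) = a ∧ ∀ ζ : k, ζ ^ N = 1 → ζ ≠ 1 → finrank k ((rep f φ g).eigenspace ζ) = b := by
  have h1 : ((φ g : GL ι K) : Matrix ι ι K) ^ N = 1 := by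
    rw [← Units.val_pow_eq_pow_val, ← map_pow, hg, map_one, Units.val_one]
  have h3 : ((N : ℕ) : k) ≠ 0 := by
    intro h0
    obtain ⟨m, hm⟩ : ∃ m, N = 2 * m + 1 := ⟨N / 2, by omega⟩
    rw [hm] at h0
    push_cast at h0
    rw [h2k, zero_mul, zero_add] at h0
    exact one_ne_zero h0
  have h4 : ((φ g : GL ι K) : Matrix ι ι K).charpoly * (X - 1) ^ b =
    (X - 1) ^ a * (X ^ N - 1) ^ b := h
  exact Cfsg.Agent.H898.TSMult.finrank_of f h3 h1 h4

/-- **`L₂(27)` is not a subgroup of `²E₆(2)`.** -/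
theorem not_L27 {K : Type u} [Field K] [Fintype K] (hK : Fintype.card K = 4) : NotE K (.psl 2 27) := by
  classical
  rintro L ⟨F, iF, iF', hF, ⟨e⟩⟩
  have hch : CharP K 2 := charTwo hK
  set k := AlgebraicClosure K with hk
  let f : K →+* k := algebraMap K k
  have hkch : CharP k 2 := charP_of_injective_algebraMap f.injective 2
  have h2k : (2 : k) = 0 := by
    have := CharP.cast_eq_zero k 2
    exact_mod_cast this
  have h3 := Cfsg.Agent.H898.TSL27.charThree hF
  let π : SL(2, F) →* Matrix.ProjectiveSpecialLinearGroup (Fin 2) F :=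
    QuotientGroup.mk' (Subgroup.center SL(2, F))
  let ψ : SL(2, F) →* ↥(twistedE6 K 2) := L.subtype.comp (e.symm.toMonoidHom.comp π)
  have hψ : ∀ g, ψ g = 1 → g ∈ Subgroup.center SL(2, F) := by
    intro g hg
    have h4 : e.symm (π g) = 1 := Subtype.ext hg
    rw [MulEquiv.map_eq_one_iff] at h4
    exact (QuotientGroup.eq_one_iff g).1 h4
  have hψ' : ∀ g, g ∈ Subgroup.center SL(2, F) → ψ g = 1 := by
    intro g hg
    show ((e.symm (π g) : ↥L) : ↥(twistedE6 K 2)) = 1
    have : π g = 1 := (QuotientGroup.eq_one_iff g).2 hg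
    rw [this, map_one]
    rfl
  let φ : SL(2, F) →* GL chevE6.Idx K := (twistedE6 K 2).subtype.comp ψ
  have hone : (-1 : SL(2, F)) ∈ Subgroup.center SL(2, F) := by
    rw [Subgroup.mem_center_iff]
    intro g
    rw [mul_neg, neg_mul, mul_one, one_mul]
  have hneg : (1 : SL(2, F)) ≠ -1 := by
    intro h
    have h4 := congrArg (fun g : SL(2, F) => (g : Matrix (Fin 2) (Fin 2) F) 0 0) h
    simp only [Matrix.SpecialLinearGroup.coe_neg, Matrix.SpecialLinearGroup.coe_one, Matrix.neg_apply,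
      Matrix.one_apply_eq] at h4
    have : (1 : F) = 0 := by linear_combination h3 - h4
    exact one_ne_zero this
  -- the orders
  have hord : ∀ N : ℕ, N.Prime → N ≠ 2 → ∀ g : SL(2, F), g ^ N = 1 → g ≠ 1 → orderOf (ψ g) = N := by
    intro N hN hN2 g hg hne
    have : Fact N.Prime := ⟨hN⟩
    apply orderOf_eq_prime
    · rw [← map_pow, hg, map_one]
    · intro h4
      have h5 := sq_of_center (hψ g h4)
      have h6 : orderOf g ∣ 2 := orderOf_dvd_of_pow_eq_one h5
      have h7 : orderOf g ∣ N := orderOf_dvd_of_pow_eq_one hg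
      have h8 : orderOf g ∣ Nat.gcd 2 N := Nat.dvd_gcd h6 h7
      rw [(Nat.coprime_primes Nat.prime_two hN).2 hN2.symm, Nat.dvd_one, orderOf_eq_one_iff] at h8
      exact hne h8
  have hord' : ∀ N : ℕ, N.Prime → N ≠ 2 → ∀ g : SL(2, F), g ^ N = 1 → g ≠ 1 → orderOf (φ g) = N := by
    intro N hN hN2 g hg hne
    rw [← hord N hN hN2 g hg hne]
    exact orderOf_injective (twistedE6 K 2).subtype (Subgroup.subtype_injective _) (ψ g)
  have : NeZero ((7 : ℕ) : k) := ⟨by
    intro h
    rw [CharP.cast_eq_zero_iff k 2] at h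
    omega⟩
  obtain ⟨ζ, hζ⟩ : ∃ ζ : k, IsPrimitiveRoot ζ 7 := HasEnoughRootsOfUnity.exists_primitiveRoot k 7
  have hcard : Fintype.card chevE6.Idx = 78 := by decide +kernel
  have hfr : finrank k (chevE6.Idx → k) = 78 := by rw [finrank_fintype_fun_eq_card, hcard]
  refine Cfsg.Agent.H898.TSL27.false_of hF h2k (rep f φ) ?_ hζ hfr ?_ ?_ ?_
  · have : φ (-1) = 1 := by
      show ((ψ (-1) : ↥(twistedE6 K 2)) : GL chevE6.Idx K) = 1
      rw [hψ' _ hone]
      rfl
    rw [rep_apply, this, Units.val_one]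
    have h4 : (1 : Matrix chevE6.Idx chevE6.Idx K).map f = 1 := map_one f.mapMatrix
    rw [h4, Matrix.toLin'_one]
    rfl
  · intro g hg
    have ht : orderOf (ψ g) = 2 := by
      have : Fact (Nat.Prime 2) := ⟨Nat.prime_two⟩
      apply orderOf_eq_prime
      · rw [← map_pow, hg, hψ' _ hone]
      · intro h4
        exact hneg ((sq_of_center (hψ g h4)).symm.trans hg)
    have h4 := rk_sub_one (rep f φ g)
    rw [rk_rep, hfr] at h4
    have h5 := Cfsg.Agent.H898.TSInv.rank_inv hK ht f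
    have h6 : (((φ g : GL chevE6.Idx K) : Matrix chevE6.Idx chevE6.Idx K).map f - 1).rank =
      ((((ψ g : ↥(twistedE6 K 2)) : GL chevE6.Idx K) : Matrix chevE6.Idx chevE6.Idx K).map f - 1).rank := rfl
    rw [← h6] at h5
    omega
  · intro g hg hne
    obtain ⟨ab, hab, hcp⟩ := Eig.cp3 hK (ψ g).2 (hord' 3 Nat.prime_three (by norm_num) g hg hne)
    have hcp' : Eig.CP ((φ g : GL chevE6.Idx K) : Matrix chevE6.Idx chevE6.Idx K) 3 ab.1 ab.2 := hcp
    rw [(fx_of h2k f φ (by norm_num) hg hcp').1]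
    simp only [List.mem_cons, List.not_mem_nil, or_false] at hab
    rcases hab with h | h | h | h | h <;> rw [h] <;> simp
  · intro g hg hne
    obtain ⟨ab, hab, hcp⟩ := Eig.cp7 hK (ψ g).2 (hord' 7 (by norm_num) (by norm_num) g hg hne)
    have hcp' : Eig.CP ((φ g : GL chevE6.Idx K) : Matrix chevE6.Idx chevE6.Idx K) 7 ab.1 ab.2 := hcp
    obtain ⟨h4, h5⟩ := fx_of h2k f φ (by norm_num) hg hcp'
    rw [h4]
    simp only [List.mem_cons, List.not_mem_nil, or_false] at hab
    rcases hab with h | h | h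
    · right
      rw [h] at h5 ⊢
      refine ⟨rfl, fun i h0 h7 => ?_⟩
      rw [h5 (ζ ^ i)]
      · rw [← pow_mul, mul_comm, pow_mul, hζ.pow_eq_one, one_pow]
      · intro h8
        rw [hζ.pow_eq_one_iff_dvd] at h8
        exact absurd (Nat.le_of_dvd h0 h8) (by omega)
    · left; rw [h]
    · left; rw [h]; norm_num

end Cfsg.Agent.H898.TSNotL27
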