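import Mathlib
import Cfsg.Agent.H423.SzEight
import Cfsg.Agent.H898.TSETwo

/-!
# `Sz(8)` on a 27-dimensional module in characteristic 2 (helper898)

The sum over a Sylow 2-subgroup is 0 on a module of dimension less than 64; the first and second coefficients of the
characteristic polynomial of `w * (sum)` give two relations between the first two coefficients of the characteristic
polynomials of the elements of `Sz(8)`: `false_core`.
-/

set_option autoImplicit false
set_option linter.unusedVariables false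
set_option linter.unusedSectionVars false
set_option linter.style.longLine false

namespace Cfsg.Agent.H898.TSSz

open scoped Matrix
open Cfsg.Agent.LieRecognition.SzMatrix Cfsg.Agent.H423.SzEight Cfsg.Agent.H898.TSETwo

/-! ### codes -/

/-- multiplication table of the field with 8 elements, `a ^ 3 = a + 1`, codes `c₀ + 2 c₁ + 4 c₂` -/
def T8 : ℕ := 2821848294356612419217921029917578219971947684264937521152

/-- multiplication of codes -/
def m8 (x y : ℕ) : ℕ := (T8 >>> (3 * (8 * x + y))) % 8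

section codes

variable {F : Type*} [Field F] {a : F}

/-- the element with a given code -/
def ev (a : F) (c : ℕ) : F := ([0, 1, a, a + 1, a ^ 2, a ^ 2 + 1, a ^ 2 + a, a ^ 2 + a + 1] : List F).getD c 0
theorem ev_mul (ha : a ^ 3 = a + 1) (h2 : (2 : F) = 0) : ∀ x < 8, ∀ y < 8, ev a (m8 x y) = ev a x * ev a y := by
  intro x hx y hy
  interval_cases x <;> interval_cases y
  · rw [show m8 0 0 = 0 from by decide]; show (0 : F) = (0) * (0); linear_combination (0) * ha + (0) * h2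
  · rw [show m8 0 1 = 0 from by decide]; show (0 : F) = (0) * (1); linear_combination (0) * ha + (0) * h2
  · rw [show m8 0 2 = 0 from by decide]; show (0 : F) = (0) * (a); linear_combination (0) * ha + (0) * h2
  · rw [show m8 0 3 = 0 from by decide]; show (0 : F) = (0) * (a + 1); linear_combination (0) * ha + (0) * h2
  · rw [show m8 0 4 = 0 from by decide]; show (0 : F) = (0) * (a ^ 2); linear_combination (0) * ha + (0) * h2
  · rw [show m8 0 5 = 0 from by decide]; show (0 : F) = (0) * (a ^ 2 + 1); linear_combination (0) * ha + (0) * h2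
  · rw [show m8 0 6 = 0 from by decide]; show (0 : F) = (0) * (a ^ 2 + a); linear_combination (0) * ha + (0) * h2
  · rw [show m8 0 7 = 0 from by decide]; show (0 : F) = (0) * (a ^ 2 + a + 1); linear_combination (0) * ha + (0) * h2
  · rw [show m8 1 0 = 0 from by decide]; show (0 : F) = (1) * (0); linear_combination (0) * ha + (0) * h2
  · rw [show m8 1 1 = 1 from by decide]; show (1 : F) = (1) * (1); linear_combination (0) * ha + (0) * h2
  · rw [show m8 1 2 = 2 from by decide]; show (a : F) = (1) * (a); linear_combination (0) * ha + (0) * h2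
  · rw [show m8 1 3 = 3 from by decide]; show (a + 1 : F) = (1) * (a + 1); linear_combination (0) * ha + (0) * h2
  · rw [show m8 1 4 = 4 from by decide]; show (a ^ 2 : F) = (1) * (a ^ 2); linear_combination (0) * ha + (0) * h2
  · rw [show m8 1 5 = 5 from by decide]; show (a ^ 2 + 1 : F) = (1) * (a ^ 2 + 1); linear_combination (0) * ha + (0) * h2
  · rw [show m8 1 6 = 6 from by decide]; show (a ^ 2 + a : F) = (1) * (a ^ 2 + a); linear_combination (0) * ha + (0) * h2
  · rw [show m8 1 7 = 7 from by decide]; show (a ^ 2 + a + 1 : F) = (1) * (a ^ 2 + a + 1); linear_combination (0) * ha + (0) * h2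
  · rw [show m8 2 0 = 0 from by decide]; show (0 : F) = (a) * (0); linear_combination (0) * ha + (0) * h2
  · rw [show m8 2 1 = 2 from by decide]; show (a : F) = (a) * (1); linear_combination (0) * ha + (0) * h2
  · rw [show m8 2 2 = 4 from by decide]; show (a ^ 2 : F) = (a) * (a); linear_combination (0) * ha + (0) * h2
  · rw [show m8 2 3 = 6 from by decide]; show (a ^ 2 + a : F) = (a) * (a + 1); linear_combination (0) * ha + (0) * h2
  · rw [show m8 2 4 = 3 from by decide]; show (a + 1 : F) = (a) * (a ^ 2); linear_combination (-1) * ha + (0) * h2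
  · rw [show m8 2 5 = 1 from by decide]; show (1 : F) = (a) * (a ^ 2 + 1); linear_combination (-1) * ha + (-a) * h2
  · rw [show m8 2 6 = 7 from by decide]; show (a ^ 2 + a + 1 : F) = (a) * (a ^ 2 + a); linear_combination (-1) * ha + (0) * h2
  · rw [show m8 2 7 = 5 from by decide]; show (a ^ 2 + 1 : F) = (a) * (a ^ 2 + a + 1); linear_combination (-1) * ha + (-a) * h2
  · rw [show m8 3 0 = 0 from by decide]; show (0 : F) = (a + 1) * (0); linear_combination (0) * ha + (0) * h2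
  · rw [show m8 3 1 = 3 from by decide]; show (a + 1 : F) = (a + 1) * (1); linear_combination (0) * ha + (0) * h2
  · rw [show m8 3 2 = 6 from by decide]; show (a ^ 2 + a : F) = (a + 1) * (a); linear_combination (0) * ha + (0) * h2
  · rw [show m8 3 3 = 5 from by decide]; show (a ^ 2 + 1 : F) = (a + 1) * (a + 1); linear_combination (0) * ha + (-a) * h2
  · rw [show m8 3 4 = 7 from by decide]; show (a ^ 2 + a + 1 : F) = (a + 1) * (a ^ 2); linear_combination (-1) * ha + (0) * h2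
  · rw [show m8 3 5 = 4 from by decide]; show (a ^ 2 : F) = (a + 1) * (a ^ 2 + 1); linear_combination (-1) * ha + (-a - 1) * h2
  · rw [show m8 3 6 = 1 from by decide]; show (1 : F) = (a + 1) * (a ^ 2 + a); linear_combination (-1) * ha + (-a ^ 2 - a) * h2
  · rw [show m8 3 7 = 2 from by decide]; show (a : F) = (a + 1) * (a ^ 2 + a + 1); linear_combination (-1) * ha + (-a ^ 2 - a - 1) * h2
  · rw [show m8 4 0 = 0 from by decide]; show (0 : F) = (a ^ 2) * (0); linear_combination (0) * ha + (0) * h2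
  · rw [show m8 4 1 = 4 from by decide]; show (a ^ 2 : F) = (a ^ 2) * (1); linear_combination (0) * ha + (0) * h2
  · rw [show m8 4 2 = 3 from by decide]; show (a + 1 : F) = (a ^ 2) * (a); linear_combination (-1) * ha + (0) * h2
  · rw [show m8 4 3 = 7 from by decide]; show (a ^ 2 + a + 1 : F) = (a ^ 2) * (a + 1); linear_combination (-1) * ha + (0) * h2
  · rw [show m8 4 4 = 6 from by decide]; show (a ^ 2 + a : F) = (a ^ 2) * (a ^ 2); linear_combination (-a) * ha + (0) * h2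
  · rw [show m8 4 5 = 2 from by decide]; show (a : F) = (a ^ 2) * (a ^ 2 + 1); linear_combination (-a) * ha + (-a ^ 2) * h2
  · rw [show m8 4 6 = 5 from by decide]; show (a ^ 2 + 1 : F) = (a ^ 2) * (a ^ 2 + a); linear_combination (-a - 1) * ha + (-a) * h2
  · rw [show m8 4 7 = 1 from by decide]; show (1 : F) = (a ^ 2) * (a ^ 2 + a + 1); linear_combination (-a - 1) * ha + (-a ^ 2 - a) * h2
  · rw [show m8 5 0 = 0 from by decide]; show (0 : F) = (a ^ 2 + 1) * (0); linear_combination (0) * ha + (0) * h2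
  · rw [show m8 5 1 = 5 from by decide]; show (a ^ 2 + 1 : F) = (a ^ 2 + 1) * (1); linear_combination (0) * ha + (0) * h2
  · rw [show m8 5 2 = 1 from by decide]; show (1 : F) = (a ^ 2 + 1) * (a); linear_combination (-1) * ha + (-a) * h2
  · rw [show m8 5 3 = 4 from by decide]; show (a ^ 2 : F) = (a ^ 2 + 1) * (a + 1); linear_combination (-1) * ha + (-a - 1) * h2
  · rw [show m8 5 4 = 2 from by decide]; show (a : F) = (a ^ 2 + 1) * (a ^ 2); linear_combination (-a) * ha + (-a ^ 2) * h2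
  · rw [show m8 5 5 = 7 from by decide]; show (a ^ 2 + a + 1 : F) = (a ^ 2 + 1) * (a ^ 2 + 1); linear_combination (-a) * ha + (-a ^ 2) * h2
  · rw [show m8 5 6 = 3 from by decide]; show (a + 1 : F) = (a ^ 2 + 1) * (a ^ 2 + a); linear_combination (-a - 1) * ha + (-a ^ 2 - a) * h2
  · rw [show m8 5 7 = 6 from by decide]; show (a ^ 2 + a : F) = (a ^ 2 + 1) * (a ^ 2 + a + 1); linear_combination (-a - 1) * ha + (-a ^ 2 - a - 1) * h2
  · rw [show m8 6 0 = 0 from by decide]; show (0 : F) = (a ^ 2 + a) * (0); linear_combination (0) * ha + (0) * h2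
  · rw [show m8 6 1 = 6 from by decide]; show (a ^ 2 + a : F) = (a ^ 2 + a) * (1); linear_combination (0) * ha + (0) * h2
  · rw [show m8 6 2 = 7 from by decide]; show (a ^ 2 + a + 1 : F) = (a ^ 2 + a) * (a); linear_combination (-1) * ha + (0) * h2
  · rw [show m8 6 3 = 1 from by decide]; show (1 : F) = (a ^ 2 + a) * (a + 1); linear_combination (-1) * ha + (-a ^ 2 - a) * h2
  · rw [show m8 6 4 = 5 from by decide]; show (a ^ 2 + 1 : F) = (a ^ 2 + a) * (a ^ 2); linear_combination (-a - 1) * ha + (-a) * h2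
  · rw [show m8 6 5 = 3 from by decide]; show (a + 1 : F) = (a ^ 2 + a) * (a ^ 2 + 1); linear_combination (-a - 1) * ha + (-a ^ 2 - a) * h2
  · rw [show m8 6 6 = 2 from by decide]; show (a : F) = (a ^ 2 + a) * (a ^ 2 + a); linear_combination (-a - 2) * ha + (-a ^ 2 - a - 1) * h2
  · rw [show m8 6 7 = 4 from by decide]; show (a ^ 2 : F) = (a ^ 2 + a) * (a ^ 2 + a + 1); linear_combination (-a - 2) * ha + (-a ^ 2 - 2 * a - 1) * h2
  · rw [show m8 7 0 = 0 from by decide]; show (0 : F) = (a ^ 2 + a + 1) * (0); linear_combination (0) * ha + (0) * h2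
  · rw [show m8 7 1 = 7 from by decide]; show (a ^ 2 + a + 1 : F) = (a ^ 2 + a + 1) * (1); linear_combination (0) * ha + (0) * h2
  · rw [show m8 7 2 = 5 from by decide]; show (a ^ 2 + 1 : F) = (a ^ 2 + a + 1) * (a); linear_combination (-1) * ha + (-a) * h2
  · rw [show m8 7 3 = 2 from by decide]; show (a : F) = (a ^ 2 + a + 1) * (a + 1); linear_combination (-1) * ha + (-a ^ 2 - a - 1) * h2
  · rw [show m8 7 4 = 1 from by decide]; show (1 : F) = (a ^ 2 + a + 1) * (a ^ 2); linear_combination (-a - 1) * ha + (-a ^ 2 - a) * h2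
  · rw [show m8 7 5 = 6 from by decide]; show (a ^ 2 + a : F) = (a ^ 2 + a + 1) * (a ^ 2 + 1); linear_combination (-a - 1) * ha + (-a ^ 2 - a - 1) * h2
  · rw [show m8 7 6 = 4 from by decide]; show (a ^ 2 : F) = (a ^ 2 + a + 1) * (a ^ 2 + a); linear_combination (-a - 2) * ha + (-a ^ 2 - 2 * a - 1) * h2
  · rw [show m8 7 7 = 3 from by decide]; show (a + 1 : F) = (a ^ 2 + a + 1) * (a ^ 2 + a + 1); linear_combination (-a - 2) * ha + (-2 * a ^ 2 - 2 * a - 1) * h2

theorem ev_add (h2 : (2 : F) = 0) : ∀ x < 8, ∀ y < 8, ev a (x ^^^ y) = ev a x + ev a y := by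
  intro x hx y hy
  interval_cases x <;> interval_cases y
  · rw [show (0 ^^^ 0 : ℕ) = 0 from by decide]; show (0 : F) = (0) + (0); linear_combination (0) * h2
  · rw [show (0 ^^^ 1 : ℕ) = 1 from by decide]; show (1 : F) = (0) + (1); linear_combination (0) * h2
  · rw [show (0 ^^^ 2 : ℕ) = 2 from by decide]; show (a : F) = (0) + (a); linear_combination (0) * h2
  · rw [show (0 ^^^ 3 : ℕ) = 3 from by decide]; show (a + 1 : F) = (0) + (a + 1); linear_combination (0) * h2
  · rw [show (0 ^^^ 4 : ℕ) = 4 from by decide]; show (a ^ 2 : F) = (0) + (a ^ 2); linear_combination (0) * h2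
  · rw [show (0 ^^^ 5 : ℕ) = 5 from by decide]; show (a ^ 2 + 1 : F) = (0) + (a ^ 2 + 1); linear_combination (0) * h2
  · rw [show (0 ^^^ 6 : ℕ) = 6 from by decide]; show (a ^ 2 + a : F) = (0) + (a ^ 2 + a); linear_combination (0) * h2
  · rw [show (0 ^^^ 7 : ℕ) = 7 from by decide]; show (a ^ 2 + a + 1 : F) = (0) + (a ^ 2 + a + 1); linear_combination (0) * h2
  · rw [show (1 ^^^ 0 : ℕ) = 1 from by decide]; show (1 : F) = (1) + (0); linear_combination (0) * h2
  · rw [show (1 ^^^ 1 : ℕ) = 0 from by decide]; show (0 : F) = (1) + (1); linear_combination (-1) * h2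
  · rw [show (1 ^^^ 2 : ℕ) = 3 from by decide]; show (a + 1 : F) = (1) + (a); linear_combination (0) * h2
  · rw [show (1 ^^^ 3 : ℕ) = 2 from by decide]; show (a : F) = (1) + (a + 1); linear_combination (-1) * h2
  · rw [show (1 ^^^ 4 : ℕ) = 5 from by decide]; show (a ^ 2 + 1 : F) = (1) + (a ^ 2); linear_combination (0) * h2
  · rw [show (1 ^^^ 5 : ℕ) = 4 from by decide]; show (a ^ 2 : F) = (1) + (a ^ 2 + 1); linear_combination (-1) * h2
  · rw [show (1 ^^^ 6 : ℕ) = 7 from by decide]; show (a ^ 2 + a + 1 : F) = (1) + (a ^ 2 + a); linear_combination (0) * h2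
  · rw [show (1 ^^^ 7 : ℕ) = 6 from by decide]; show (a ^ 2 + a : F) = (1) + (a ^ 2 + a + 1); linear_combination (-1) * h2
  · rw [show (2 ^^^ 0 : ℕ) = 2 from by decide]; show (a : F) = (a) + (0); linear_combination (0) * h2
  · rw [show (2 ^^^ 1 : ℕ) = 3 from by decide]; show (a + 1 : F) = (a) + (1); linear_combination (0) * h2
  · rw [show (2 ^^^ 2 : ℕ) = 0 from by decide]; show (0 : F) = (a) + (a); linear_combination (-a) * h2
  · rw [show (2 ^^^ 3 : ℕ) = 1 from by decide]; show (1 : F) = (a) + (a + 1); linear_combination (-a) * h2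
  · rw [show (2 ^^^ 4 : ℕ) = 6 from by decide]; show (a ^ 2 + a : F) = (a) + (a ^ 2); linear_combination (0) * h2
  · rw [show (2 ^^^ 5 : ℕ) = 7 from by decide]; show (a ^ 2 + a + 1 : F) = (a) + (a ^ 2 + 1); linear_combination (0) * h2
  · rw [show (2 ^^^ 6 : ℕ) = 4 from by decide]; show (a ^ 2 : F) = (a) + (a ^ 2 + a); linear_combination (-a) * h2
  · rw [show (2 ^^^ 7 : ℕ) = 5 from by decide]; show (a ^ 2 + 1 : F) = (a) + (a ^ 2 + a + 1); linear_combination (-a) * h2
  · rw [show (3 ^^^ 0 : ℕ) = 3 from by decide]; show (a + 1 : F) = (a + 1) + (0); linear_combination (0) * h2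
  · rw [show (3 ^^^ 1 : ℕ) = 2 from by decide]; show (a : F) = (a + 1) + (1); linear_combination (-1) * h2
  · rw [show (3 ^^^ 2 : ℕ) = 1 from by decide]; show (1 : F) = (a + 1) + (a); linear_combination (-a) * h2
  · rw [show (3 ^^^ 3 : ℕ) = 0 from by decide]; show (0 : F) = (a + 1) + (a + 1); linear_combination (-a - 1) * h2
  · rw [show (3 ^^^ 4 : ℕ) = 7 from by decide]; show (a ^ 2 + a + 1 : F) = (a + 1) + (a ^ 2); linear_combination (0) * h2
  · rw [show (3 ^^^ 5 : ℕ) = 6 from by decide]; show (a ^ 2 + a : F) = (a + 1) + (a ^ 2 + 1); linear_combination (-1) * h2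
  · rw [show (3 ^^^ 6 : ℕ) = 5 from by decide]; show (a ^ 2 + 1 : F) = (a + 1) + (a ^ 2 + a); linear_combination (-a) * h2
  · rw [show (3 ^^^ 7 : ℕ) = 4 from by decide]; show (a ^ 2 : F) = (a + 1) + (a ^ 2 + a + 1); linear_combination (-a - 1) * h2
  · rw [show (4 ^^^ 0 : ℕ) = 4 from by decide]; show (a ^ 2 : F) = (a ^ 2) + (0); linear_combination (0) * h2
  · rw [show (4 ^^^ 1 : ℕ) = 5 from by decide]; show (a ^ 2 + 1 : F) = (a ^ 2) + (1); linear_combination (0) * h2
  · rw [show (4 ^^^ 2 : ℕ) = 6 from by decide]; show (a ^ 2 + a : F) = (a ^ 2) + (a); linear_combination (0) * h2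
  · rw [show (4 ^^^ 3 : ℕ) = 7 from by decide]; show (a ^ 2 + a + 1 : F) = (a ^ 2) + (a + 1); linear_combination (0) * h2
  · rw [show (4 ^^^ 4 : ℕ) = 0 from by decide]; show (0 : F) = (a ^ 2) + (a ^ 2); linear_combination (-a ^ 2) * h2
  · rw [show (4 ^^^ 5 : ℕ) = 1 from by decide]; show (1 : F) = (a ^ 2) + (a ^ 2 + 1); linear_combination (-a ^ 2) * h2
  · rw [show (4 ^^^ 6 : ℕ) = 2 from by decide]; show (a : F) = (a ^ 2) + (a ^ 2 + a); linear_combination (-a ^ 2) * h2
  · rw [show (4 ^^^ 7 : ℕ) = 3 from by decide]; show (a + 1 : F) = (a ^ 2) + (a ^ 2 + a + 1); linear_combination (-a ^ 2) * h2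
  · rw [show (5 ^^^ 0 : ℕ) = 5 from by decide]; show (a ^ 2 + 1 : F) = (a ^ 2 + 1) + (0); linear_combination (0) * h2
  · rw [show (5 ^^^ 1 : ℕ) = 4 from by decide]; show (a ^ 2 : F) = (a ^ 2 + 1) + (1); linear_combination (-1) * h2
  · rw [show (5 ^^^ 2 : ℕ) = 7 from by decide]; show (a ^ 2 + a + 1 : F) = (a ^ 2 + 1) + (a); linear_combination (0) * h2
  · rw [show (5 ^^^ 3 : ℕ) = 6 from by decide]; show (a ^ 2 + a : F) = (a ^ 2 + 1) + (a + 1); linear_combination (-1) * h2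
  · rw [show (5 ^^^ 4 : ℕ) = 1 from by decide]; show (1 : F) = (a ^ 2 + 1) + (a ^ 2); linear_combination (-a ^ 2) * h2
  · rw [show (5 ^^^ 5 : ℕ) = 0 from by decide]; show (0 : F) = (a ^ 2 + 1) + (a ^ 2 + 1); linear_combination (-a ^ 2 - 1) * h2
  · rw [show (5 ^^^ 6 : ℕ) = 3 from by decide]; show (a + 1 : F) = (a ^ 2 + 1) + (a ^ 2 + a); linear_combination (-a ^ 2) * h2
  · rw [show (5 ^^^ 7 : ℕ) = 2 from by decide]; show (a : F) = (a ^ 2 + 1) + (a ^ 2 + a + 1); linear_combination (-a ^ 2 - 1) * h2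
  · rw [show (6 ^^^ 0 : ℕ) = 6 from by decide]; show (a ^ 2 + a : F) = (a ^ 2 + a) + (0); linear_combination (0) * h2
  · rw [show (6 ^^^ 1 : ℕ) = 7 from by decide]; show (a ^ 2 + a + 1 : F) = (a ^ 2 + a) + (1); linear_combination (0) * h2
  · rw [show (6 ^^^ 2 : ℕ) = 4 from by decide]; show (a ^ 2 : F) = (a ^ 2 + a) + (a); linear_combination (-a) * h2
  · rw [show (6 ^^^ 3 : ℕ) = 5 from by decide]; show (a ^ 2 + 1 : F) = (a ^ 2 + a) + (a + 1); linear_combination (-a) * h2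
  · rw [show (6 ^^^ 4 : ℕ) = 2 from by decide]; show (a : F) = (a ^ 2 + a) + (a ^ 2); linear_combination (-a ^ 2) * h2
  · rw [show (6 ^^^ 5 : ℕ) = 3 from by decide]; show (a + 1 : F) = (a ^ 2 + a) + (a ^ 2 + 1); linear_combination (-a ^ 2) * h2
  · rw [show (6 ^^^ 6 : ℕ) = 0 from by decide]; show (0 : F) = (a ^ 2 + a) + (a ^ 2 + a); linear_combination (-a ^ 2 - a) * h2
  · rw [show (6 ^^^ 7 : ℕ) = 1 from by decide]; show (1 : F) = (a ^ 2 + a) + (a ^ 2 + a + 1); linear_combination (-a ^ 2 - a) * h2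
  · rw [show (7 ^^^ 0 : ℕ) = 7 from by decide]; show (a ^ 2 + a + 1 : F) = (a ^ 2 + a + 1) + (0); linear_combination (0) * h2
  · rw [show (7 ^^^ 1 : ℕ) = 6 from by decide]; show (a ^ 2 + a : F) = (a ^ 2 + a + 1) + (1); linear_combination (-1) * h2
  · rw [show (7 ^^^ 2 : ℕ) = 5 from by decide]; show (a ^ 2 + 1 : F) = (a ^ 2 + a + 1) + (a); linear_combination (-a) * h2
  · rw [show (7 ^^^ 3 : ℕ) = 4 from by decide]; show (a ^ 2 : F) = (a ^ 2 + a + 1) + (a + 1); linear_combination (-a - 1) * h2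
  · rw [show (7 ^^^ 4 : ℕ) = 3 from by decide]; show (a + 1 : F) = (a ^ 2 + a + 1) + (a ^ 2); linear_combination (-a ^ 2) * h2
  · rw [show (7 ^^^ 5 : ℕ) = 2 from by decide]; show (a : F) = (a ^ 2 + a + 1) + (a ^ 2 + 1); linear_combination (-a ^ 2 - 1) * h2
  · rw [show (7 ^^^ 6 : ℕ) = 1 from by decide]; show (1 : F) = (a ^ 2 + a + 1) + (a ^ 2 + a); linear_combination (-a ^ 2 - a) * h2
  · rw [show (7 ^^^ 7 : ℕ) = 0 from by decide]; show (0 : F) = (a ^ 2 + a + 1) + (a ^ 2 + a + 1); linear_combination (-a ^ 2 - a - 1) * h2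

theorem m8_lt (x y : ℕ) : m8 x y < 8 := Nat.mod_lt _ (by norm_num)

theorem xor_lt {x y : ℕ} (hx : x < 8) (hy : y < 8) : x ^^^ y < 8 := Nat.xor_lt_two_pow (n := 3) hx hy

theorem ev_inj (ha : a ^ 3 = a + 1) (h2 : (2 : F) = 0) {x y : ℕ} (hx : x < 8) (hy : y < 8) (h : ev a x = ev a y) :
    x = y := by
  have key : ∀ c < 8, c ≠ 0 → ev a c ≠ 0 := by
    intro c hc h0 he
    have h1 : ∀ d < 8, d ≠ 0 → ∃ e, e < 8 ∧ m8 d e = 1 := by decide
    obtain ⟨e, he8, hm⟩ := h1 c hc h0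
    have h3 := ev_mul ha h2 c hc e he8
    rw [hm, he, zero_mul] at h3
    have h4 : (1 : F) = 0 := h3
    exact one_ne_zero h4
  by_contra hne
  refine key (x ^^^ y) (xor_lt hx hy) (fun h0 => hne (Nat.xor_eq_zero_iff.1 h0)) ?_
  rw [ev_add h2 x hx y hy, h]
  have : ev a y + ev a y = 2 * ev a y := by ring
  rw [this, h2, zero_mul]

/-- `x ^ 4` -/
def th8 (x : ℕ) : ℕ := m8 (m8 x x) (m8 x x)

/-- `b + a θ(a)` -/
def vv (p : ℕ × ℕ) : ℕ := p.2 ^^^ m8 p.1 (th8 p.1)

/-- `a b + a² θ(a) + θ(b)` -/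
def ww (p : ℕ × ℕ) : ℕ := m8 p.1 p.2 ^^^ (m8 (m8 p.1 p.1) (th8 p.1) ^^^ th8 p.2)

/-- the trace of `w u(a,b)` -/
def t1 (p : ℕ × ℕ) : ℕ := th8 p.1 ^^^ ww p

/-- the trace of `w u(a,b) w u(c,d)` -/
def t2 (p q : ℕ × ℕ) : ℕ :=
  m8 (th8 p.1) (th8 q.1) ^^^ (m8 (vv p) q.2 ^^^ (m8 (vv q) p.2 ^^^ m8 (ww p) (ww q)))

theorem th8_lt (x : ℕ) : th8 x < 8 := m8_lt _ _
theorem vv_lt {p : ℕ × ℕ} (h : p.2 < 8) : vv p < 8 := xor_lt h (m8_lt _ _)
theorem ww_lt (p : ℕ × ℕ) : ww p < 8 := xor_lt (m8_lt _ _) (xor_lt (m8_lt _ _) (th8_lt _))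
theorem t1_lt (p : ℕ × ℕ) : t1 p < 8 := xor_lt (th8_lt _) (ww_lt _)
theorem t2_lt (p q : ℕ × ℕ) : t2 p q < 8 :=
  xor_lt (m8_lt _ _) (xor_lt (m8_lt _ _) (xor_lt (m8_lt _ _) (m8_lt _ _)))

theorem ev_th8 [CharP F 2] (ha : a ^ 3 = a + 1) {x : ℕ} (hx : x < 8) : ev a (th8 x) = th F (ev a x) := by
  rw [th_apply, th8, ev_mul ha two_eq_zero _ (m8_lt _ _) _ (m8_lt _ _), ev_mul ha two_eq_zero _ hx _ hx]
  ring

theorem ev_vv [CharP F 2] (ha : a ^ 3 = a + 1) {p : ℕ × ℕ} (h1 : p.1 < 8) (h2 : p.2 < 8) :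
    ev a (vv p) = ev a p.2 + ev a p.1 * th F (ev a p.1) := by
  rw [vv, ev_add two_eq_zero _ h2 _ (m8_lt _ _), ev_mul ha two_eq_zero _ h1 _ (th8_lt _), ev_th8 ha h1]

theorem ev_ww [CharP F 2] (ha : a ^ 3 = a + 1) {p : ℕ × ℕ} (h1 : p.1 < 8) (h2 : p.2 < 8) :
    ev a (ww p) = ev a p.1 * ev a p.2 + ev a p.1 ^ 2 * th F (ev a p.1) + th F (ev a p.2) := by
  rw [ww, ev_add two_eq_zero _ (m8_lt _ _) _ (xor_lt (m8_lt _ _) (th8_lt _)),
    ev_add two_eq_zero _ (m8_lt _ _) _ (th8_lt _), ev_mul ha two_eq_zero _ h1 _ h2,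
    ev_mul ha two_eq_zero _ (m8_lt _ _) _ (th8_lt _), ev_mul ha two_eq_zero _ h1 _ h1, ev_th8 ha h1, ev_th8 ha h2]
  ring

theorem JU (θ : F →+* F) (x y : F) : J F * Umat θ x y =
    !![0, 0, 0, 1; 0, 0, 1, x; 0, 1, θ x, y + x * θ x; 1, x, y, x * y + x ^ 2 * θ x + θ y] := by
  ext i j
  fin_cases i <;> fin_cases j <;> simp [J, Umat, Matrix.mul_apply, Fin.sum_univ_four]

theorem trace_one [CharP F 2] (ha : a ^ 3 = a + 1) {p : ℕ × ℕ} (h1 : p.1 < 8) (h2 : p.2 < 8) :
    (J F * Umat (th F) (ev a p.1) (ev a p.2)).trace = ev a (t1 p) := by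
  rw [t1, ev_add two_eq_zero _ (th8_lt _) _ (ww_lt _), ev_ww ha h1 h2, ev_th8 ha h1, JU, Matrix.trace,
    Fin.sum_univ_four]
  simp

theorem trace_two [CharP F 2] (ha : a ^ 3 = a + 1) {p q : ℕ × ℕ} (h1 : p.1 < 8) (h2 : p.2 < 8) (h3 : q.1 < 8)
    (h4 : q.2 < 8) :
    ((J F * Umat (th F) (ev a p.1) (ev a p.2)) * (J F * Umat (th F) (ev a q.1) (ev a q.2))).trace = ev a (t2 p q) := by
  rw [t2, ev_add two_eq_zero _ (m8_lt _ _) _ (xor_lt (m8_lt _ _) (xor_lt (m8_lt _ _) (m8_lt _ _))),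
    ev_add two_eq_zero _ (m8_lt _ _) _ (xor_lt (m8_lt _ _) (m8_lt _ _)),
    ev_add two_eq_zero _ (m8_lt _ _) _ (m8_lt _ _), ev_mul ha two_eq_zero _ (th8_lt _) _ (th8_lt _),
    ev_mul ha two_eq_zero _ (vv_lt h2) _ h4, ev_mul ha two_eq_zero _ (vv_lt h4) _ h2,
    ev_mul ha two_eq_zero _ (ww_lt _) _ (ww_lt _), ev_ww ha h1 h2, ev_ww ha h3 h4, ev_vv ha h1 h2, ev_vv ha h3 h4,
    ev_th8 ha h1, ev_th8 ha h3, JU, JU, Matrix.trace, Fin.sum_univ_four]
  have h0 : (2 : F) = 0 := two_eq_zero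
  simp
  linear_combination (2 + ev a p.1 * ev a q.1) * h0

end codes

/-! ### the list of the 64 pairs -/

/-- the 64 pairs of codes -/
def PL : List (ℕ × ℕ) := (List.range 8).flatMap fun c => (List.range 8).map fun d => (c, d)

theorem mem_PL {p : ℕ × ℕ} (h : p ∈ PL) : p.1 < 8 ∧ p.2 < 8 := by
  unfold PL at h
  rw [List.mem_flatMap] at h
  obtain ⟨c, hc, h⟩ := h
  rw [List.mem_map] at h
  obtain ⟨d, hd, rfl⟩ := h
  exact ⟨List.mem_range.1 hc, List.mem_range.1 hd⟩

theorem sum_flat {M : Type*} [AddCommMonoid M] (f : ℕ × ℕ → M) (l2 : List ℕ) : ∀ l1 : List ℕ,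
    ((l1.flatMap fun c => l2.map fun d => (c, d)).map f).sum =
      (l1.map fun c => (l2.map fun d => f (c, d)).sum).sum
  | [] => rfl
  | c :: l1 => by
    rw [List.flatMap_cons, List.map_append, List.sum_append, sum_flat f l2 l1, List.map_cons, List.sum_cons,
      List.map_map]
    rfl

theorem sum_range8 {M : Type*} [AddCommMonoid M] (f : ℕ → M) :
    ((List.range 8).map f).sum = ∑ i ∈ Finset.range 8, f i := rfl

/-- the values of the trace -/
def tv (B c : ℕ) : ℕ := [1, 0, B, 1, B, 1, B, 1].getD c 0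

/-- the values of the second coefficient -/
def qv (c : ℕ) : ℕ := [1, 1, 1, 0, 1, 0, 1, 0].getD c 0

/-- the mixed terms -/
def nmix (B : ℕ) : List (ℕ × ℕ) → ℕ
  | [] => 0
  | p :: l => (l.map fun q => tv B (t1 p) * tv B (t1 q) + tv B (t2 p q)).sum + nmix B l

theorem check_one : (PL.map fun p => tv 1 (t1 p)).sum % 2 = 1 := by decide +kernel

theorem check_two : ((PL.map fun p => qv (t1 p)).sum + nmix 0 PL) % 2 = 1 := by decide +kernel

section group

variable {F : Type*} [Field F] [Fintype F] [CharP F 2] (h8 : ∀ x : F, x ^ 8 = x) {a : F} (ha : a ^ 3 = a + 1)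

include ha in
theorem sum_field (hF : Fintype.card F = 8) {M : Type*} [AddCommMonoid M] (f : F → M) :
    ∑ x : F, f x = ((List.range 8).map fun c => f (ev a c)).sum := by
  rw [sum_range8]
  symm
  have hinj : Set.InjOn (ev a) (Finset.range 8 : Finset ℕ) := fun x hx y hy h =>
    ev_inj ha two_eq_zero (by simpa using hx) (by simpa using hy) h
  refine Finset.sum_nbij (ev a) (fun _ _ => Finset.mem_univ _) hinj ?_ (fun _ _ => rfl)
  apply Finset.surjOn_of_injOn_of_card_le (ev a) (fun _ _ => Finset.mem_coe.2 (Finset.mem_univ _)) hinj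
  rw [Finset.card_univ, hF, Finset.card_range]

include ha in
theorem sum_pairs (hF : Fintype.card F = 8) {M : Type*} [AddCommMonoid M] (f : F → F → M) :
    ∑ p : F × F, f p.1 p.2 = (PL.map fun p => f (ev a p.1) (ev a p.2)).sum := by
  unfold PL
  rw [sum_flat, Fintype.sum_prod_type, sum_field ha hF]
  congr 1
  refine List.map_congr_left fun c _ => ?_
  exact sum_field ha hF _

/-- `w u(a,b)` -/
noncomputable def gg (a : F) (p : ℕ × ℕ) : ↥(Cfsg.Lie.Sz F 4) :=
  (good h8).w * (good h8).u (ev a p.1) (ev a p.2)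

theorem gg_val (p : ℕ × ℕ) : (gg h8 a p).1.1 = J F * Umat (th F) (ev a p.1) (ev a p.2) := rfl

include h8 in
/-- the orders and the traces -/
theorem cls (ha : a ^ 3 = a + 1) {g : ↥(Cfsg.Lie.Sz F 4)} {c : ℕ} (hc : c < 8) (hg : g.1.1.trace = ev a c) :
    (c = 0 → g ^ 4 = 1) ∧ (c ≠ 0 → g ≠ 1) ∧ (c = 1 → g ^ 5 = 1) ∧ (c = 2 ∨ c = 4 ∨ c = 6 → g ^ 7 = 1) ∧
      (c = 3 ∨ c = 5 ∨ c = 7 → g ^ 13 = 1) := by
  have h2 : (2 : F) = 0 := two_eq_zero
  refine ⟨?_, ?_, ?_, ?_, ?_⟩
  · rintro rfl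
    exact Subtype.ext (pow_zero_case h8 g.2 hg)
  · intro h0 h1
    rw [h1] at hg
    have h3 : (1 : Matrix (Fin 4) (Fin 4) F).trace = 0 := by
      rw [Matrix.trace_one]
      norm_num
      linear_combination 2 * h2
    have h4 : ev a c = ev a 0 := by
      rw [← hg]
      exact h3
    exact h0 (ev_inj ha h2 hc (by norm_num) h4)
  · rintro rfl
    exact Subtype.ext (pow_one_case h8 g.2 hg)
  · intro h
    refine Subtype.ext (pow_seven_case h8 g.2 ?_)
    rw [hg]
    rcases h with rfl | rfl | rfl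
    · exact ha
    · show (a ^ 2) ^ 3 = a ^ 2 + 1
      linear_combination (a ^ 3 + a + 1) * ha + (a) * h2
    · show (a ^ 2 + a) ^ 3 = a ^ 2 + a + 1
      linear_combination (a ^ 3 + 3 * a ^ 2 + 4 * a + 5) * ha + (3 * a ^ 2 + 4 * a + 2) * h2
  · intro h
    refine Subtype.ext (pow_thirteen_case h8 g.2 ?_)
    rw [hg]
    rcases h with rfl | rfl | rfl
    · show (a + 1) ^ 3 = (a + 1) ^ 2 + 1
      linear_combination (1) * ha + (a ^ 2 + a) * h2
    · show (a ^ 2 + 1) ^ 3 = (a ^ 2 + 1) ^ 2 + 1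
      linear_combination (a ^ 3 + 3 * a + 1) * ha + (2 * a ^ 2 + 2 * a) * h2
    · show (a ^ 2 + a + 1) ^ 3 = (a ^ 2 + a + 1) ^ 2 + 1
      linear_combination (a ^ 3 + 3 * a ^ 2 + 6 * a + 9) * ha + (6 * a ^ 2 + 8 * a + 4) * h2

variable {ι K : Type*} [Fintype ι] [DecidableEq ι] [Field K] [Finite K] [CharP K 2]
  (φ : ↥(Cfsg.Lie.Sz F 4) →* GL ι K)

/-- the values of the first two coefficients -/
structure Spec (B : ℕ) : Prop where
  four : ∀ g, g ^ 4 = 1 → (φ g).1.trace = 1 ∧ e2 (φ g).1 = 1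
  five : ∀ g, g ^ 5 = 1 → g ≠ 1 → (φ g).1.trace = 0 ∧ e2 (φ g).1 = 1
  seven : ∀ g, g ^ 7 = 1 → g ≠ 1 → (φ g).1.trace = (B : K) ∧ e2 (φ g).1 = 1
  thirteen : ∀ g, g ^ 13 = 1 → g ≠ 1 → (φ g).1.trace = 1 ∧ e2 (φ g).1 = 0

variable {φ} {B : ℕ} (H : Spec φ B)

include h8 H in
theorem val (ha : a ^ 3 = a + 1) {g : ↥(Cfsg.Lie.Sz F 4)} {c : ℕ} (hc : c < 8) (hg : g.1.1.trace = ev a c) :
    (φ g).1.trace = ((tv B c : ℕ) : K) ∧ e2 (φ g).1 = ((qv c : ℕ) : K) := by
  obtain ⟨k0, k1, k2, k3, k4⟩ := cls h8 ha hc hg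
  interval_cases c
  · have := H.four g (k0 rfl)
    simpa [tv, qv] using this
  · have := H.five g (k2 rfl) (k1 (by norm_num))
    simpa [tv, qv] using this
  · have := H.seven g (k3 (by norm_num)) (k1 (by norm_num))
    simpa [tv, qv] using this
  · have := H.thirteen g (k4 (by norm_num)) (k1 (by norm_num))
    simpa [tv, qv] using this
  · have := H.seven g (k3 (by norm_num)) (k1 (by norm_num))
    simpa [tv, qv] using this
  · have := H.thirteen g (k4 (by norm_num)) (k1 (by norm_num))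
    simpa [tv, qv] using this
  · have := H.seven g (k3 (by norm_num)) (k1 (by norm_num))
    simpa [tv, qv] using this
  · have := H.thirteen g (k4 (by norm_num)) (k1 (by norm_num))
    simpa [tv, qv] using this

/-- the matrices -/
noncomputable def AA (φ : ↥(Cfsg.Lie.Sz F 4) →* GL ι K) (a : F) (p : ℕ × ℕ) : Matrix ι ι K := (φ (gg h8 a p)).1

include H in
theorem AA_one (ha : a ^ 3 = a + 1) {p : ℕ × ℕ} (hp : p.1 < 8 ∧ p.2 < 8) :
    (AA h8 φ a p).trace = ((tv B (t1 p) : ℕ) : K) ∧ e2 (AA h8 φ a p) = ((qv (t1 p) : ℕ) : K) := by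
  refine val h8 H ha (t1_lt p) ?_
  rw [gg_val, trace_one ha hp.1 hp.2]

include H in
theorem AA_two (ha : a ^ 3 = a + 1) {p q : ℕ × ℕ} (hp : p.1 < 8 ∧ p.2 < 8) (hq : q.1 < 8 ∧ q.2 < 8) :
    (AA h8 φ a p * AA h8 φ a q).trace = ((tv B (t2 p q) : ℕ) : K) := by
  have h1 : AA h8 φ a p * AA h8 φ a q = (φ (gg h8 a p * gg h8 a q)).1 := by
    rw [map_mul]; rfl
  rw [h1]
  refine (val h8 H ha (t2_lt p q) ?_).1
  show ((gg h8 a p).1.1 * (gg h8 a q).1.1).trace = _
  rw [gg_val, gg_val, trace_two ha hp.1 hp.2 hq.1 hq.2]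

theorem neg_eq' (x : K) : -x = x := by
  have h2 : (2 : K) = 0 := by
    have := CharP.cast_eq_zero K 2
    exact_mod_cast this
  linear_combination (-x) * h2

include H in
theorem mix_eq (ha : a ^ 3 = a + 1) : ∀ l : List (ℕ × ℕ), (∀ p ∈ l, p.1 < 8 ∧ p.2 < 8) →
    mix (l.map (AA h8 φ a)) = ((nmix B l : ℕ) : K)
  | [], _ => by simp [mix, nmix]
  | p :: l, hl => by
    have hp := hl p (List.mem_cons_self ..)
    have hl' : ∀ q ∈ l, q.1 < 8 ∧ q.2 < 8 := fun q hq => hl q (List.mem_cons_of_mem _ hq)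
    rw [List.map_cons, mix, mix_eq ha l hl', nmix, Nat.cast_add, List.map_map]
    congr 1
    rw [Nat.cast_list_sum, List.map_map]
    congr 1
    refine List.map_congr_left fun q hq => ?_
    show (AA h8 φ a p).trace * (AA h8 φ a q).trace - (AA h8 φ a p * AA h8 φ a q).trace = _
    rw [(AA_one h8 H ha hp).1, (AA_one h8 H ha (hl' q hq)).1, AA_two h8 H ha hp (hl' q hq), sub_eq_add_neg, neg_eq']
    simp only [Function.comp_apply]
    push_cast
    ring

theorem sum_AA (hF : Fintype.card F = 8) (hι : Fintype.card ι < 64) (ha : a ^ 3 = a + 1) :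
    (PL.map (AA h8 φ a)).sum = 0 := by
  classical
  let _ : Fintype (good h8).unip := Fintype.ofFinite _
  have hcard : Fintype.card (good h8).unip = 64 := by
    rw [← Nat.card_eq_fintype_card, (good h8).card_unip, Nat.card_eq_fintype_card, hF]
    norm_num
  have hP : IsPGroup 2 (good h8).unip := IsPGroup.of_card (n := 6) (by
    rw [Nat.card_eq_fintype_card, hcard]; norm_num)
  have : Fact (Nat.Prime 2) := ⟨Nat.prime_two⟩
  let ρ : (good h8).unip →* Module.End K (ι → K) :=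
    ((Matrix.toLinAlgEquiv' : Matrix ι ι K ≃ₐ[K] Module.End K (ι → K)) : Matrix ι ι K →* Module.End K (ι → K)).comp
      ((Units.coeHom _).comp (φ.comp (good h8).unip.subtype))
  have h1 := sum_eq_zero hP ρ (by rw [Module.finrank_fintype_fun_eq_card, hcard]; exact hι)
  have h2 : ∑ g : (good h8).unip, (φ g.1).1 = 0 := by
    apply (Matrix.toLinAlgEquiv' : Matrix ι ι K ≃ₐ[K] Module.End K (ι → K)).injective
    rw [map_sum, map_zero, ← h1]
    rfl
  have h3 : ∑ g : (good h8).unip, (φ g.1).1 = (PL.map fun p => (φ ((good h8).u (ev a p.1) (ev a p.2))).1).sum := by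
    rw [← sum_pairs ha hF (fun x y => (φ ((good h8).u x y)).1)]
    exact (Equiv.sum_comp (good h8).unipEquiv (fun g : (good h8).unip => (φ g.1).1)).symm
  rw [h3] at h2
  have h4 : (PL.map (AA h8 φ a)).sum =
      (φ (good h8).w).1 * (PL.map fun p => (φ ((good h8).u (ev a p.1) (ev a p.2))).1).sum := by
    rw [← List.sum_map_mul_left]
    congr 1
    refine List.map_congr_left fun p _ => ?_
    show (φ ((good h8).w * (good h8).u (ev a p.1) (ev a p.2))).1 = _
    rw [map_mul]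
    rfl
  rw [h4, h2, mul_zero]

theorem cast_odd {n : ℕ} (h : n % 2 = 1) : (n : K) ≠ 0 := by
  rw [Ne, CharP.cast_eq_zero_iff K 2]
  omega

include h8 in
/-- **the contradiction** -/
theorem false_core (hF : Fintype.card F = 8) (hι : Fintype.card ι < 64) (ha : a ^ 3 = a + 1)
    (hB : B = 0 ∨ B = 1) (H : Spec φ B) : False := by
  have h0 := sum_AA h8 (φ := φ) hF hι ha
  rcases hB with rfl | rfl
  · have h1 := e2_list (PL.map (AA h8 φ a))
    rw [h0, e2_zero, mix_eq h8 H ha PL fun p hp => mem_PL hp, List.map_map] at h1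
    have h2 : (PL.map (e2 ∘ AA h8 φ a)).sum = (((PL.map fun p => qv (t1 p)).sum : ℕ) : K) := by
      rw [Nat.cast_list_sum, List.map_map]
      congr 1
      exact List.map_congr_left fun p hp => (AA_one h8 H ha (mem_PL hp)).2
    rw [h2, ← Nat.cast_add] at h1
    exact cast_odd check_two h1.symm
  · have h1 := congrArg Matrix.trace h0
    rw [Matrix.trace_zero] at h1
    have h2 : (PL.map (AA h8 φ a)).sum.trace = (((PL.map fun p => tv 1 (t1 p)).sum : ℕ) : K) := by
      have : ∀ l : List (Matrix ι ι K), l.sum.trace = (l.map Matrix.trace).sum := by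
        intro l
        induction l with
        | nil => simp
        | cons A l ih => rw [List.sum_cons, Matrix.trace_add, ih, List.map_cons, List.sum_cons]
      rw [this, Nat.cast_list_sum, List.map_map, List.map_map]
      congr 1
      exact List.map_congr_left fun p hp => (AA_one h8 H ha (mem_PL hp)).1
    rw [h2] at h1
    exact cast_odd check_one h1

end group

end Cfsg.Agent.H898.TSSz
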