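import Mathlib
import Cfsg.Agent.H422.SzEight
import Cfsg.Agent.S1163

/-!
# Lifts along surjections with coprime kernel; the elements of order 7 of `Sz(8)` (helper898)
-/

set_option autoImplicit false
set_option linter.unusedSectionVars false

namespace Cfsg.Agent.H898.TSSzGrp

open Cfsg.Agent.LieRecognition.SzMatrix Cfsg.Agent.H423.SzEight

/-- A homomorphism lifts along a surjection with a kernel of coprime order. -/
theorem exists_lift {A B G : Type*} [Group A] [Group B] [Group G] [Finite A] [Finite G] (π : A →* B)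
    (hπ : Function.Surjective π) (χ : G →* B) (hco : (Nat.card π.ker).Coprime (Nat.card G)) :
    ∃ φ : G →* A, ∀ g, π (φ g) = χ g := by
  let P : Subgroup (A × G) := (π.comp (MonoidHom.fst A G)).eqLocus (χ.comp (MonoidHom.snd A G))
  have hP : ∀ p : A × G, p ∈ P ↔ π p.1 = χ p.2 := fun p => Iff.rfl
  let p2 : ↥P →* G := (MonoidHom.snd A G).comp P.subtype
  have hp2 : Function.Surjective p2 := by
    intro g
    obtain ⟨a, ha⟩ := hπ (χ g)
    exact ⟨⟨(a, g), ha⟩, rfl⟩
  have hN : (Nat.card p2.ker).Coprime p2.ker.index := by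
    have h1 : p2.ker.index = Nat.card G := by
      rw [Subgroup.index_ker, MonoidHom.range_eq_top.2 hp2, Subgroup.card_top]
    rw [h1]
    let j : ↥p2.ker →* ↥π.ker := ((MonoidHom.fst A G).comp (P.subtype.comp p2.ker.subtype)).codRestrict π.ker (by
      intro x
      rw [MonoidHom.mem_ker]
      have h2 : π x.1.1.1 = χ x.1.1.2 := x.1.2
      have h3 : x.1.1.2 = 1 := x.2
      rw [h3, map_one] at h2
      exact h2)
    have hj : Function.Injective j := by
      intro x y hxy
      have h2 : x.1.1.1 = y.1.1.1 := congrArg Subtype.val hxy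
      have h3 : x.1.1.2 = 1 := x.2
      have h4 : y.1.1.2 = 1 := y.2
      apply Subtype.ext
      apply Subtype.ext
      exact Prod.ext h2 (h3.trans h4.symm)
    exact Nat.Coprime.coprime_dvd_left (Subgroup.card_dvd_of_injective j hj) hco
  obtain ⟨C, hC⟩ := Subgroup.exists_right_complement'_of_coprime hN
  let q : ↥C →* G := p2.comp C.subtype
  have hq : Function.Bijective q := by
    constructor
    · rw [injective_iff_map_eq_one]
      intro x hx
      have h1 : (x : ↥P) ∈ p2.ker ⊓ C := ⟨hx, x.2⟩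
      rw [hC.disjoint.eq_bot, Subgroup.mem_bot] at h1
      exact Subtype.ext h1
    · intro g
      obtain ⟨y, hy⟩ := hp2 g
      obtain ⟨⟨n, c⟩, h2⟩ := hC.2 y
      refine ⟨c, ?_⟩
      show p2 c = g
      have h3 : (n : ↥P) * (c : ↥P) = y := h2
      have h4 : p2 (n : ↥P) = 1 := n.2
      rw [← hy, ← h3, map_mul, h4, one_mul]
  let e : ↥C ≃* G := MulEquiv.ofBijective q hq
  refine ⟨(MonoidHom.fst A G).comp (P.subtype.comp (C.subtype.comp e.symm.toMonoidHom)), fun g => ?_⟩
  have h1 : ((e.symm g : ↥C) : ↥P) ∈ (⊤ : Subgroup ↥P) := trivial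
  have h2 : π ((e.symm g : ↥C) : ↥P).1.1 = χ ((e.symm g : ↥C) : ↥P).1.2 := ((e.symm g : ↥C) : ↥P).2
  have h3 : ((e.symm g : ↥C) : ↥P).1.2 = g := e.apply_symm_apply g
  rw [h3] at h2
  exact h2

/-! ### elements of order 7 -/

/-- In a finite group with `|G|` not divisible by `p²`, elements of order `p` have conjugate cyclic groups. -/
theorem exists_conj {G : Type*} [Group G] [Finite G] {p : ℕ} [hp : Fact p.Prime] (h : ¬ p ^ 2 ∣ Nat.card G)
    {x y : G} (hx : orderOf x = p) (hy : orderOf y = p) : ∃ (g : G) (j : ℕ), y = g * x ^ j * g⁻¹ := by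
  have hf : (Nat.card G).factorization p = 1 := by
    have h1 : p ∣ Nat.card G := hx ▸ orderOf_dvd_natCard x
    have h2 : 1 ≤ (Nat.card G).factorization p := (hp.out.dvd_iff_one_le_factorization Nat.card_pos.ne').1 h1
    have h3 : ¬ 2 ≤ (Nat.card G).factorization p := by
      intro h3
      exact h ((hp.out.pow_dvd_iff_le_factorization Nat.card_pos.ne').2 h3)
    omega
  let Sx : Sylow p G := Sylow.ofCard (Subgroup.zpowers x) (by rw [Nat.card_zpowers, hx, hf, pow_one])
  let Sy : Sylow p G := Sylow.ofCard (Subgroup.zpowers y) (by rw [Nat.card_zpowers, hy, hf, pow_one])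
  obtain ⟨g, hg⟩ := MulAction.exists_smul_eq G Sx Sy
  have h1 : y ∈ (Sy : Subgroup G) := Subgroup.mem_zpowers y
  rw [← hg] at h1
  obtain ⟨z, hz, hz2⟩ := h1
  have hz1 : z ∈ Subgroup.zpowers x := hz
  obtain ⟨j, hj⟩ := (mem_powers_iff_mem_zpowers (x := x)).2 hz1
  refine ⟨g, j, ?_⟩
  have h3 : x ^ j = z := hj
  rw [h3, ← hz2]
  rfl

section sz

variable {F : Type*} [Field F] [Fintype F] [CharP F 2] (h8 : ∀ x : F, x ^ 8 = x)

theorem card_sz (hF : Fintype.card F = 8) : Nat.card ↥(Cfsg.Lie.Sz F 4) = 2 ^ 6 * 455 := by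
  have h := (Cfsg.Agent.S1163.result (F := F) (m := 1) le_rfl (by rw [hF]; norm_num)).1
  have h1 : (2 : ℕ) ^ (1 + 1) = 4 := by norm_num
  rw [h1] at h
  rw [h]
  norm_num

include h8 in
/-- an element of order 7 inverted by an element of the group, all the elements of order 7 being conjugate to its powers -/
theorem exists_seven (hF : Fintype.card F = 8) : ∃ t w : ↥(Cfsg.Lie.Sz F 4), orderOf t = 7 ∧ w * t * w⁻¹ = t⁻¹ ∧
    ∀ y, orderOf y = 7 → ∃ (g : ↥(Cfsg.Lie.Sz F 4)) (j : ℕ), y = g * t ^ j * g⁻¹ := by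
  classical
  have h7 : Fact (Nat.Prime 7) := ⟨by norm_num⟩
  have H := good h8
  -- a unit different from 1
  obtain ⟨k, hk⟩ : ∃ k : Fˣ, k ≠ 1 := by
    by_contra hcon
    push Not at hcon
    have h1 : Fintype.card Fˣ = 7 := by rw [Fintype.card_units, hF]
    have h2 : Fintype.card Fˣ ≤ 1 := Fintype.card_le_one_iff.2 fun a b => by rw [hcon a, hcon b]
    omega
  have hk7 : k ^ 7 = 1 := by
    apply Units.ext
    have h1 := h8 (k : F)
    have h2 : (k : F) * (k : F) ^ 7 = (k : F) * 1 := by rw [← pow_succ', h1, mul_one]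
    rw [Units.val_pow_eq_pow_val, mul_left_cancel₀ k.ne_zero h2, Units.val_one]
  have hdpow : ∀ n : ℕ, (H.d k) ^ n = H.d (k ^ n) := by
    intro n
    induction n with
    | zero => rw [pow_zero, pow_zero, H.d_one]
    | succ n ih => rw [pow_succ, ih, H.d_mul, pow_succ]
  have ht : orderOf (H.d k) = 7 := by
    apply orderOf_eq_prime
    · rw [hdpow, hk7, H.d_one]
    · intro h
      apply hk
      have h1 : H.D k = H.D 1 := by
        have := congrArg Subtype.val h
        rw [H.D_one]
        exact this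
      exact H.D_inj h1
  refine ⟨H.d k, H.w, ht, ?_, fun y hy => exists_conj (p := 7) ?_ ht hy⟩
  · rw [H.w_mul_d, mul_inv_cancel_right, eq_inv_iff_mul_eq_one, H.d_mul, inv_mul_cancel, H.d_one]
  · rw [card_sz hF]
    norm_num

end sz

end Cfsg.Agent.H898.TSSzGrp
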