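import Mathlib
import Cfsg.Agent.ChevalleyStructure.E6Min.Adjoint
import Cfsg.Agent.H944.TS.EigTab

/-!
# The weights of the 27-dimensional module of `E₆`: tables (helper898)
-/

set_option autoImplicit false
set_option maxRecDepth 100000

namespace Cfsg.Agent.H898.TSVTab

open Cfsg.Lie Cfsg.Agent.ChevalleyStructure.CoxeterGeom Cfsg.Agent.ChevalleyStructure.CoxeterGeomTypes Cfsg.Agent.Nodes.RGDChev
open Cfsg.Agent.ChevalleyStructure.E6Min.Tables Cfsg.Agent.ChevalleyStructure.E6Min.Basic
  Cfsg.Agent.ChevalleyStructure.E6Min.Adjoint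
open Cfsg.Agent.H944.Tab Cfsg.Agent.H944.Kac Cfsg.Agent.H944.TS.Eig

/-- Three times the weights in terms of the simple roots, plus 455 (a multiple of 5, 7 and 13). -/
def WN : List (List ℕ) :=
  [[457, 455, 456, 455, 454, 453], [457, 455, 456, 455, 454, 456], [457, 455, 456, 455, 457, 456],
   [454, 455, 456, 455, 454, 453], [454, 455, 456, 455, 454, 456], [454, 455, 456, 455, 457, 456],
   [454, 455, 453, 455, 454, 453], [454, 455, 453, 455, 454, 456], [454, 455, 453, 455, 457, 456],
   [457, 458, 459, 461, 460, 459], [454, 452, 453, 452, 454, 456], [454, 455, 453, 452, 454, 456],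
   [457, 458, 459, 461, 460, 456], [454, 452, 453, 452, 454, 453], [454, 455, 453, 452, 454, 453],
   [457, 458, 459, 461, 457, 456], [454, 452, 453, 452, 451, 453], [454, 455, 453, 452, 451, 453],
   [451, 452, 450, 449, 451, 453], [454, 452, 450, 449, 451, 453], [454, 452, 453, 449, 451, 453],
   [454, 458, 456, 458, 457, 456], [457, 458, 456, 458, 457, 456], [457, 458, 459, 458, 457, 456],
   [454, 455, 456, 458, 457, 456], [457, 455, 456, 458, 457, 456], [457, 455, 459, 458, 457, 456]]

/-- Three times the weights in terms of the simple roots. -/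
def w3 (m i : ℕ) : ℤ := (((WN.getD m []).getD i 0 : ℕ) : ℤ) - 455

/-- index of the simple roots -/
def sI (i : ℕ) : ℕ := [56, 46, 42, 39, 37, 36].getD i 0

theorem sI_eq : ∀ i : Fin 6, chevE6.simple i = sI i := by decide +kernel

theorem sI_lt : ∀ i : Fin 6, sI i < 72 := by decide +kernel

theorem c1 : ∀ i : Fin 6, ∀ m : Fin 27, sgN (sI i) m = 0 ∨
    ∀ j : Fin 6, w3 m j - w3 (srN (sI i) m) j = if j = i then 3 else 0 := by
  decide +kernel

theorem c2 : ∀ j : Fin 6, ∑ m : Fin 27, w3 m j = 0 := by decide +kernel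

/-- one step down -/
def stp (m : ℕ) : ℕ :=
  if sgN 56 m ≠ 0 then srN 56 m else if sgN 46 m ≠ 0 then srN 46 m else if sgN 42 m ≠ 0 then srN 42 m
  else if sgN 39 m ≠ 0 then srN 39 m else if sgN 37 m ≠ 0 then srN 37 m else if sgN 36 m ≠ 0 then srN 36 m else m

theorem c3 : ∀ m : Fin 27, stp^[16] m = 18 := by decide +kernel

theorem stp_lt : ∀ m : Fin 27, stp m < 27 := by decide +kernel

/-- the simple reflection on the weights -/
def T (j : ℕ) (r : List ℤ) : List ℤ :=
  (List.range 6).map fun i => r.getD i 0 - if i = j then (∑ k : Fin 6, cartanOf chevE6 6 (Fin.ofNat 6 j) k * r.getD k 0) else 0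

/-- the table over the integers -/
def WZ : List (List ℤ) := WN.map fun r => (List.range 6).map fun i => ((r.getD i 0 : ℕ) : ℤ) - 455

theorem c4 : ∀ j : Fin 6, (WZ.map (T j)).Perm WZ := by decide +kernel

theorem c5 : (Finset.univ : Finset I27).val.map code = Multiset.range 27 := by decide +kernel

theorem opp6 : ∀ s : Fin 72, ∀ i : Fin 6, Cfsg.Agent.Nodes.RGDChev.vec chevE6 6 (71 - s) i =
    - Cfsg.Agent.Nodes.RGDChev.vec chevE6 6 s i := by decide +kernel

/-- number of the weights with the value `c` modulo `N` -/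
def cntW (N c : ℕ) (y : List ℕ) : ℕ := sumH (fun t => if t % N = c then 1 else 0) WN y

/-- the table of the values -/
def chkWT (N : ℕ) (L : List (List ℕ)) (y : List ℕ) : Bool :=
  L.any fun T => (List.range N).all fun c => Nat.beq (cntW N c y) (T.getD c 0)

/-- The check: the invariant vectors of the alcove have a value table in `L`. -/
def chkV (N : ℕ) (L : List (List ℕ)) : Bool :=
  allAlc th6 N fun y => bif invB N 2 R6 y then chkWT N L y else true

theorem v5 : chkV 5 [[7, 5, 5, 5, 5], [27, 0, 0, 0, 0]] = true := by decide +kernel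

theorem v7 : chkV 7 [[3, 4, 4, 4, 4, 4, 4], [9, 3, 3, 3, 3, 3, 3], [0, 1, 1, 8, 1, 8, 8], [0, 8, 8, 1, 8, 1, 1],
    [27, 0, 0, 0, 0, 0, 0]] = true := by decide +kernel

/-- The part of the check for `N = 13` with the first coordinate `x` -/
def chkX (x : ℕ) : Bool := allAlc th6.tail (13 - 1 * x) fun y => bif invB 13 2 R6 (x :: y) then
  chkWT 13 [[3, 2, 2, 2, 2, 2, 2, 2, 2, 2, 2, 2, 2], [27, 0, 0, 0, 0, 0, 0, 0, 0, 0, 0, 0, 0]] (x :: y) else true

theorem x0 : chkX 0 = true := by decide +kernel

theorem x1 : chkX 1 = true := by decide +kernel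

theorem x2 : chkX 2 = true := by decide +kernel

theorem x3 : chkX 3 = true := by decide +kernel

theorem x4 : ∀ x ∈ [4, 5, 6, 7, 8, 9, 10, 11, 12, 13], chkX x = true := by decide +kernel

theorem v13 : chkV 13 [[3, 2, 2, 2, 2, 2, 2, 2, 2, 2, 2, 2, 2], [27, 0, 0, 0, 0, 0, 0, 0, 0, 0, 0, 0, 0]] = true := by
  change ((List.range 14).all fun x => chkX x) = true
  rw [List.all_eq_true]
  intro x hx
  rw [List.mem_range] at hx
  by_cases h : x < 4
  · interval_cases x
    · exact x0
    · exact x1
    · exact x2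
    · exact x3
  · exact x4 x (by interval_cases x <;> simp_all)

end Cfsg.Agent.H898.TSVTab
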