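import Mathlib
import Cfsg.Agent.H898.TSVTab

/-!
# The 27-dimensional module of `E₆`: matrices above diagonal elements (helper898)
-/

set_option autoImplicit false
set_option linter.unusedSectionVars false

namespace Cfsg.Agent.H898.TSVDiag

open Cfsg.Lie Matrix
open Cfsg.Agent.ChevalleyStructure.E6Min.Tables Cfsg.Agent.ChevalleyStructure.E6Min.Basic
  Cfsg.Agent.ChevalleyStructure.E6Min.Adjoint
open Cfsg.Agent.H898.TSVTab

/-! ### checks -/

theorem chk_sep : ∀ x y : I27, x ≠ y → ∃ r : Fin 72, sg r x ≠ 0 ∧ sg r y = 0 := by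
  decide +kernel

theorem chk_sg : ∀ (r : Fin 72) (x : I27), sg r x = 0 ∨ sg r x = 1 ∨ sg r x = -1 := by
  decide +kernel

theorem sg_ne_zero {F : Type*} [Field F] {r : ℕ} (hr : r < 72) {x : I27} (h : sg r x ≠ 0) :
    ((sg r x : ℤ) : F) ≠ 0 := by
  rcases chk_sg ⟨r, hr⟩ x with h1 | h1 | h1
  · exact absurd h1 h
  · change sg r x = 1 at h1
    rw [h1, Int.cast_one]; exact one_ne_zero
  · change sg r x = -1 at h1
    rw [h1, Int.cast_neg, Int.cast_one]; exact neg_ne_zero.2 one_ne_zero

/-! ### extension of the field -/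

section map

variable {F k : Type*} [Field F] [Field k] (f : F →+* k)

theorem B_map (col : chevE6.Idx) : (B F col).map f = B k col := by
  rcases col with i | r
  · rw [B_inl, B_inl]
    ext x y
    rw [Matrix.map_apply, Hm_apply, Hm_apply]
    split_ifs
    · exact map_intCast f _
    · exact map_zero f
  · rw [B_inr, B_inr]
    ext x y
    rw [Matrix.map_apply, Nm_apply, Nm_apply]
    split_ifs
    · exact map_intCast f _
    · exact map_zero f

theorem comb_map (c : chevE6.Idx → F) : (comb c).map f = comb (fun row => f (c row)) := by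
  rw [comb_def, comb_def]
  have h1 : (∑ row, c row • B F row).map f = f.mapMatrix (∑ row, c row • B F row) := rfl
  rw [h1, map_sum]
  refine Finset.sum_congr rfl fun row _ => ?_
  ext x y
  rw [← B_map f row]
  simp

theorem P_map {g : Matrix I27 I27 F} {A : Matrix chevE6.Idx chevE6.Idx F} (h : P g A) :
    P (g.map f) (A.map f) := by
  intro col
  rw [← B_map f col, ← Matrix.map_mul, h col, Matrix.map_mul, comb_map]
  rfl

end map

/-! ### diagonal matrices -/

variable {k : Type*} [Field k]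

theorem diag_of_P {W : Matrix I27 I27 k} {t : Matrix chevE6.Idx chevE6.Idx k} {τ : Fin chevE6.nroots → k}
    (hτ : ∀ s s' : Fin chevE6.nroots, s'.val = 71 - s.val → τ s * τ s' = 1) (hP : P W t)
    (ht : t = Matrix.diagonal (Sum.elim (fun _ => (1 : k)) τ)) :
    ∃ w : I27 → k, W = Matrix.diagonal w ∧
      ∀ (s : Fin chevE6.nroots) (x : I27), sg s.val x ≠ 0 → w x = τ s * w (sr s.val x) := by
  have h0 : ∀ s : Fin chevE6.nroots, W * Nm k s.val = τ s • (Nm k s.val * W) := by
    intro s
    have h1 := hP (Sum.inr s)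
    rw [B_inr] at h1
    rw [h1, ← smul_mul_assoc]
    congr 1
    rw [comb_def, Finset.sum_eq_single (Sum.inr s)]
    · rw [ht, Matrix.diagonal_apply_eq, Sum.elim_inr, B_inr]
    · intro row _ hrow
      rw [ht, Matrix.diagonal_apply_ne _ hrow, zero_smul]
    · intro h
      exact absurd (Finset.mem_univ _) h
  have hoff : ∀ x y, x ≠ y → W x y = 0 := by
    intro x y hxy
    obtain ⟨r, h1, h2⟩ := chk_sep x y hxy
    let s : Fin chevE6.nroots := r
    let s' : Fin chevE6.nroots := ⟨71 - r.val, show 71 - r.val < 72 by omega⟩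
    have h3 : W * (Nm k r * Nm k (71 - r)) = (Nm k r * Nm k (71 - r)) * W := by
      have e1 := h0 s
      have e2 := h0 s'
      have e3 := hτ s s' rfl
      change W * Nm k r = _ • (Nm k r * W) at e1
      change W * Nm k (71 - r) = _ • (Nm k (71 - r) * W) at e2
      rw [← mul_assoc, e1, smul_mul_assoc, mul_assoc, e2, mul_smul_comm, smul_smul, e3, one_smul, ← mul_assoc]
    rw [Nm_mul_opp r.2] at h3
    have h4 := congrFun (congrFun h3 x) y
    rw [mul_diagonal, diagonal_mul, ind_of_ne h1, ind_of_eq h2] at h4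
    simpa using h4.symm
  refine ⟨fun x => W x x, ?_, ?_⟩
  · ext x y
    rcases eq_or_ne x y with rfl | hxy
    · rw [diagonal_apply_eq]
    · rw [diagonal_apply_ne _ hxy, hoff x y hxy]
  · intro s x hx
    have h3 := congrFun (congrFun (h0 s) x) (sr s.val x)
    rw [Matrix.smul_apply, Nm_mul_apply, mul_apply, Finset.sum_eq_single x] at h3
    · rw [Nm_apply, if_pos rfl, mul_comm, smul_eq_mul, mul_left_comm] at h3
      exact mul_left_cancel₀ (sg_ne_zero (lt72 s) hx) h3
    · intro z _ hz
      rw [hoff x z hz.symm, zero_mul]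
    · intro h; exact absurd (Finset.mem_univ _) h

/-! ### the determinant -/

theorem det_zM {r : ℕ} (hr : r < 72) (t : k) : (zM r t).det = 1 := by
  have h1 : zM r t = 1 + (t • (Nm k r * Nm k (71 - r))) * Nm k r := by
    rw [zM_def, smul_mul_assoc, Nm_mul_opp_mul hr]
  rw [h1, Matrix.det_one_add_mul_comm, mul_smul_comm, ← mul_assoc, Nm_sq hr, zero_mul, smul_zero, add_zero,
    Matrix.det_one]

theorem det_of_mem {g : GL I27 k} (hg : g ∈ Zgrp k) : (g : Matrix I27 I27 k).det = 1 := by
  unfold Zgrp at hg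
  induction hg using Subgroup.closure_induction with
  | mem x hx =>
    obtain ⟨r, t, hr, h⟩ := hx
    rw [h, det_zM hr]
  | one => rw [Units.val_one, Matrix.det_one]
  | mul x y _ _ hx hy => rw [Units.val_mul, Matrix.det_mul, hx, hy, one_mul]
  | inv x _ hx =>
    have h1 : ((x⁻¹ : GL I27 k) : Matrix I27 I27 k).det * (x : Matrix I27 I27 k).det = 1 := by
      rw [← Matrix.det_mul, ← Units.val_mul, inv_mul_cancel, Units.val_one, Matrix.det_one]
    rwa [hx, mul_one] at h1

/-! ### the values -/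

theorem dec_step {G : Type*} {D : I27 → G} (h : ∀ (i : Fin 6) (x : I27), sg (sI i) x ≠ 0 → D x = D (sr (sI i) x))
    {m : ℕ} (hm : m < 27) : D (dec (stp m)) = D (dec m) := by
  have key : ∀ i : Fin 6, sgN (sI i) m ≠ 0 → D (dec (srN (sI i) m)) = D (dec m) := by
    intro i hi
    have h1 := h i (dec m) (by unfold sg; rw [code_dec hm]; exact hi)
    rw [h1]
    unfold sr
    rw [code_dec hm]
  unfold stp
  split_ifs with h1 h2 h3 h4 h5 h6
  · exact key 0 h1
  · exact key 1 h2
  · exact key 2 h3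
  · exact key 3 h4
  · exact key 4 h5
  · exact key 5 h6
  · rfl

theorem const_of {G : Type*} {D : I27 → G} (h : ∀ (i : Fin 6) (x : I27), sg (sI i) x ≠ 0 → D x = D (sr (sI i) x))
    (x : I27) : D x = D (dec 18) := by
  have h1 : ∀ n, stp^[n] (code x) < 27 ∧ D (dec (stp^[n] (code x))) = D x := by
    intro n
    induction n with
    | zero => exact ⟨code_lt x, by rw [Function.iterate_zero, id, dec_code]⟩
    | succ n ih =>
      rw [Function.iterate_succ_apply']
      exact ⟨stp_lt ⟨_, ih.1⟩, by rw [dec_step h ih.1, ih.2]⟩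
  have h2 := (h1 16).2
  have h3 : stp^[16] (code x) = 18 := c3 ⟨code x, code_lt x⟩
  rw [h3] at h2
  exact h2.symm

theorem prod_code {M : Type*} [CommMonoid M] (g : ℕ → M) : ∏ x : I27, g (code x) = ∏ m : Fin 27, g m := by
  have h1 : ∏ x : I27, g (code x) = (((Finset.univ : Finset I27).val.map code).map g).prod := by
    rw [Multiset.map_map]
    rfl
  rw [h1, c5, Fin.prod_univ_eq_prod_range (fun i => g i) 27]
  rfl

theorem w_eq {G : Type*} [CommGroup G] {N : ℕ} (hN3 : N.Coprime 3) {w : I27 → G} {u : Fin 6 → G}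
    (hu : ∀ i, u i ^ N = 1) (hw : ∀ x, w x ^ N = 1) (hprod : ∏ x, w x = 1)
    (h : ∀ (i : Fin 6) (x : I27), sg (sI i) x ≠ 0 → w x = u i ^ 3 * w (sr (sI i) x)) (x : I27) :
    w x = ∏ i : Fin 6, u i ^ (w3 (code x) i) := by
  let E : I27 → G := fun x => ∏ i : Fin 6, u i ^ (w3 (code x) i)
  let D : I27 → G := fun x => w x * (E x)⁻¹
  have hE : ∀ (i : Fin 6) (x : I27), sg (sI i) x ≠ 0 → E x = u i ^ 3 * E (sr (sI i) x) := by
    intro i x hx
    have h1 := (c1 i ⟨code x, code_lt x⟩).resolve_left hx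
    show ∏ j : Fin 6, u j ^ (w3 (code x) j) = u i ^ 3 * ∏ j : Fin 6, u j ^ (w3 (code (sr (sI i) x)) j)
    rw [code_sr (sI_lt i)]
    have h2 : ∀ j : Fin 6, u j ^ (w3 (code x) j) = u j ^ (if j = i then (3 : ℤ) else 0) * u j ^ (w3 (srN (sI i) (code x)) j) := by
      intro j
      rw [← _root_.zpow_add]
      congr 1
      have h3 := h1 j
      change w3 (code x) j - w3 (srN (sI i) (code x)) j = _ at h3
      omega
    rw [Finset.prod_congr rfl fun j _ => h2 j, Finset.prod_mul_distrib]
    congr 1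
    rw [Finset.prod_eq_single i]
    · rw [if_pos rfl]
      exact zpow_ofNat (u i) 3
    · intro j _ hj
      rw [if_neg hj, zpow_zero]
    · intro hh; exact absurd (Finset.mem_univ _) hh
  have hD : ∀ x, D x = D (dec 18) := by
    refine const_of fun i x hx => ?_
    show w x * (E x)⁻¹ = w (sr (sI i) x) * (E (sr (sI i) x))⁻¹
    rw [h i x hx, hE i x hx, mul_inv, mul_mul_mul_comm, mul_inv_cancel, one_mul]
  have hEprod : ∏ x, E x = 1 := by
    show ∏ x : I27, ∏ i : Fin 6, u i ^ (w3 (code x) i) = 1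
    rw [Finset.prod_comm]
    refine Finset.prod_eq_one fun i _ => ?_
    rw [prod_code (fun m => u i ^ (w3 m i))]
    have h1 := c2 i
    have h2 : ∀ S : Finset (Fin 27), ∏ m ∈ S, u i ^ (w3 m i) = u i ^ (∑ m ∈ S, w3 m i) := by
      intro S
      induction S using Finset.induction_on with
      | empty => simp
      | insert b S hb ih => rw [Finset.prod_insert hb, Finset.sum_insert hb, _root_.zpow_add, ih]
    rw [h2, h1, zpow_zero]
  have h27 : D (dec 18) ^ 27 = 1 := by
    have h1 : ∏ x, D x = 1 := by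
      show ∏ x, (w x * (E x)⁻¹) = 1
      rw [Finset.prod_mul_distrib, hprod, one_mul, Finset.prod_inv_distrib, hEprod, inv_one]
    rw [Finset.prod_congr rfl fun x _ => hD x, Finset.prod_const] at h1
    exact h1
  have hEN : ∀ x, E x ^ N = 1 := by
    intro x
    show (∏ i : Fin 6, u i ^ (w3 (code x) i)) ^ N = 1
    rw [← Finset.prod_pow]
    refine Finset.prod_eq_one fun i _ => ?_
    rw [← zpow_natCast, ← _root_.zpow_mul, mul_comm, _root_.zpow_mul, zpow_natCast, hu, _root_.one_zpow]
  have hDN : D (dec 18) ^ N = 1 := by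
    show (w (dec 18) * (E (dec 18))⁻¹) ^ N = 1
    rw [mul_pow, hw, inv_pow, hEN, inv_one, one_mul]
  have h1 : D (dec 18) = 1 := by
    have hco : Nat.gcd 27 N = 1 := by
      have : Nat.Coprime (3 ^ 3) N := Nat.Coprime.pow_left 3 hN3.symm
      exact this
    have h2 := orderOf_dvd_of_pow_eq_one h27
    have h3 := orderOf_dvd_of_pow_eq_one hDN
    have h4 := Nat.dvd_gcd h2 h3
    rw [hco] at h4
    exact orderOf_eq_one_iff.1 (Nat.dvd_one.1 h4)
  have h2 : w x * (E x)⁻¹ = 1 := by
    have := hD x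
    rw [h1] at this
    exact this
  exact mul_inv_eq_one.1 h2

end Cfsg.Agent.H898.TSVDiag
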