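import Mathlib
import Cfsg.Agent.H898.TSVDiag
import Cfsg.Agent.H944.TS.Eig

/-!
# Weight values of the elements of odd order on the 27-dimensional module of `E₆` (helper898)
-/

set_option autoImplicit false
set_option linter.unusedSectionVars false

namespace Cfsg.Agent.H898.TSVW

open Cfsg.Agent.ChevalleyStructure.CoxeterGeom Cfsg.Agent.Tits.Roots
  Cfsg.Agent.Nodes.Reps Cfsg.Agent.Nodes.BNOf Cfsg.Agent.Nodes.RGDChev Cfsg.Agent.KFacts.RgdChevCoord
open Cfsg.Lie Cfsg.Agent.ChevalleyStructure Cfsg.Agent.ChevalleyStructure.Elts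
  Cfsg.Agent.ChevalleyStructure.RootVecTab
  Cfsg.Agent.ChevalleyStructure.CoxeterGeomTypes
  Cfsg.Agent.BpExc.TorAll Cfsg.Agent.BpExc.TorChev
open Cfsg.Agent.GpExc.Field (glMap emb coe_emb coe_glMap emb_injective)
open Cfsg.Agent.H944.RootVals Cfsg.Agent.H944.TS.Eig Polynomial
open Cfsg.Agent.ChevalleyStructure.E6Min.Tables Cfsg.Agent.ChevalleyStructure.E6Min.Basic
  Cfsg.Agent.ChevalleyStructure.E6Min.Adjoint
open Cfsg.Agent.H898.TSVTab Cfsg.Agent.H898.TSVDiag

universe u

/-- The multiset of (three times) the weight values. -/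
def wm {R : Type*} [CommRing R] (v : Fin 6 → R) : Multiset R :=
  (Finset.univ : Finset I27).val.map fun x => ∑ i : Fin 6, ((w3 (code x) i : ℤ) : R) * v i

/-! ### powers of a root of unity -/

section pw

variable {k : Type*} [Field k] {N : ℕ} [NeZero N] {z : kˣ}

/-- the power with exponent in `ZMod N` -/
def pw (z : kˣ) (b : ZMod N) : kˣ := z ^ b.val

theorem zpow_val (hz : z ^ N = 1) (m : ℤ) : z ^ m = pw z (m : ZMod N) := by
  unfold pw
  rw [← zpow_natCast, ZMod.val_intCast]
  have h1 : z ^ (N : ℤ) = 1 := by rw [zpow_natCast]; exact hz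
  conv_lhs => rw [← Int.emod_add_mul_ediv m N]
  rw [zpow_add, zpow_mul, h1, one_zpow, mul_one]

theorem pw_inj (hz : IsPrimitiveRoot z N) : Function.Injective (pw z : ZMod N → kˣ) := by
  intro b b' h
  exact ZMod.val_injective N (hz.pow_inj (ZMod.val_lt b) (ZMod.val_lt b') h)

theorem pw_add (hz : z ^ N = 1) (a b : ZMod N) : pw z (a + b) = pw z a * pw z b := by
  obtain ⟨m, rfl⟩ := ZMod.intCast_surjective a
  obtain ⟨n, rfl⟩ := ZMod.intCast_surjective b
  rw [← Int.cast_add, ← zpow_val hz, ← zpow_val hz, ← zpow_val hz, zpow_add]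

theorem pw_zsmul (hz : z ^ N = 1) (m : ℤ) (a : ZMod N) : pw z ((m : ZMod N) * a) = pw z a ^ m := by
  obtain ⟨n, rfl⟩ := ZMod.intCast_surjective a
  rw [← Int.cast_mul, ← zpow_val hz, ← zpow_val hz, ← zpow_mul, mul_comm]

theorem pw_zero (hz : z ^ N = 1) : pw z (0 : ZMod N) = 1 := by
  have := zpow_val hz 0
  rw [Int.cast_zero, zpow_zero] at this
  exact this.symm

theorem pw_sum (hz : z ^ N = 1) {ι : Type*} (S : Finset ι) (f : ι → ZMod N) :
    pw z (∑ i ∈ S, f i) = ∏ i ∈ S, pw z (f i) := by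
  classical
  induction S using Finset.induction_on with
  | empty => rw [Finset.sum_empty, Finset.prod_empty, pw_zero hz]
  | insert b S hb ih => rw [Finset.prod_insert hb, Finset.sum_insert hb, pw_add hz, ih]

end pw

/-! ### the main construction -/

theorem core {F k : Type u} [Field F] [Field k] [IsAlgClosed k] [CharP F 2] [CharP k 2] (hk : HAlg 2 k) (f : F →+* k)
    {N : ℕ} (hN0 : N ≠ 0) (hN3 : N.Coprime 3) (hN2 : N.Coprime 2) {ζ : kˣ} (hζ : IsPrimitiveRoot ζ N)
    {z : ↥(Zgrp F)} (hz : z ^ N = 1) :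
    ∃ a : Fin 6 → ZMod N,
      (∀ d : ℕ, (∀ i, (d : ZMod N) * a i = 0) → (ad F z) ^ d = 1) ∧
      ((((ad F z : ↥(chevE6.group F)) : GL chevE6.Idx F) : Matrix chevE6.Idx chevE6.Idx F).charpoly.map
          (iterateFrobenius F 2 1) =
        (((ad F z : ↥(chevE6.group F)) : GL chevE6.Idx F) : Matrix chevE6.Idx chevE6.Idx F).charpoly →
        ms chevE6 6 a = (ms chevE6 6 a).map (fun b => ((2 : ℕ) : ZMod N) * b)) ∧
      ((z : GL I27 F) : Matrix I27 I27 F).charpoly.map f = ((wm a).map (fun b => X - C ((pw ζ b : kˣ) : k))).prod ∧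
      (((((z : GL I27 F)⁻¹ : GL I27 F)) : Matrix I27 I27 F).charpoly = ((z : GL I27 F) : Matrix I27 I27 F).charpoly →
        (wm a).map Neg.neg = wm a) := by
  classical
  have : Fact (Nat.Prime 2) := ⟨Nat.prime_two⟩
  have : NeZero N := ⟨hN0⟩
  have hζN : ζ ^ N = 1 := hζ.pow_eq_one
  set x := ad F z with hx
  have hxN0 : x ^ N = 1 := by rw [hx, ← map_pow, hz, map_one]
  set x' : ↥(chevE6.group k) := emb e6T.inList f x with hx'
  have hxN : x' ^ N = 1 := by rw [hx', ← map_pow, hxN0, map_one]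
  obtain ⟨g, hg⟩ := Cfsg.Agent.H944.TorAnyChev.exists_conj_mem_TT e6T 2 hk hN0 hN2 hxN
  set t := g * x' * g⁻¹ with ht
  obtain ⟨c, hc⟩ := TT_diag e6T hg
  have htN : t ^ N = 1 := by rw [ht, conj_pow, hxN, mul_one, mul_inv_cancel]
  -- the powers of `t`
  have hpow : ∀ d : ℕ, (((t ^ d : ↥(chevE6.group k)) : GL chevE6.Idx k) : Matrix chevE6.Idx chevE6.Idx k) =
      Matrix.diagonal (Sum.elim (fun _ => (1 : k)) (fun s : Fin chevE6.nroots =>
        ((∏ i, c i ^ (vec chevE6 6 s i) : kˣ) : k) ^ d)) := by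
    intro d
    rw [Subgroup.coe_pow, Units.val_pow_eq_pow_val, hc, Matrix.diagonal_pow]
    congr 1
    funext i
    rcases i with i | i
    · simp
    · simp
  -- the value on the simple roots
  have hsimple : ∀ j : Fin 6, (∏ i, c i ^ (vec chevE6 6 (sI j) i) : kˣ) = c j := by
    intro j
    rw [← sI_eq j, vec_simple e6T j, Finset.prod_eq_single j]
    · rw [sr_self, zpow_one]
    · intro i _ hij
      rw [sr_ne hij, zpow_zero]
    · intro h
      exact absurd (Finset.mem_univ j) h
  have hcN : ∀ d : ℕ, t ^ d = 1 ↔ ∀ j, c j ^ d = 1 := by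
    intro d
    constructor
    · intro h1 j
      have h2 := hpow d
      rw [h1, Subgroup.coe_one, Units.val_one] at h2
      have h3 := congrFun (congrFun h2 (Sum.inr ⟨sI j, sI_lt j⟩)) (Sum.inr ⟨sI j, sI_lt j⟩)
      rw [Matrix.one_apply_eq, Matrix.diagonal_apply_eq, Sum.elim_inr] at h3
      have h4 := hsimple j
      change 1 = ((∏ i, c i ^ (vec chevE6 6 (sI j) i) : kˣ) : k) ^ d at h3
      rw [h4, ← Units.val_pow_eq_pow_val] at h3
      exact Units.ext h3.symm
    · intro h1
      apply Subtype.ext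
      apply Units.ext
      rw [hpow, Subgroup.coe_one, Units.val_one, ← Matrix.diagonal_one]
      congr 1
      funext i
      rcases i with i | i
      · rfl
      · rw [Sum.elim_inr, ← Units.val_pow_eq_pow_val, ← Finset.prod_pow]
        have : ∀ j ∈ (Finset.univ : Finset (Fin 6)), (c j ^ vec chevE6 6 i j) ^ d = 1 := by
          intro j _
          rw [← zpow_natCast, ← zpow_mul, mul_comm, zpow_mul, zpow_natCast, h1, one_zpow]
        rw [Finset.prod_congr rfl this, Finset.prod_const_one, Units.val_one]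
  have hcN' : ∀ j, c j ^ N = 1 := (hcN N).1 htN
  -- cube roots of the `c j`
  have hu : ∀ j, ∃ a : ZMod N, pw ζ a ^ 3 = c j := by
    intro j
    have h1 : Nat.Coprime 3 (orderOf (c j)) :=
      (Nat.Coprime.coprime_dvd_left (orderOf_dvd_of_pow_eq_one (hcN' j)) hN3).symm
    obtain ⟨m, hm⟩ := exists_pow_eq_self_of_coprime h1
    have h2 : ((c j ^ m : kˣ) : k) ^ N = 1 := by
      rw [← Units.val_pow_eq_pow_val, ← pow_mul, mul_comm, pow_mul, hcN', one_pow, Units.val_one]
    obtain ⟨i, -, hi⟩ := (IsPrimitiveRoot.coe_units_iff.2 hζ).eq_pow_of_pow_eq_one h2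
    refine ⟨((i : ℤ) : ZMod N), ?_⟩
    rw [← zpow_val hζN, zpow_natCast]
    have h3 : ζ ^ i = c j ^ m := Units.ext (by rw [Units.val_pow_eq_pow_val]; exact hi)
    rw [h3, ← pow_mul, mul_comm, pow_mul, hm]
  choose a ha using hu
  refine ⟨a, ?_⟩
  -- the elements above
  obtain ⟨gz, hgz⟩ := ad_surjective (F := k) g
  let zk : GL I27 k := Units.map (f.mapMatrix : Matrix I27 I27 F →+* Matrix I27 I27 k).toMonoidHom (z : GL I27 F)
  have hzk : (zk : Matrix I27 I27 k) = ((z : GL I27 F) : Matrix I27 I27 F).map f := rfl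
  let W : GL I27 k := (gz : GL I27 k) * zk * (gz : GL I27 k)⁻¹
  have hPz : P (zk : Matrix I27 I27 k) (((x' : ↥(chevE6.group k)) : GL chevE6.Idx k) : Matrix chevE6.Idx chevE6.Idx k) := by
    rw [hzk, hx', coe_emb, coe_glMap]
    exact P_map f (ad_P z)
  have hPg : P ((gz : GL I27 k) : Matrix I27 I27 k) (((g : ↥(chevE6.group k)) : GL chevE6.Idx k) : Matrix chevE6.Idx chevE6.Idx k) := by
    have := ad_P gz
    rw [hgz] at this
    exact this
  have hPW : P (W : Matrix I27 I27 k) (((t : ↥(chevE6.group k)) : GL chevE6.Idx k) : Matrix chevE6.Idx chevE6.Idx k) := by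
    have h1 := P_mul (P_mul hPg hPz) (P_inv hPg)
    rw [← Units.val_mul, ← Units.val_mul, ← Units.val_mul, ← Units.val_mul] at h1
    exact h1
  obtain ⟨w, hW, hstep⟩ := diag_of_P (W := (W : Matrix I27 I27 k)) (τ := fun s : Fin chevE6.nroots =>
      ((∏ i, c i ^ (vec chevE6 6 s i) : kˣ) : k)) (by
        intro s s' hs
        rw [← Units.val_mul, ← Finset.prod_mul_distrib, Finset.prod_eq_one, Units.val_one]
        intro i _
        have h1 := opp6 ⟨s.val, lt72 s⟩ i
        rw [← zpow_add]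
        have h2 : vec chevE6 6 s i + vec chevE6 6 s' i = 0 := by
          rw [hs]
          change vec chevE6 6 (71 - (s : ℕ)) i = _ at h1
          rw [h1]
          exact add_neg_cancel _
        rw [h2, zpow_zero]) hPW hc
  have hWN : W ^ N = 1 := by
    show ((gz : GL I27 k) * zk * (gz : GL I27 k)⁻¹) ^ N = 1
    have h1 : zk ^ N = 1 := by
      show (Units.map (f.mapMatrix : Matrix I27 I27 F →+* Matrix I27 I27 k).toMonoidHom (z : GL I27 F)) ^ N = 1
      rw [← map_pow, ← Subgroup.coe_pow, hz, Subgroup.coe_one, map_one]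
    rw [conj_pow, h1, mul_one, mul_inv_cancel]
  have hwN : ∀ y, w y ^ N = 1 := by
    intro y
    have h1 := congrArg (fun M : GL I27 k => (M : Matrix I27 I27 k)) hWN
    simp only [Units.val_pow_eq_pow_val, hW, Matrix.diagonal_pow, Units.val_one] at h1
    have h2 := congrFun (congrFun h1 y) y
    rw [Matrix.diagonal_apply_eq, Matrix.one_apply_eq] at h2
    exact h2
  have hw0 : ∀ y, w y ≠ 0 := by
    intro y h
    have h1 := hwN y
    rw [h, zero_pow hN0] at h1
    exact zero_ne_one h1
  let wu : I27 → kˣ := fun y => Units.mk0 (w y) (hw0 y)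
  have hwu : ∀ y, ((wu y : kˣ) : k) = w y := fun y => rfl
  have hprod : ∏ y, wu y = 1 := by
    apply Units.ext
    rw [Units.coe_prod, Units.val_one]
    have h1 : (W : Matrix I27 I27 k).det = 1 := by
      show (((gz : GL I27 k) * zk * (gz : GL I27 k)⁻¹ : GL I27 k) : Matrix I27 I27 k).det = 1
      have h2 : (zk : Matrix I27 I27 k).det = 1 := by
        rw [hzk, ← RingHom.mapMatrix_apply, ← RingHom.map_det, det_of_mem z.2, map_one]
      rw [Units.val_mul, Units.val_mul, Matrix.det_mul, Matrix.det_mul, h2, mul_one, ← Matrix.det_mul, ← Units.val_mul,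
        mul_inv_cancel, Units.val_one, Matrix.det_one]
    rw [hW, Matrix.det_diagonal] at h1
    exact h1
  have hw : ∀ y, wu y = pw ζ (∑ i : Fin 6, ((w3 (code y) i : ℤ) : ZMod N) * a i) := by
    intro y
    have h1 := w_eq (N := N) hN3 (w := wu) (u := fun i => pw ζ (a i)) (fun i => by
      show (pw ζ (a i)) ^ N = 1
      unfold pw
      rw [← pow_mul, mul_comm, pow_mul, hζN, one_pow]) (fun y => Units.ext (by
        rw [Units.val_pow_eq_pow_val, hwu, hwN, Units.val_one])) hprod (fun i y hy => by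
        apply Units.ext
        rw [Units.val_mul, hwu, hwu]
        have h2 := hstep ⟨sI i, sI_lt i⟩ y hy
        rw [h2]
        change ((∏ j, c j ^ (vec chevE6 6 (sI i) j) : kˣ) : k) * _ = _
        rw [hsimple i, ha i]) y
    rw [h1, pw_sum hζN]
    refine Finset.prod_congr rfl fun i _ => ?_
    rw [pw_zsmul hζN]
  -- the root values
  have hval : ∀ s : Fin chevE6.nroots, (∏ i, c i ^ (vec chevE6 6 s i) : kˣ) =
      pw ζ (((3 : ℤ) : ZMod N) * (∑ i, (vec chevE6 6 s i : ZMod N) * a i)) := by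
    intro s
    rw [pw_zsmul hζN, pw_sum hζN, ← Finset.prod_zpow]
    refine Finset.prod_congr rfl fun i _ => ?_
    rw [pw_zsmul hζN, ← ha i, ← zpow_mul, mul_comm, zpow_mul]
    congr 1
  have h3inj : Function.Injective (fun b : ZMod N => ((3 : ℤ) : ZMod N) * b) := by
    have hunit : IsUnit ((3 : ℕ) : ZMod N) := (ZMod.isUnit_iff_coprime 3 N).2 hN3.symm
    have h4 : ((3 : ℤ) : ZMod N) = ((3 : ℕ) : ZMod N) := by push_cast; rfl
    intro b b' hb
    simp only [h4] at hb
    exact hunit.mul_left_cancel hb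
  have hpk : Function.Injective (fun b : ZMod N => ((pw ζ b : kˣ) : k)) :=
    Units.val_injective.comp (pw_inj hζ)
  have hms : ∀ m : ℕ, (Finset.univ : Finset (Fin chevE6.nroots)).val.map
      (fun s : Fin chevE6.nroots => ((∏ i, c i ^ (vec chevE6 6 s i) : kˣ) : k) ^ m) =
      (((ms chevE6 6 a).map (fun b => (m : ZMod N) * b)).map (fun b => ((3 : ℤ) : ZMod N) * b)).map
        (fun b => ((pw ζ b : kˣ) : k)) := by
    intro m
    unfold ms
    rw [Multiset.map_map, Multiset.map_map, Multiset.map_map]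
    refine Multiset.map_congr rfl fun s _ => ?_
    simp only [Function.comp_apply]
    rw [hval, ← Units.val_pow_eq_pow_val, ← zpow_natCast, ← pw_zsmul hζN]
    congr 2
    push_cast
    ring
  refine ⟨?_, ?_, ?_, ?_⟩
  · intro d hd
    have h1 : t ^ d = 1 := by
      rw [hcN]
      intro j
      rw [← ha j, ← pow_mul, mul_comm, pow_mul, ← zpow_natCast (pw ζ (a j)) d, ← pw_zsmul hζN]
      have := hd j
      rw [Int.cast_natCast, this, pw_zero hζN, one_pow]
    have h2 : t ^ d = g * x' ^ d * g⁻¹ := by rw [ht, conj_pow]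
    rw [h2, conj_eq_one_iff, hx', ← map_pow] at h1
    exact emb_injective e6T.inList f (by rw [h1, map_one])
  · -- Frobenius
    intro hcp
    let φ : k →+* k := iterateFrobenius k 2 1
    have hchart : (((t : ↥(chevE6.group k)) : GL chevE6.Idx k) : Matrix chevE6.Idx chevE6.Idx k).charpoly =
        ((((x : ↥(chevE6.group F)) : GL chevE6.Idx F) : Matrix chevE6.Idx chevE6.Idx F).charpoly).map f := by
      rw [ht, Subgroup.coe_mul, Subgroup.coe_mul, Subgroup.coe_inv, Units.val_mul, Units.val_mul,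
        Matrix.coe_units_inv]
      have h2 := Matrix.charpoly_units_conj ((g : GL chevE6.Idx k))
        (((x' : ↥(chevE6.group k)) : GL chevE6.Idx k) : Matrix chevE6.Idx chevE6.Idx k)
      rw [h2, ← Matrix.charpoly_map]
      congr 1
    have h2 : ((((t : ↥(chevE6.group k)) : GL chevE6.Idx k) : Matrix chevE6.Idx chevE6.Idx k).map φ).charpoly =
        (((t : ↥(chevE6.group k)) : GL chevE6.Idx k) : Matrix chevE6.Idx chevE6.Idx k).charpoly := by
      rw [Matrix.charpoly_map, hchart, Polynomial.map_map]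
      conv_rhs => rw [← hcp, Polynomial.map_map]
      congr 1
      ext b
      show iterateFrobenius k 2 1 (f b) = f (iterateFrobenius F 2 1 b)
      rw [iterateFrobenius_def, iterateFrobenius_def, map_pow]
    rw [hc, Matrix.diagonal_map (map_zero φ)] at h2
    have h3 := diag_multiset h2
    have h4 : (φ ∘ Sum.elim (fun _ : Fin chevE6.rank => (1 : k)) (fun s : Fin chevE6.nroots =>
        ((∏ i, c i ^ (vec chevE6 6 s i) : kˣ) : k))) =
        Sum.elim (fun _ : Fin chevE6.rank => (1 : k)) (fun s : Fin chevE6.nroots =>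
          ((∏ i, c i ^ (vec chevE6 6 s i) : kˣ) : k) ^ 2) := by
      funext i
      rcases i with i | i
      · simp
      · simp only [Function.comp_apply, Sum.elim_inr]
        show iterateFrobenius k 2 1 _ = _
        rw [iterateFrobenius_def, pow_one]
    have h3' : (Finset.univ : Finset (Fin chevE6.rank ⊕ Fin chevE6.nroots)).val.map
        (φ ∘ Sum.elim (fun _ => (1 : k)) (fun s : Fin chevE6.nroots => ((∏ i, c i ^ (vec chevE6 6 s i) : kˣ) : k))) =
        (Finset.univ : Finset (Fin chevE6.rank ⊕ Fin chevE6.nroots)).val.map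
        (Sum.elim (fun _ => (1 : k)) (fun s : Fin chevE6.nroots => ((∏ i, c i ^ (vec chevE6 6 s i) : kˣ) : k))) := h3
    rw [h4] at h3'
    have h5 := cancel_inl h3'
    have h6 := hms 1
    simp only [pow_one, Nat.cast_one, one_mul, Multiset.map_id'] at h6
    rw [h6, hms 2] at h5
    exact (Multiset.map_injective h3inj (Multiset.map_injective hpk h5)).symm
  · -- the characteristic polynomial
    have h1 : (W : Matrix I27 I27 k).charpoly = ((z : GL I27 F) : Matrix I27 I27 F).charpoly.map f := by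
      show (((gz : GL I27 k) * zk * (gz : GL I27 k)⁻¹ : GL I27 k) : Matrix I27 I27 k).charpoly = _
      rw [Units.val_mul, Units.val_mul, Matrix.coe_units_inv, Matrix.charpoly_units_conj, ← Matrix.charpoly_map]
      rfl
    rw [← h1, hW, Matrix.charpoly_diagonal]
    unfold wm
    rw [Multiset.map_map]
    show ∏ y, (X - C (w y)) = (Multiset.map _ (Finset.univ : Finset I27).val).prod
    refine congrArg Multiset.prod (Multiset.map_congr rfl fun y _ => ?_)
    rw [← hwu, hw]
    rfl
  · intro hre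
    have h1 : (W : Matrix I27 I27 k).charpoly = ((z : GL I27 F) : Matrix I27 I27 F).charpoly.map f := by
      show (((gz : GL I27 k) * zk * (gz : GL I27 k)⁻¹ : GL I27 k) : Matrix I27 I27 k).charpoly = _
      rw [Units.val_mul, Units.val_mul, Matrix.coe_units_inv, Matrix.charpoly_units_conj, ← Matrix.charpoly_map]
      rfl
    have h2 : ((W⁻¹ : GL I27 k) : Matrix I27 I27 k).charpoly =
        (((z : GL I27 F)⁻¹ : GL I27 F) : Matrix I27 I27 F).charpoly.map f := by
      have h3 : W⁻¹ = (gz : GL I27 k) * zk⁻¹ * (gz : GL I27 k)⁻¹ := by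
        show ((gz : GL I27 k) * zk * (gz : GL I27 k)⁻¹)⁻¹ = _
        group
      rw [h3, Units.val_mul, Units.val_mul, Matrix.coe_units_inv (gz : GL I27 k), Matrix.charpoly_units_conj,
        ← Matrix.charpoly_map]
      have h4 : zk⁻¹ = Units.map (f.mapMatrix : Matrix I27 I27 F →+* Matrix I27 I27 k).toMonoidHom (z : GL I27 F)⁻¹ := by
        rw [map_inv]
      rw [h4]
      rfl
    rw [hre, ← h1] at h2
    have h3 : ((W⁻¹ : GL I27 k) : Matrix I27 I27 k) = Matrix.diagonal (fun y => ((wu y)⁻¹ : kˣ) : I27 → k) := by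
      have h4 : (W : Matrix I27 I27 k) * Matrix.diagonal (fun y => (((wu y)⁻¹ : kˣ) : k)) = 1 := by
        rw [hW, Matrix.diagonal_mul_diagonal, ← Matrix.diagonal_one]
        congr 1
        funext y
        rw [← hwu, ← Units.val_mul, mul_inv_cancel, Units.val_one]
      calc ((W⁻¹ : GL I27 k) : Matrix I27 I27 k) = ((W⁻¹ : GL I27 k) : Matrix I27 I27 k) *
            ((W : Matrix I27 I27 k) * Matrix.diagonal (fun y => (((wu y)⁻¹ : kˣ) : k))) := by rw [h4, mul_one]
        _ = _ := by rw [← mul_assoc, ← Units.val_mul, inv_mul_cancel, Units.val_one, one_mul]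
    rw [h3, hW] at h2
    have h4 := diag_multiset h2
    unfold wm
    apply Multiset.map_injective hpk
    rw [Multiset.map_map, Multiset.map_map, Multiset.map_map]
    have h7 : ∀ y, pw ζ (-(∑ i : Fin 6, ((w3 (code y) i : ℤ) : ZMod N) * a i)) = (wu y)⁻¹ := by
      intro y
      have h5 := pw_zsmul hζN (-1) (∑ i : Fin 6, ((w3 (code y) i : ℤ) : ZMod N) * a i)
      rw [zpow_neg_one, ← hw y] at h5
      rw [← h5]
      congr 1
      rw [Int.cast_neg, Int.cast_one, neg_one_mul]
    refine Eq.trans ?_ (h4.trans ?_)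
    · refine Multiset.map_congr rfl fun y _ => ?_
      exact congrArg Units.val (h7 y)
    · refine Multiset.map_congr rfl fun y _ => ?_
      rw [← hwu y, hw y]
      rfl

end Cfsg.Agent.H898.TSVW
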