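import Mathlib
import Cfsg.Agent.H898.TSVW
import Cfsg.Agent.H944.TS.EigMain

/-!
# Eigenvalues of the elements of order 5, 7, 13 on the 27-dimensional module of `²E₆(2)` (helper898)
-/

set_option autoImplicit false
set_option linter.unusedSectionVars false
set_option maxRecDepth 100000

namespace Cfsg.Agent.H898.TSVE

open Cfsg.Agent.ChevalleyStructure.CoxeterGeom Cfsg.Agent.Tits.Roots
  Cfsg.Agent.Nodes.RGDChev
open Cfsg.Lie Cfsg.Agent.ChevalleyStructure Cfsg.Agent.ChevalleyStructure.Elts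
  Cfsg.Agent.ChevalleyStructure.RootVec Cfsg.Agent.ChevalleyStructure.RootVecTab
  Cfsg.Agent.ChevalleyStructure.NPerm Cfsg.Agent.ChevalleyStructure.CoxeterGeomTypes
open Cfsg.Agent.H944.RootVals Cfsg.Agent.H944.Kac Cfsg.Agent.H944.Tab Cfsg.Agent.H944.TS.Eig Polynomial
open Cfsg.Agent.ChevalleyStructure.E6Min.Tables Cfsg.Agent.ChevalleyStructure.E6Min.Basic
  Cfsg.Agent.ChevalleyStructure.E6Min.Adjoint
open Cfsg.Agent.H898.TSVTab Cfsg.Agent.H898.TSVDiag Cfsg.Agent.H898.TSVW

universe u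

/-! ### the weights as a list -/

/-- The value of a list on a vector. -/
def dotZ {S : Type*} [CommRing S] (v : Fin 6 → S) (r : List ℤ) : S := ∑ i : Fin 6, ((r.getD i 0 : ℤ) : S) * v i

theorem wz_eq : WZ = (List.range 27).map fun m => WZ.getD m [] := by decide +kernel

theorem wz_w3 : ∀ m : Fin 27, ∀ i : Fin 6, (WZ.getD m []).getD i 0 = w3 m i := by decide +kernel

theorem wm_eq {S : Type*} [CommRing S] (v : Fin 6 → S) : wm v = ((WZ.map (dotZ v) : List S) : Multiset S) := by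
  have h1 : wm v = ((Finset.univ : Finset I27).val.map E6Min.Tables.code).map fun m => ∑ i : Fin 6, ((w3 m i : ℤ) : S) * v i := by
    rw [Multiset.map_map]
    rfl
  have h2 : WZ.map (dotZ v) = (List.range 27).map fun m => ∑ i : Fin 6, ((w3 m i : ℤ) : S) * v i := by
    rw [wz_eq, List.map_map]
    refine List.map_congr_left fun m hm => ?_
    rw [List.mem_range] at hm
    show ∑ i : Fin 6, (((WZ.getD m []).getD i 0 : ℤ) : S) * v i = _
    refine Finset.sum_congr rfl fun i _ => ?_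
    rw [wz_w3 ⟨m, hm⟩ i]
  rw [h1, c5, h2]
  rfl

theorem T_getD (j i : Fin 6) (r : List ℤ) : (T j r).getD i 0 =
    r.getD i 0 - if i = j then (∑ k : Fin 6, cartanOf chevE6 6 j k * r.getD k 0) else 0 := by
  unfold T
  rw [List.getD_eq_getElem _ _ (by rw [List.length_map, List.length_range]; exact i.2), List.getElem_map,
    List.getElem_range]
  congr 1
  by_cases h : i = j
  · subst h
    rw [if_pos rfl, if_pos rfl]
    have h1 : Fin.ofNat 6 (i : ℕ) = i := Fin.ext (Nat.mod_eq_of_lt i.2)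
    rw [h1]
  · rw [if_neg (fun h1 => h (Fin.ext h1)), if_neg h]

theorem dotZ_srefl {S : Type*} [CommRing S] (j : Fin 6) (v : Fin 6 → S) (r : List ℤ) :
    dotZ (srefl chevE6 6 j v) r = dotZ v (T j r) := by
  unfold dotZ srefl
  simp only [T_getD, mul_sub, Int.cast_sub, sub_mul, Finset.sum_sub_distrib]
  congr 1
  refine Eq.trans ?_ (Finset.sum_eq_single j ?_ ?_).symm
  · rw [if_pos rfl]
    push_cast
    rw [Finset.sum_mul]
    refine Finset.sum_congr rfl fun i _ => ?_
    ring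
  · intro i _ hi
    rw [if_neg hi, Int.cast_zero, zero_mul]
  · intro h; exact absurd (Finset.mem_univ _) h

theorem wm_srefl {S : Type*} [CommRing S] (j : Fin 6) (v : Fin 6 → S) : wm (srefl chevE6 6 j v) = wm v := by
  rw [wm_eq, wm_eq, Multiset.coe_eq_coe]
  have h1 : WZ.map (dotZ (srefl chevE6 6 j v)) = (WZ.map (T j)).map (dotZ v) := by
    rw [List.map_map]
    refine List.map_congr_left fun r _ => ?_
    exact dotZ_srefl j v r
  rw [h1]
  exact (c4 j).map _

theorem count_wm {N : ℕ} (hN : 0 < N) (h455 : N ∣ 455) (Y : List ℕ) (c : ZMod N) :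
    (wm (fun i : Fin 6 => ((Y.getD i 0 : ℕ) : ZMod N))).count c = cntW N c.val Y := by
  have : NeZero N := ⟨hN.ne'⟩
  rw [count_eq_sum, wm_eq, Multiset.map_coe, Multiset.sum_coe, List.map_map]
  unfold cntW WZ
  rw [sumH_eq, List.map_map]
  congr 1
  refine List.map_congr_left fun r hr => ?_
  have hlen : r.length ≤ 6 := by
    have : ∀ r ∈ WN, r.length ≤ 6 := by decide +kernel
    exact this r hr
  have h0 : ((455 : ℕ) : ZMod N) = 0 := (ZMod.natCast_eq_zero_iff 455 N).2 h455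
  have h7 : dotZ (fun i : Fin 6 => ((Y.getD i 0 : ℕ) : ZMod N))
      ((List.range 6).map fun i => ((r.getD i 0 : ℕ) : ℤ) - 455) = ((dotN r Y : ℕ) : ZMod N) := by
    rw [dotN_eq 6 r Y hlen]
    unfold dotZ
    push_cast
    refine Finset.sum_congr rfl fun i _ => ?_
    congr 1
    rw [List.getD_eq_getElem _ _ (by rw [List.length_map, List.length_range]; exact i.2), List.getElem_map,
      List.getElem_range]
    push_cast
    have h1 : (455 : ZMod N) = 0 := by exact_mod_cast h0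
    rw [h1, sub_zero]
  simp only [Function.comp_apply]
  rw [h7]
  refine if_congr ?_ rfl rfl
  rw [← mod_iff _ (ZMod.val_lt c), ZMod.natCast_zmod_val]

theorem card_wm {S : Type*} [CommRing S] (v : Fin 6 → S) : Multiset.card (wm v) = 27 := by
  unfold wm
  rw [Multiset.card_map]
  rfl

theorem diffs : ∀ i : Fin 6, ∃ m m' : Fin 27, ∀ j : Fin 6, w3 m j - w3 m' j = if j = i then 3 else 0 := by
  decide +kernel

theorem eq_zero_of_wm {N : ℕ} (h3 : N.Coprime 3) {a : Fin 6 → ZMod N} (h : (wm a).count 0 = 27) (i : Fin 6) :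
    a i = 0 := by
  rw [← card_wm a, Multiset.count_eq_card] at h
  have h1 : ∀ m : Fin 27, ∑ j : Fin 6, ((w3 m j : ℤ) : ZMod N) * a j = 0 := by
    intro m
    refine (h _ ?_).symm
    unfold wm
    rw [Multiset.mem_map]
    refine ⟨dec m, Finset.mem_univ_val _, ?_⟩
    rw [code_dec m.2]
  obtain ⟨m, m', hm⟩ := diffs i
  have h2 : ((3 : ℕ) : ZMod N) * a i = 0 := by
    have h4 : ∑ j : Fin 6, ((w3 m j - w3 m' j : ℤ) : ZMod N) * a j = 0 := by
      push_cast
      simp only [sub_mul, Finset.sum_sub_distrib]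
      rw [h1, h1, sub_zero]
    rw [Finset.sum_eq_single i] at h4
    · rw [hm, if_pos rfl] at h4
      push_cast at h4 ⊢
      exact h4
    · intro j _ hj
      rw [hm, if_neg hj, Int.cast_zero, zero_mul]
    · intro hh; exact absurd (Finset.mem_univ _) hh
  have hunit : IsUnit ((3 : ℕ) : ZMod N) := (ZMod.isUnit_iff_coprime 3 N).2 h3.symm
  exact (hunit.mul_right_eq_zero).1 h2

variable {K : Type u} [Field K] [Fintype K]

/-- **Eigenvalues on the 27-dimensional module.** -/
theorem eigV (hK : Fintype.card K = 4) [CharP K 2] {N : ℕ} (hN : 0 < N) (hodd : N.Coprime 2) (h3 : N.Coprime 3)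
    (h455 : N ∣ 455) {L : List (List ℕ)} (hL : chkV N L = true) {z : ↥(Zgrp K)} (hz : z ^ N = 1)
    (hx : ((ad K z : ↥(chevE6.group K)) : GL chevE6.Idx K) ∈ twistedE6 K 2) :
    ∃ T ∈ L, ∃ ζ : (AlgebraicClosure K)ˣ, IsPrimitiveRoot ζ N ∧ (T.getD 0 0 = 27 → ad K z = 1) ∧
      (((((z : GL I27 K)⁻¹ : GL I27 K)) : Matrix I27 I27 K).charpoly = ((z : GL I27 K) : Matrix I27 I27 K).charpoly →
        ∀ c < N, T.getD ((N - c) % N) 0 = T.getD c 0) ∧
      ((z : GL I27 K) : Matrix I27 I27 K).charpoly.map (algebraMap K (AlgebraicClosure K)) =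
        ∏ c ∈ Finset.range N, (X - C (((ζ ^ c : (AlgebraicClosure K)ˣ)) : AlgebraicClosure K)) ^ (T.getD c 0) := by
  classical
  have : Fact (Nat.Prime 2) := ⟨Nat.prime_two⟩
  have : NeZero N := ⟨hN.ne'⟩
  have hkch : CharP (AlgebraicClosure K) 2 := charP_of_injective_algebraMap (algebraMap K (AlgebraicClosure K)).injective 2
  have hk : Cfsg.Agent.BpExc.TorAll.HAlg 2 (AlgebraicClosure K) := hAlg_closure 2 K
  have hNk : ((N : ℕ) : AlgebraicClosure K) ≠ 0 := by
    intro h0
    have h1 : 2 ∣ N := (CharP.cast_eq_zero_iff (AlgebraicClosure K) 2 N).1 h0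
    have h2 : 2 ∣ 1 := by
      rw [← hodd]
      exact Nat.dvd_gcd h1 dvd_rfl
    omega
  have : NeZero ((N : ℕ) : AlgebraicClosure K) := ⟨hNk⟩
  obtain ⟨ζ, hζ⟩ : ∃ ζ : AlgebraicClosure K, IsPrimitiveRoot ζ N := HasEnoughRootsOfUnity.exists_primitiveRoot _ N
  have hζu : IsPrimitiveRoot (hζ.toRootsOfUnity : (AlgebraicClosure K)ˣ) N := by
    rw [IsPrimitiveRoot.coe_units_iff.symm]
    exact hζ
  obtain ⟨v, hord, hinv, hcp, hre⟩ := core hk (algebraMap K (AlgebraicClosure K)) hN.ne' h3 hodd hζu hz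
  have hinv' := hinv (charpoly_frob hK hx)
  let P : (Fin 6 → ZMod N) → Prop := fun w => ms chevE6 6 w = ms chevE6 6 v ∧ wm w = wm v
  have hPs : ∀ w j, P w → P (srefl chevE6 6 j w) := by
    intro w j hw
    refine ⟨?_, ?_⟩
    · rw [ms_srefl e6T]
      exact hw.1
    · rw [wm_srefl]
      exact hw.2
  obtain ⟨y, hy, hθ⟩ := exists_alcove e6T (N := N) hN _ _ 24 (by norm_num) theta6
    (by decide) _ pos6 P hPs (v₀ := v) ⟨rfl, rfl⟩
  let Y : List ℕ := List.ofFn y
  have hY : ∀ i : Fin 6, Y.getD i 0 = y i := by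
    intro i
    rw [List.getD_eq_getElem _ _ (by rw [List.length_ofFn]; exact i.2), List.getElem_ofFn]
  have h1 : dotN th6 Y ≤ N := by
    rw [dotN_eq 6 th6 Y (by decide)]
    have h2 : ∑ i : Fin 6, th6.getD i 0 * Y.getD i 0 = ∑ i : Fin 6, th6.getD i 0 * y i :=
      Finset.sum_congr rfl fun i _ => by rw [hY]
    rw [h2]
    simp only [Fin.sum_univ_six, Matrix.cons_val] at hθ ⊢
    simp only [th6, List.getD_cons_zero, List.getD_cons_succ] at hθ ⊢
    norm_num at hθ ⊢
    omega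
  have h2 := allAlc_spec th6 N _ (by decide) hL Y (by simp [Y, th6]) h1
  have h3' : (fun i : Fin 6 => ((Y.getD i 0 : ℕ) : ZMod N)) = fun i => (y i : ZMod N) := by
    funext i
    rw [hY]
  have hPz : ms chevE6 6 (fun i : Fin 6 => ((Y.getD i 0 : ℕ) : ZMod N)) = ms chevE6 6 v := by
    rw [h3']; exact hy.1
  have hWz : wm (fun i : Fin 6 => ((Y.getD i 0 : ℕ) : ZMod N)) = wm v := by
    rw [h3']; exact hy.2
  have h4 : invB N 2 R6 Y = true := by
    refine invB_of hN tab6 len6 ?_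
    rw [hPz]
    exact hinv'
  rw [h4, cond_true, chkWT, List.any_eq_true] at h2
  obtain ⟨T, hT, hT2⟩ := h2
  rw [List.all_eq_true] at hT2
  have hcount : ∀ c : ZMod N, (wm v).count c = T.getD c.val 0 := by
    intro c
    have h5 := hT2 c.val (List.mem_range.2 (ZMod.val_lt c))
    rw [Nat.beq_eq] at h5
    rw [← h5, ← hWz]
    exact count_wm hN h455 Y c
  refine ⟨T, hT, _, hζu, fun h0 => ?_, fun hr c hc => ?_, ?_⟩
  · have h5 : (wm v).count 0 = 27 := by rw [hcount, ZMod.val_zero, h0]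
    have h6 := hord 1 fun i => by rw [eq_zero_of_wm h3 h5 i, mul_zero]
    rwa [pow_one] at h6
  · have h5 := hre hr
    have h6 : (wm v).count (-(c : ZMod N)) = (wm v).count (c : ZMod N) := by
      conv_lhs => rw [← h5]
      exact Multiset.count_map_eq_count' _ _ neg_injective _
    rw [hcount, hcount, ZMod.neg_val', ZMod.val_natCast, Nat.mod_eq_of_lt hc] at h6
    exact h6
  · rw [hcp]
    exact prod_of_count hN (wm v) (fun c => X - C ((((hζ.toRootsOfUnity : (AlgebraicClosure K)ˣ) ^ c : (AlgebraicClosure K)ˣ)) : AlgebraicClosure K)) T hcount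

end Cfsg.Agent.H898.TSVE
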