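import Mathlib
import Cfsg.Agent.H898.TSETwo
import Cfsg.Agent.H898.TSVE

/-!
# Traces and second coefficients from the eigenvalues (helper898)
-/

set_option autoImplicit false
set_option linter.unusedSectionVars false
set_option linter.style.longLine false

namespace Cfsg.Agent.H898.TSVP

open Polynomial Cfsg.Agent.H944.TS.Eig Cfsg.Agent.H898.TSETwo

universe u

variable {K : Type u} [Field K]

section poly

variable [CharP K 2]

theorem two_zero : (2 : K[X]) = 0 := by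
  have h : (2 : K) = 0 := by exact_mod_cast CharP.cast_eq_zero K 2
  have h1 : (2 : K[X]) = C 2 := by rw [C_ofNat]
  rw [h1, h, C_0]

theorem X_sub_ne : (X - 1 : K[X]) ≠ 0 := by
  have := X_sub_C_ne_zero (1 : K)
  rwa [C_1] at this

theorem q5 {p : K[X]} (h : p * (X - 1) ^ 5 = (X - 1) ^ 7 * (X ^ 5 - 1) ^ 5) :
    p = X ^ 27 + X ^ 25 + X ^ 22 + X ^ 20 + X ^ 7 + X ^ 5 + X ^ 2 + 1 := by
  refine mul_right_cancel₀ (pow_ne_zero 5 X_sub_ne) ?_
  rw [h]
  symm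
  linear_combination ((-1) + (6) * X + (-16) * X ^ 2 + (25) * X ^ 3 + (-25) * X ^ 4 + (18) * X ^ 5 + (-21) * X ^ 6 +
      (48) * X ^ 7 + (-80) * X ^ 8 + (80) * X ^ 9 + (-52) * X ^ 10 + (50) * X ^ 11 + (-107) * X ^ 12 +
      (175) * X ^ 13 + (-175) * X ^ 14 + (110) * X ^ 15 + (-70) * X ^ 16 + (110) * X ^ 17 +
      (-175) * X ^ 18 + (175) * X ^ 19 + (-108) * X ^ 20 + (55) * X ^ 21 + (-63) * X ^ 22 + (95) * X ^ 23 +
      (-95) * X ^ 24 + (58) * X ^ 25 + (-21) * X ^ 26 + (8) * X ^ 27 + (-10) * X ^ 28 + (10) * X ^ 29 +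
      (-5) * X ^ 30 + X ^ 31) * two_zero (K := K)

theorem q13 {p : K[X]} (h : p * (X - 1) ^ 2 = (X - 1) ^ 3 * (X ^ 13 - 1) ^ 2) :
    p = X ^ 27 + X ^ 26 + X + 1 := by
  refine mul_right_cancel₀ (pow_ne_zero 2 X_sub_ne) ?_
  rw [h]
  symm
  linear_combination ((1) + (-2) * X + X ^ 2 + (-1) * X ^ 13 + (3) * X ^ 14 + (-3) * X ^ 15 + X ^ 16 + X ^ 26 +
      (-2) * X ^ 27 + X ^ 28) * two_zero (K := K)

theorem q7a {p : K[X]} (h : p * (X - 1) ^ 3 = (X - 1) ^ 9 * (X ^ 7 - 1) ^ 3) :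
    p = X ^ 27 + X ^ 25 + X ^ 23 + X ^ 21 + X ^ 20 + X ^ 18 + X ^ 16 + X ^ 14 + X ^ 13 + X ^ 11 + X ^ 9 +
      X ^ 7 + X ^ 6 + X ^ 4 + X ^ 2 + 1 := by
  refine mul_right_cancel₀ (pow_ne_zero 3 X_sub_ne) ?_
  rw [h]
  symm
  linear_combination ((-1) + (6) * X + (-20) * X ^ 2 + (44) * X ^ 3 + (-65) * X ^ 4 + (65) * X ^ 5 + (-44) * X ^ 6 +
      (21) * X ^ 7 + (-18) * X ^ 8 + (53) * X ^ 9 + (-124) * X ^ 10 + (187) * X ^ 11 + (-187) * X ^ 12 +
      (124) * X ^ 13 + (-54) * X ^ 14 + (27) * X ^ 15 + (-57) * X ^ 16 + (128) * X ^ 17 + (-191) * X ^ 18 +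
      (191) * X ^ 19 + (-128) * X ^ 20 + (56) * X ^ 21 + (-18) * X ^ 22 + (18) * X ^ 23 + (-40) * X ^ 24 +
      (61) * X ^ 25 + (-61) * X ^ 26 + (40) * X ^ 27 + (-16) * X ^ 28 + (3) * X ^ 29) * two_zero (K := K)

theorem q7b {p : K[X]} (h : p * (X - 1) ^ 4 = (X - 1) ^ 3 * (X ^ 7 - 1) ^ 4) :
    p = X ^ 27 + X ^ 26 + X ^ 25 + X ^ 24 + X ^ 23 + X ^ 22 + X ^ 21 + X ^ 20 + X ^ 19 + X ^ 18 + X ^ 17 +
      X ^ 16 + X ^ 15 + X ^ 14 + X ^ 13 + X ^ 12 + X ^ 11 + X ^ 10 + X ^ 9 + X ^ 8 + X ^ 7 + X ^ 6 + X ^ 5 +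
      X ^ 4 + X ^ 3 + X ^ 2 + X + 1 := by
  refine mul_right_cancel₀ (pow_ne_zero 4 X_sub_ne) ?_
  rw [h]
  symm
  linear_combination ((1) + (-3) * X + (3) * X ^ 2 + (-1) * X ^ 3 + (-2) * X ^ 7 + (6) * X ^ 8 + (-6) * X ^ 9 +
      (2) * X ^ 10 + (3) * X ^ 14 + (-9) * X ^ 15 + (9) * X ^ 16 + (-3) * X ^ 17 + (-2) * X ^ 21 +
      (6) * X ^ 22 + (-6) * X ^ 23 + (2) * X ^ 24) * two_zero (K := K)

end poly

variable {ι : Type} [Fintype ι] [DecidableEq ι] {A : Matrix ι ι K}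

section co

variable [CharP K 2]

theorem trace_of (hι : Fintype.card ι = 27) {q : K[X]} (h : A.charpoly = q) : A.trace = q.coeff 26 := by
  have hn : Nonempty ι := Fintype.card_pos_iff.1 (by omega)
  have h1 := Matrix.trace_eq_neg_charpoly_coeff A
  rw [h1, hι, h]
  have h2 : (2 : K) = 0 := by exact_mod_cast CharP.cast_eq_zero K 2
  have : ∀ x : K, -x = x := fun x => by linear_combination (-x) * h2
  exact this _

theorem e2_of (hι : Fintype.card ι = 27) {q : K[X]} (h : A.charpoly = q) : e2 A = q.coeff 25 := by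
  have h1 := coeff_eq A (by omega)
  rw [← h1, hι, h]

theorem five (hι : Fintype.card ι = 27) (h : CP A 5 7 5) : A.trace = 0 ∧ e2 A = 1 := by
  have h1 := q5 h
  rw [trace_of hι h1, e2_of hι h1]
  constructor <;> simp [coeff_X, coeff_one]

theorem thirteen (hι : Fintype.card ι = 27) (h : CP A 13 3 2) : A.trace = 1 ∧ e2 A = 0 := by
  have h1 := q13 h
  rw [trace_of hι h1, e2_of hι h1]
  constructor <;> simp [coeff_X, coeff_one]

theorem seven_a (hι : Fintype.card ι = 27) (h : CP A 7 9 3) : A.trace = 0 ∧ e2 A = 1 := by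
  have h1 := q7a h
  rw [trace_of hι h1, e2_of hι h1]
  constructor <;> simp [coeff_X, coeff_one]

theorem seven_b (hι : Fintype.card ι = 27) (h : CP A 7 3 4) : A.trace = 1 ∧ e2 A = 1 := by
  have h1 := q7b h
  rw [trace_of hι h1, e2_of hι h1]
  constructor <;> simp [coeff_X, coeff_one]

theorem four (hι : Fintype.card ι = 27) [Fintype K] (hK : Fintype.card K = 4) (h : A ^ 4 = 1) :
    A.trace = 1 ∧ e2 A = 1 := by
  have h2 : (2 : K) = 0 := by exact_mod_cast CharP.cast_eq_zero K 2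
  have h1 : A.charpoly = (1 : Matrix ι ι K).charpoly := by
    have h3 := FiniteField.Matrix.charpoly_pow_card A
    rw [hK, h] at h3
    exact h3.symm
  rw [trace_of hι h1, e2_of hι h1]
  have h4 : (1 : Matrix ι ι K).charpoly = (X - C 1) ^ 27 := by
    rw [Matrix.charpoly_one, hι, C_1]
  rw [h4, sub_eq_add_neg, ← C_neg, coeff_X_add_C_pow, coeff_X_add_C_pow]
  have c1 : Nat.choose 27 26 = 27 := by decide
  have c2 : Nat.choose 27 25 = 351 := by decide
  rw [c1, c2]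
  constructor
  · norm_num
    linear_combination (-14) * h2
  · norm_num
    linear_combination 175 * h2

end co

/-- from the table of the eigenvalues to `CP` -/
theorem cpV {N : ℕ} (hN : 0 < N) {T : List ℕ} {a b : ℕ} (hT : ∀ c < N, 0 < c → T.getD c 0 = b)
    (hT0 : T.getD 0 0 = a) {ζ : (AlgebraicClosure K)ˣ} (hζ : IsPrimitiveRoot ζ N)
    (h : A.charpoly.map (algebraMap K (AlgebraicClosure K)) =
        ∏ c ∈ Finset.range N, (X - C (((ζ ^ c : (AlgebraicClosure K)ˣ)) : AlgebraicClosure K)) ^ (T.getD c 0)) :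
    CP A N a b := by
  have hζ' : IsPrimitiveRoot ((ζ : (AlgebraicClosure K)ˣ) : AlgebraicClosure K) N := IsPrimitiveRoot.coe_units_iff.2 hζ
  simp only [Units.val_pow_eq_pow_val] at h
  show A.charpoly * (X - 1) ^ b = (X - 1) ^ a * (X ^ N - 1) ^ b
  refine Polynomial.map_injective _ (algebraMap K (AlgebraicClosure K)).injective ?_
  rw [Polynomial.map_mul, h]
  simp only [Polynomial.map_mul, Polynomial.map_pow, Polynomial.map_sub, Polynomial.map_one, Polynomial.map_X]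
  rw [← prod_range_root hN hζ', ← Finset.prod_pow]
  obtain ⟨n, rfl⟩ := Nat.exists_eq_succ_of_ne_zero hN.ne'
  rw [Finset.prod_range_succ', Finset.prod_range_succ']
  have h1 : ∏ c ∈ Finset.range n, (X - C (((ζ : (AlgebraicClosure K)ˣ) : AlgebraicClosure K) ^ (c + 1))) ^ (T.getD (c + 1) 0) =
      ∏ c ∈ Finset.range n, (X - C (((ζ : (AlgebraicClosure K)ˣ) : AlgebraicClosure K) ^ (c + 1))) ^ b := by
    refine Finset.prod_congr rfl fun c hc => ?_
    rw [hT (c + 1) (Nat.succ_lt_succ (Finset.mem_range.1 hc)) (Nat.succ_pos c)]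
  rw [h1, pow_zero, C_1, hT0]
  generalize (X - 1 : (AlgebraicClosure K)[X]) = A0
  generalize (∏ c ∈ Finset.range n, (X - C (((ζ : (AlgebraicClosure K)ˣ) : AlgebraicClosure K) ^ (c + 1))) ^ b :
    (AlgebraicClosure K)[X]) = B
  ring

end Cfsg.Agent.H898.TSVP
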