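import Mathlib
import Cfsg.Agent.H898.TSVP
import Cfsg.Agent.H898.TSSz
import Cfsg.Agent.H898.TSSzGrp
import Cfsg.Agent.H898.TSNotL27

/-!
# `Sz(8)` is not a subgroup of `²E₆(2)` (S5741, task 992; helper898)
-/

set_option autoImplicit false

namespace Cfsg.Agent.H898.TSSzNot

open Cfsg Cfsg.Lie Cfsg.Agent.OrdDiv Cfsg.Agent.H944.TS Cfsg.Agent.H898.TSRank Module
open Cfsg.Agent.ChevalleyStructure.E6Min.Tables Cfsg.Agent.ChevalleyStructure.E6Min.Basic
  Cfsg.Agent.ChevalleyStructure.E6Min.Adjoint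
open Cfsg.Agent.H898.TSVDiag Cfsg.Agent.H898.TSVTab Cfsg.Agent.H898.TSVE Cfsg.Agent.H898.TSVP

universe u

/-! ### the kernel -/

theorem chk_conn : ∀ x : I27, ∃ r : Fin 72, (x = dec 0 ∨ (sg r x ≠ 0 ∧ sr r x = dec 0)) ∨
    ∃ s : Fin 72, sg r x ≠ 0 ∧ sg s (sr r x) ≠ 0 ∧ sr s (sr r x) = dec 0 := by
  decide +kernel

/-- Matrices commuting with all the `N_r` are scalar. -/
theorem scalar_of_comm {F : Type*} [Field F] {g : Matrix I27 I27 F}
    (h : ∀ r < 72, g * Nm F r = Nm F r * g) : g = Matrix.diagonal fun _ => g (dec 0) (dec 0) := by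
  -- off diagonal
  have hoff : ∀ x y, x ≠ y → g x y = 0 := by
    intro x y hxy
    obtain ⟨r, h1, h2⟩ := chk_sep x y hxy
    have h3 : g * (Nm F r * Nm F (71 - r)) = (Nm F r * Nm F (71 - r)) * g := by
      rw [← mul_assoc, h r r.2, mul_assoc, h (71 - r) (by omega), ← mul_assoc]
    rw [Nm_mul_opp r.2] at h3
    have h4 := congrFun (congrFun h3 x) y
    rw [Matrix.mul_diagonal, Matrix.diagonal_mul, ind_of_ne h1, ind_of_eq h2] at h4
    simpa using h4.symm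
  have hstep : ∀ (r : ℕ), r < 72 → ∀ x : I27, sg r x ≠ 0 → g x x = g (sr r x) (sr r x) := by
    intro r hr x hx
    have h3 := congrFun (congrFun (h r hr) x) (sr r x)
    rw [Nm_mul_apply, Matrix.mul_apply, Finset.sum_eq_single x] at h3
    · rw [Nm_apply, if_pos rfl, mul_comm] at h3
      exact mul_left_cancel₀ (sg_ne_zero hr hx) h3
    · intro z _ hz
      rw [hoff x z hz.symm, zero_mul]
    · intro h; exact absurd (Finset.mem_univ _) h
  ext x y
  rcases eq_or_ne x y with rfl | hxy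
  · rw [Matrix.diagonal_apply_eq]
    obtain ⟨r, h1 | ⟨s, h1, h2, h3⟩⟩ := chk_conn x
    · rcases h1 with h1 | ⟨h1, h2⟩
      · rw [h1]
      · rw [hstep r r.2 x h1, h2]
    · rw [hstep r r.2 x h1, hstep s s.2 _ h2, h3]
  · rw [Matrix.diagonal_apply_ne _ hxy, hoff x y hxy]

theorem pow_eq_one_of_ker {F : Type*} [Field F] [Fintype F] {g : Zgrp F} (hg : g ∈ (ad F).ker) :
    g ^ (Fintype.card F - 1) = 1 := by
  have h0 : ∀ r < 72, ((g : GL I27 F) : Matrix I27 I27 F) * Nm F r =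
      Nm F r * ((g : GL I27 F) : Matrix I27 I27 F) := fun r hr =>
    comm_B_of_ker (MonoidHom.mem_ker.1 hg) (Sum.inr ⟨r, hr⟩)
  have h1 := scalar_of_comm h0
  have hc : ((g : GL I27 F) : Matrix I27 I27 F) (dec 0) (dec 0) ≠ 0 := by
    intro hc
    rw [hc] at h1
    have h2 : ((g : GL I27 F) : Matrix I27 I27 F) = 0 := by
      rw [h1]; ext i j; simp [Matrix.diagonal_apply]
    have h3 := (g : GL I27 F).isUnit
    rw [h2] at h3
    exact not_isUnit_zero h3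
  apply Subtype.ext
  apply Units.ext
  change (((g : GL I27 F) ^ (Fintype.card F - 1) : GL I27 F) : Matrix I27 I27 F) = 1
  rw [Units.val_pow_eq_pow_val, h1, Matrix.diagonal_pow, ← Matrix.diagonal_one]
  congr 1
  funext i
  rw [Pi.pow_apply]
  exact FiniteField.pow_card_sub_one_eq_one _ hc

/-! ### fixed spaces -/

section fix

variable {k V G : Type*} [Field k] [AddCommGroup V] [Module k V] [FiniteDimensional k V] [Group G] (ρ : G →* End k V)

theorem fx_conj_le (x g : G) : fx (ρ (x * g * x⁻¹)) ≤ fx (ρ g) := by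
  have key : ∀ v ∈ (ρ (x * g * x⁻¹) - 1).ker, ρ x⁻¹ v ∈ (ρ g - 1).ker := by
    intro v hv
    rw [mem_fx] at hv ⊢
    calc ρ g (ρ x⁻¹ v) = (ρ g * ρ x⁻¹) v := rfl
      _ = (ρ x⁻¹ * ρ (x * g * x⁻¹)) v := by rw [← map_mul, ← map_mul]; congr 2; group
      _ = ρ x⁻¹ (ρ (x * g * x⁻¹) v) := rfl
      _ = ρ x⁻¹ v := by rw [hv]
  unfold fx
  refine LinearMap.finrank_le_finrank_of_injective (f := (ρ x⁻¹).restrict key) ?_
  intro v w hvw
  have h1 : ρ x⁻¹ (v : V) = ρ x⁻¹ (w : V) := congrArg Subtype.val hvw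
  have h2 : ∀ u : V, ρ x (ρ x⁻¹ u) = u := by
    intro u
    calc ρ x (ρ x⁻¹ u) = (ρ x * ρ x⁻¹) u := rfl
      _ = u := by rw [← map_mul, mul_inv_cancel, map_one]; rfl
  apply Subtype.ext
  rw [← h2 v, h1, h2]

theorem fx_conj (x g : G) : fx (ρ (x * g * x⁻¹)) = fx (ρ g) := by
  apply le_antisymm (fx_conj_le ρ x g)
  have h1 := fx_conj_le ρ x⁻¹ (x * g * x⁻¹)
  have h2 : x⁻¹ * (x * g * x⁻¹) * x⁻¹⁻¹ = g := by group
  rwa [h2] at h1

theorem fx_pow_le (g : G) (n : ℕ) : (ρ g - 1).ker ≤ (ρ (g ^ n) - 1).ker := by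
  intro v hv
  rw [mem_fx] at hv ⊢
  induction n with
  | zero => rw [pow_zero, map_one]; rfl
  | succ n ih =>
    rw [pow_succ, map_mul]
    show ρ (g ^ n) (ρ g v) = v
    rw [hv, ih]

theorem fx_pow {g : G} {n m : ℕ} (h : (g ^ n) ^ m = g) : fx (ρ (g ^ n)) = fx (ρ g) := by
  unfold fx
  have h1 : (ρ (g ^ n) - 1).ker = (ρ g - 1).ker := by
    apply le_antisymm
    · have := fx_pow_le ρ (g ^ n) m
      rwa [h] at this
    · exact fx_pow_le ρ g n
  rw [h1]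

end fix

theorem card27 : Fintype.card I27 = 27 := by decide

/-! ### the values -/

section data

variable {K : Type u} [Field K] [Fintype K]

theorem data5 (hK : Fintype.card K = 4) [CharP K 2] {z : ↥(Zgrp K)} (hz : z ^ 5 = 1)
    (hx : ((ad K z : ↥(chevE6.group K)) : GL chevE6.Idx K) ∈ twistedE6 K 2) (h1 : ad K z ≠ 1) :
    ((z : GL I27 K) : Matrix I27 I27 K).trace = 0 ∧ TSETwo.e2 ((z : GL I27 K) : Matrix I27 I27 K) = 1 := by
  obtain ⟨T, hT, ζ, hζ, ho, hr, hc⟩ := eigV hK (N := 5) (by norm_num) (by norm_num) (by norm_num) (by norm_num) v5 hz hx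
  simp only [List.mem_cons, List.not_mem_nil, or_false] at hT
  rcases hT with hT | hT
  · subst hT
    exact five card27 (cpV (by norm_num) (by decide) rfl hζ hc)
  · subst hT
    exact absurd (ho rfl) h1

theorem data13 (hK : Fintype.card K = 4) [CharP K 2] {z : ↥(Zgrp K)} (hz : z ^ 13 = 1)
    (hx : ((ad K z : ↥(chevE6.group K)) : GL chevE6.Idx K) ∈ twistedE6 K 2) (h1 : ad K z ≠ 1) :
    ((z : GL I27 K) : Matrix I27 I27 K).trace = 1 ∧ TSETwo.e2 ((z : GL I27 K) : Matrix I27 I27 K) = 0 := by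
  obtain ⟨T, hT, ζ, hζ, ho, hr, hc⟩ := eigV hK (N := 13) (by norm_num) (by norm_num) (by norm_num) (by norm_num) v13 hz hx
  simp only [List.mem_cons, List.not_mem_nil, or_false] at hT
  rcases hT with hT | hT
  · subst hT
    exact thirteen card27 (cpV (by norm_num) (by decide) rfl hζ hc)
  · subst hT
    exact absurd (ho rfl) h1

theorem data7 (hK : Fintype.card K = 4) [CharP K 2] {z : ↥(Zgrp K)} (hz : z ^ 7 = 1)
    (hx : ((ad K z : ↥(chevE6.group K)) : GL chevE6.Idx K) ∈ twistedE6 K 2) (h1 : ad K z ≠ 1)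
    (hre : (((z : GL I27 K)⁻¹ : GL I27 K) : Matrix I27 I27 K).charpoly = ((z : GL I27 K) : Matrix I27 I27 K).charpoly) :
    Eig.CP ((z : GL I27 K) : Matrix I27 I27 K) 7 9 3 ∨ Eig.CP ((z : GL I27 K) : Matrix I27 I27 K) 7 3 4 := by
  obtain ⟨T, hT, ζ, hζ, ho, hr, hc⟩ := eigV hK (N := 7) (by norm_num) (by norm_num) (by norm_num) (by norm_num) v7 hz hx
  have hr' := hr hre
  simp only [List.mem_cons, List.not_mem_nil, or_false] at hT
  rcases hT with hT | hT | hT | hT | hT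
  · subst hT
    exact Or.inr (cpV (by norm_num) (by decide) rfl hζ hc)
  · subst hT
    exact Or.inl (cpV (by norm_num) (by decide) rfl hζ hc)
  · subst hT
    have := hr' 1 (by norm_num)
    exact absurd this (by decide)
  · subst hT
    have := hr' 1 (by norm_num)
    exact absurd this (by decide)
  · subst hT
    exact absurd (ho rfl) h1

end data

/-- **`Sz(8)` is not a subgroup of `²E₆(2)`.** -/
theorem not_sz {K : Type u} [Field K] [Fintype K] (hK : Fintype.card K = 4) : NotE K (.sz 8) := by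
  classical
  rintro L ⟨F, iF, iF', m, hm, hF, h2, ⟨e0⟩⟩
  have hch : CharP K 2 := Cfsg.Agent.H898.TSNotL27.charTwo hK
  have h2k : (2 : K) = 0 := by
    have := CharP.cast_eq_zero K 2
    exact_mod_cast this
  have hm1 : m = 1 := by
    have h4 : 2 ^ 3 = 2 ^ (2 * m + 1) := h2
    have := Nat.pow_right_injective (le_refl 2) h4
    omega
  subst hm1
  have e : ↥L ≃* ↥(Cfsg.Lie.Sz F 4) := e0
  have hchF : CharP F 2 := by
    obtain ⟨p, hp⟩ := CharP.exists F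
    obtain ⟨n, hn, h⟩ := FiniteField.card F p
    rw [hF] at h
    have h1 : p ∣ 2 ^ 3 := by
      have : (8 : ℕ) = 2 ^ 3 := by norm_num
      rw [← this, h]; exact dvd_pow_self p n.2.ne'
    rw [(Nat.prime_dvd_prime_iff_eq hn (by norm_num)).mp (hn.dvd_of_dvd_pow h1)] at hp
    exact hp
  have h8 : ∀ x : F, x ^ 8 = x := by
    intro x
    rw [← hF]; exact FiniteField.pow_card x
  obtain ⟨a, ha⟩ := Cfsg.Agent.H422.SzEight.exists_root h8 hF
  -- the homomorphism to the Chevalley group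
  let ψ : ↥(Cfsg.Lie.Sz F 4) →* GL chevE6.Idx K := (twistedE6 K 2).subtype.comp (L.subtype.comp e.symm.toMonoidHom)
  have hψm : ∀ g, ψ g ∈ twistedE6 K 2 := fun g => ((e.symm g : ↥L) : ↥(twistedE6 K 2)).2
  have hψi : Function.Injective ψ :=
    (Subgroup.subtype_injective _).comp ((Subgroup.subtype_injective _).comp e.symm.injective)
  let χ : ↥(Cfsg.Lie.Sz F 4) →* ↥(chevE6.group K) :=
    ψ.codRestrict (chevE6.group K) fun g => Cfsg.Agent.BpExc.FamTw.Six.twisted_le_group 2 (hψm g)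
  have hχ : ∀ g, ((χ g : ↥(chevE6.group K)) : GL chevE6.Idx K) = ψ g := fun g => rfl
  have hχ1 : ∀ g, g ≠ 1 → χ g ≠ 1 := by
    intro g hg h
    apply hg
    apply hψi
    rw [map_one, ← hχ, h]
    rfl
  -- the lift
  obtain ⟨φ, hφ⟩ := Cfsg.Agent.H898.TSSzGrp.exists_lift (ad K) ad_surjective χ (by
    have h3 : IsPGroup 3 (ad K).ker := by
      intro x
      refine ⟨1, ?_⟩
      have h4 := pow_eq_one_of_ker x.2
      rw [hK] at h4
      exact Subtype.ext h4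
    have : Fact (Nat.Prime 3) := ⟨Nat.prime_three⟩
    obtain ⟨n, hn⟩ := IsPGroup.iff_card.1 h3
    rw [hn]
    exact Nat.Coprime.pow_left n ((Nat.Prime.coprime_iff_not_dvd Nat.prime_three).2
      (Cfsg.Agent.H422.SzEight.not_three h8)))
  let φ' : ↥(Cfsg.Lie.Sz F 4) →* GL I27 K := (Zgrp K).subtype.comp φ
  have hx : ∀ g, ((ad K (φ g) : ↥(chevE6.group K)) : GL chevE6.Idx K) ∈ twistedE6 K 2 := by
    intro g
    rw [hφ, hχ]
    exact hψm g
  have hne : ∀ g, g ≠ 1 → ad K (φ g) ≠ 1 := by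
    intro g hg
    rw [hφ]
    exact hχ1 g hg
  -- the elements of order 7
  obtain ⟨t, w, ht, hw, hconj⟩ := Cfsg.Agent.H898.TSSzGrp.exists_seven h8 hF
  have hord : ∀ g : ↥(Cfsg.Lie.Sz F 4), g ^ 7 = 1 → g ≠ 1 → orderOf g = 7 := by
    intro g hg h1
    have : Fact (Nat.Prime 7) := ⟨by norm_num⟩
    exact orderOf_eq_prime hg h1
  have hreal : ∀ g : ↥(Cfsg.Lie.Sz F 4), g ^ 7 = 1 → g ≠ 1 → ∃ u, g⁻¹ = u * g * u⁻¹ := by
    intro g hg h1
    obtain ⟨x, j, hj⟩ := hconj g (hord g hg h1)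
    refine ⟨x * w * x⁻¹, ?_⟩
    have h3 : (t ^ j)⁻¹ = w * t ^ j * w⁻¹ := by rw [← conj_pow, hw, inv_pow]
    rw [hj]
    calc (x * t ^ j * x⁻¹)⁻¹ = x * (t ^ j)⁻¹ * x⁻¹ := by group
      _ = x * (w * t ^ j * w⁻¹) * x⁻¹ := by rw [h3]
      _ = _ := by group
  have hrecp : ∀ g : ↥(Cfsg.Lie.Sz F 4), g ^ 7 = 1 → g ≠ 1 →
      ((((φ g : ↥(Zgrp K)) : GL I27 K)⁻¹ : GL I27 K) : Matrix I27 I27 K).charpoly =
        (((φ g : ↥(Zgrp K)) : GL I27 K) : Matrix I27 I27 K).charpoly := by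
    intro g hg h1
    obtain ⟨y, hy⟩ := hreal g hg h1
    have h3 : ((φ g : ↥(Zgrp K)) : GL I27 K)⁻¹ = φ' y * φ' g * (φ' y)⁻¹ := by
      rw [← map_inv φ' y, ← map_mul, ← map_mul, ← hy, map_inv]
      rfl
    rw [h3, Units.val_mul, Units.val_mul, Matrix.coe_units_inv, Matrix.charpoly_units_conj]
    rfl
  let ρ := Cfsg.Agent.H898.TSNotL27.rep (RingHom.id K) φ'
  have hfx : ∀ g : ↥(Cfsg.Lie.Sz F 4), g ^ 7 = 1 → g ≠ 1 → fx (ρ g) = fx (ρ t) := by
    intro g hg h1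
    obtain ⟨x, j, hj⟩ := hconj g (hord g hg h1)
    have h3 : Nat.Coprime j (orderOf t) := by
      rw [ht]
      apply Nat.Coprime.symm
      rw [Nat.Prime.coprime_iff_not_dvd (by norm_num)]
      rintro ⟨i, rfl⟩
      apply h1
      rw [hj, pow_mul, ← ht, pow_orderOf_eq_one, one_pow, mul_one, mul_inv_cancel]
    obtain ⟨i, hi⟩ := exists_pow_eq_self_of_coprime h3
    rw [hj, fx_conj ρ, fx_pow ρ hi]
  have hcase : ∀ g : ↥(Cfsg.Lie.Sz F 4), g ^ 7 = 1 → g ≠ 1 →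
      (Eig.CP ((φ' g : GL I27 K) : Matrix I27 I27 K) 7 9 3 ∧ fx (ρ g) = 9) ∨
      (Eig.CP ((φ' g : GL I27 K) : Matrix I27 I27 K) 7 3 4 ∧ fx (ρ g) = 3) := by
    intro g hg h1
    rcases data7 hK (by rw [← map_pow, hg, map_one]) (hx g) (hne g h1) (hrecp g hg h1) with h | h
    · exact Or.inl ⟨h, (Cfsg.Agent.H898.TSNotL27.fx_of h2k (RingHom.id K) φ' (by norm_num) hg h).1⟩
    · exact Or.inr ⟨h, (Cfsg.Agent.H898.TSNotL27.fx_of h2k (RingHom.id K) φ' (by norm_num) hg h).1⟩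
  have ht7 : t ^ 7 = 1 := by rw [← ht, pow_orderOf_eq_one]
  have ht1 : t ≠ 1 := by
    intro h
    rw [h, orderOf_one] at ht
    omega
  have hfour : ∀ g : ↥(Cfsg.Lie.Sz F 4), g ^ 4 = 1 → (φ' g).1.trace = 1 ∧ TSETwo.e2 (φ' g).1 = 1 := by
    intro g hg
    refine four card27 hK ?_
    have h3 : (φ' g) ^ 4 = 1 := by rw [← map_pow, hg, map_one]
    have := congrArg Units.val h3
    rwa [Units.val_pow_eq_pow_val] at this
  have hfive : ∀ g : ↥(Cfsg.Lie.Sz F 4), g ^ 5 = 1 → g ≠ 1 → (φ' g).1.trace = 0 ∧ TSETwo.e2 (φ' g).1 = 1 :=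
    fun g hg h1 => data5 hK (by rw [← map_pow, hg, map_one]) (hx g) (hne g h1)
  have hthirteen : ∀ g : ↥(Cfsg.Lie.Sz F 4), g ^ 13 = 1 → g ≠ 1 → (φ' g).1.trace = 1 ∧ TSETwo.e2 (φ' g).1 = 0 :=
    fun g hg h1 => data13 hK (by rw [← map_pow, hg, map_one]) (hx g) (hne g h1)
  rcases hcase t ht7 ht1 with ⟨-, h9⟩ | ⟨-, h9⟩
  · refine Cfsg.Agent.H898.TSSz.false_core h8 (φ := φ') (B := 0) hF (by rw [card27]; norm_num) ha (Or.inl rfl)
      ⟨hfour, hfive, fun g hg h1 => ?_, hthirteen⟩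
    rcases hcase g hg h1 with ⟨h, -⟩ | ⟨-, h⟩
    · have := seven_a card27 h
      rwa [Nat.cast_zero]
    · rw [hfx g hg h1, h9] at h
      omega
  · refine Cfsg.Agent.H898.TSSz.false_core h8 (φ := φ') (B := 1) hF (by rw [card27]; norm_num) ha (Or.inr rfl)
      ⟨hfour, hfive, fun g hg h1 => ?_, hthirteen⟩
    rcases hcase g hg h1 with ⟨-, h⟩ | ⟨h, -⟩
    · rw [hfx g hg h1, h9] at h
      omega
    · have := seven_b card27 h
      rwa [Nat.cast_one]

end Cfsg.Agent.H898.TSSzNot
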